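import Mathlib
import Cfsg.Prelude.Def_Solvable

set_option autoImplicit false

namespace Cfsg.Agent.Lib.Helper71

open Subgroup
open scoped commutatorElement

variable {G : Type*} [Group G]

/-- If `⁅H i, K⁆ ≤ N` for all `i` and `N` is normal then `⁅⨆ i, H i, K⁆ ≤ N`. -/
theorem commutator_iSup_le {ι : Sort*} (H : ι → Subgroup G) (K N : Subgroup G) [hN : N.Normal]
    (h : ∀ i, ⁅H i, K⁆ ≤ N) : ⁅⨆ i, H i, K⁆ ≤ N := by
  rw [Subgroup.commutator_le]
  intro t ht g hg
  refine Subgroup.iSup_induction H (C := fun t : G => ⁅t, g⁆ ∈ N) ht ?_ ?_ ?_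
  · intro i x hx
    exact h i (Subgroup.commutator_mem_commutator hx hg)
  · simp
  · intro x y ihx ihy
    rw [commutatorElement_mul_left_eq_conj_mul]
    exact N.mul_mem (hN.conj_mem _ ihy x) ihx

/-- Binary version of `commutator_iSup_le`. -/
theorem commutator_sup_le (H₁ H₂ K N : Subgroup G) [hN : N.Normal]
    (h₁ : ⁅H₁, K⁆ ≤ N) (h₂ : ⁅H₂, K⁆ ≤ N) : ⁅H₁ ⊔ H₂, K⁆ ≤ N := by
  rw [sup_eq_iSup]
  apply commutator_iSup_le
  intro b
  cases b <;> simpa

/-- Binary version of `commutator_iSup_le`, on the right. -/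
theorem commutator_sup_le' (H₁ H₂ K N : Subgroup G) [hN : N.Normal]
    (h₁ : ⁅K, H₁⁆ ≤ N) (h₂ : ⁅K, H₂⁆ ≤ N) : ⁅K, H₁ ⊔ H₂⁆ ≤ N := by
  rw [Subgroup.commutator_comm]
  apply commutator_sup_le
  · rwa [Subgroup.commutator_comm]
  · rwa [Subgroup.commutator_comm]

/-- The auxiliary series `⊤, A, γ₂(A), γ₃(A), ...`. -/
def lcsShift (A : Subgroup G) : ℕ → Subgroup G
  | 0 => ⊤
  | n + 1 => A.lowerCentralSeries n

instance lcsShift_normal (A : Subgroup G) [A.Normal] (n : ℕ) : (lcsShift A n).Normal := by
  cases n with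
  | zero => exact Subgroup.normal_top
  | succ n => exact Subgroup.lowerCentralSeries_normal A n

theorem lcsShift_comm_self_le (A : Subgroup G) [A.Normal] (n : ℕ) :
    ⁅lcsShift A n, A⁆ ≤ lcsShift A (n + 1) := by
  cases n with
  | zero => exact Subgroup.commutator_le_right _ _
  | succ n => exact le_of_eq rfl

theorem lcsShift_comm_le (A B : Subgroup G) [A.Normal] (n : ℕ) :
    ⁅lcsShift A n, B⁆ ≤ lcsShift A n := Subgroup.commutator_le_left _ _

theorem lcsShift_eq_bot (A : Subgroup G) {c n : ℕ} (hc : A.lowerCentralSeries c = ⊥)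
    (hn : c + 1 ≤ n) : lcsShift A n = ⊥ := by
  obtain ⟨m, rfl⟩ : ∃ m, n = m + 1 := ⟨n - 1, by omega⟩
  have : A.lowerCentralSeries m ≤ A.lowerCentralSeries c :=
    A.lowerCentralSeries_antitone (by omega)
  rw [hc] at this
  exact le_bot_iff.mp this

/-- The bounding series for the lower central series of `A ⊔ B`. -/
def fitT (A B : Subgroup G) (n : ℕ) : Subgroup G :=
  ⨆ (i : ℕ) (j : ℕ) (_ : i + j = n + 1), lcsShift A i ⊓ lcsShift B j

instance fitT_normal (A B : Subgroup G) [A.Normal] [B.Normal] (n : ℕ) : (fitT A B n).Normal := by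
  unfold fitT
  infer_instance

theorem le_fitT (A B : Subgroup G) {n i j : ℕ} (h : i + j = n + 1) :
    lcsShift A i ⊓ lcsShift B j ≤ fitT A B n := by
  unfold fitT
  exact le_iSup_of_le i (le_iSup_of_le j (le_iSup_of_le h le_rfl))

theorem lcs_sup_le_fitT (A B : Subgroup G) [A.Normal] [B.Normal] (n : ℕ) :
    (A ⊔ B).lowerCentralSeries n ≤ fitT A B n := by
  induction n with
  | zero =>
    rw [Subgroup.lowerCentralSeries_zero]
    apply sup_le
    · refine le_trans ?_ (le_fitT A B (i := 1) (j := 0) rfl)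
      simp [lcsShift]
    · refine le_trans ?_ (le_fitT A B (i := 0) (j := 1) rfl)
      simp [lcsShift]
  | succ n ih =>
    rw [Subgroup.lowerCentralSeries_succ]
    refine le_trans (Subgroup.commutator_mono ih le_rfl) ?_
    unfold fitT
    apply commutator_iSup_le
    intro i
    apply commutator_iSup_le
    intro j
    apply commutator_iSup_le
    intro hij
    change _ ≤ fitT A B (n + 1)
    apply commutator_sup_le'
    · refine le_trans ?_ (le_fitT A B (i := i + 1) (j := j) (by omega))
      apply le_inf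
      · exact le_trans (Subgroup.commutator_mono inf_le_left le_rfl) (lcsShift_comm_self_le A i)
      · exact le_trans (Subgroup.commutator_mono inf_le_right le_rfl) (lcsShift_comm_le B A j)
    · refine le_trans ?_ (le_fitT A B (i := i) (j := j + 1) (by omega))
      apply le_inf
      · exact le_trans (Subgroup.commutator_mono inf_le_left le_rfl) (lcsShift_comm_le A B i)
      · exact le_trans (Subgroup.commutator_mono inf_le_right le_rfl) (lcsShift_comm_self_le B j)

/-- **Fitting's theorem**: the join of two normal nilpotent subgroups is nilpotent. -/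
theorem isNilpotent_sup_of_normal (A B : Subgroup G) [A.Normal] [B.Normal]
    (hA : Group.IsNilpotent A) (hB : Group.IsNilpotent B) : Group.IsNilpotent (A ⊔ B : Subgroup G) := by
  obtain ⟨c, hc⟩ := (Subgroup.isNilpotent_iff_lowerCentralSeries A).mp hA
  obtain ⟨d, hd⟩ := (Subgroup.isNilpotent_iff_lowerCentralSeries B).mp hB
  apply Subgroup.isNilpotent_of_lowerCentralSeries_eq_bot (n := c + d)
  rw [eq_bot_iff]
  refine le_trans (lcs_sup_le_fitT A B (c + d)) ?_
  unfold fitT
  apply iSup_le; intro i
  apply iSup_le; intro j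
  apply iSup_le; intro hij
  by_cases hi : c + 1 ≤ i
  · rw [lcsShift_eq_bot A hc hi]; simp
  · rw [lcsShift_eq_bot B hd (by omega : d + 1 ≤ j)]; simp

instance fittingSubgroup_normal : (Cfsg.fittingSubgroup G).Normal :=
  Subgroup.sSup_normal _ (fun _ h => h.1)

/-- The Fitting subgroup of a finite group is nilpotent. -/
theorem fittingSubgroup_isNilpotent [Finite G] : Group.IsNilpotent (Cfsg.fittingSubgroup G) := by
  classical
  have hfin : ({N : Subgroup G | N.Normal ∧ Group.IsNilpotent N}).Finite := Set.toFinite _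
  have key : ∀ s : Set (Subgroup G), s.Finite → (∀ N ∈ s, N.Normal ∧ Group.IsNilpotent N) →
      (sSup s).Normal ∧ Group.IsNilpotent (sSup s : Subgroup G) := by
    intro s hs
    induction s, hs using Set.Finite.induction_on with
    | empty =>
      intro _
      rw [sSup_empty]
      exact ⟨Subgroup.normal_bot, inferInstance⟩
    | insert ha hs ih =>
      intro h
      rw [sSup_insert]
      obtain ⟨h1, h2⟩ := ih (fun N hN => h N (Set.mem_insert_of_mem _ hN))
      obtain ⟨h3, h4⟩ := h _ (Set.mem_insert _ _)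
      exact ⟨inferInstance, isNilpotent_sup_of_normal _ _ h4 h2⟩
  exact (key _ hfin (fun N hN => hN)).2

/-- In a finite nilpotent group, `x ^ [N : K] ∈ K` for every subgroup `K`. -/
theorem pow_index_mem_of_isNilpotent {N : Type*} [Group N] [Finite N] [hN : Group.IsNilpotent N]
    (K : Subgroup N) (x : N) : x ^ K.index ∈ K := by
  induction' h : K.index using Nat.strong_induction_on with n ih generalizing K
  by_cases hK : K = ⊤
  · subst hK; simp
  · have hnc := Group.normalizerCondition_of_isNilpotent (G := N) K (lt_top_iff_ne_top.mpr hK)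
    set K1 := Subgroup.normalizer (K : Set N) with hK1
    have hlt : K1.index < n := by
      rw [← h]
      exact Subgroup.index_strictAnti hnc
    have h1 : x ^ K1.index ∈ K1 := ih _ hlt K1 rfl
    have h2 : K.relIndex K1 * K1.index = K.index := Subgroup.relIndex_mul_index hnc.le
    have h3 : (⟨x ^ K1.index, h1⟩ : K1) ^ (K.subgroupOf K1).index ∈ K.subgroupOf K1 := by
      have : (K.subgroupOf K1).Normal := Subgroup.normal_in_normalizer
      exact Subgroup.pow_index_mem _ _
    rw [Subgroup.mem_subgroupOf] at h3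
    rw [← h, ← h2, mul_comm, pow_mul]
    simpa [Subgroup.relIndex] using h3

/-- For a normal subgroup `F` of a finite group, `[F : H ∩ F] = [HF : H]`. -/
theorem relIndex_sup_eq_of_normal [Finite G] (H F : Subgroup G) [F.Normal] :
    H.relIndex (H ⊔ F) = H.relIndex F := by
  have e1 : Nat.card (H ⊓ F : Subgroup G) * H.relIndex F = Nat.card F := by
    have := Subgroup.relIndex_mul_relIndex (H := ⊥) (K := H ⊓ F) (L := F) bot_le inf_le_right
    rwa [Subgroup.relIndex_bot_left, Subgroup.relIndex_bot_left, Subgroup.inf_relIndex_right] at this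
  have e2 : Nat.card (H ⊓ F : Subgroup G) * F.relIndex H = Nat.card H := by
    have := Subgroup.relIndex_mul_relIndex (H := ⊥) (K := H ⊓ F) (L := H) bot_le inf_le_left
    rwa [Subgroup.relIndex_bot_left, Subgroup.relIndex_bot_left, Subgroup.inf_relIndex_left] at this
  have e3 : Nat.card F * F.relIndex H = Nat.card (H ⊔ F : Subgroup G) := by
    have := Subgroup.relIndex_mul_relIndex (H := ⊥) (K := F) (L := H ⊔ F) bot_le le_sup_right
    rwa [Subgroup.relIndex_bot_left, Subgroup.relIndex_bot_left, Subgroup.relIndex_sup_right] at this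
  have e4 : Nat.card H * H.relIndex (H ⊔ F) = Nat.card (H ⊔ F : Subgroup G) := by
    have := Subgroup.relIndex_mul_relIndex (H := ⊥) (K := H) (L := H ⊔ F) bot_le le_sup_left
    rwa [Subgroup.relIndex_bot_left, Subgroup.relIndex_bot_left] at this
  have hpos : 0 < Nat.card H := Nat.card_pos
  have : Nat.card H * H.relIndex (H ⊔ F) = Nat.card H * H.relIndex F := by
    rw [e4, ← e3, ← e1, ← e2]; ring
  exact Nat.eq_of_mul_eq_mul_left hpos this

/-- For a normal subgroup `F` of a finite group, `[F : H ∩ F]` divides `[G : H]`. -/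
theorem relIndex_dvd_index_of_normal_right [Finite G] (H F : Subgroup G) [F.Normal] :
    H.relIndex F ∣ H.index := by
  rw [← relIndex_sup_eq_of_normal H F]
  exact Subgroup.relIndex_dvd_index_of_le le_sup_left

/-- If `F` is a normal nilpotent subgroup of the finite group `G`, then `x ^ [G : H] ∈ H` for all
`x ∈ F` and all subgroups `H`. -/
theorem pow_index_mem_of_mem_normal_nilpotent [Finite G] (F : Subgroup G) [F.Normal]
    (hF : Group.IsNilpotent F) {x : G} (hx : x ∈ F) (H : Subgroup G) : x ^ H.index ∈ H := by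
  have h1 := pow_index_mem_of_isNilpotent (H.subgroupOf F) ⟨x, hx⟩
  rw [Subgroup.mem_subgroupOf] at h1
  obtain ⟨k, hk⟩ := relIndex_dvd_index_of_normal_right H F
  rw [hk, pow_mul]
  apply H.pow_mem
  simpa [Subgroup.relIndex] using h1

end Cfsg.Agent.Lib.Helper71
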