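import Mathlib.GroupTheory.Sylow
import Mathlib.GroupTheory.QuotientGroup.Basic
import Cfsg.Prelude.Def_HallClasses
import Cfsg.Agent.Lib.Helper54.Coprime

set_option autoImplicit false

/-!
# Pronormal subgroups (helper71)

API around `Cfsg.IsPronormal`, phrased with `cj g K = K.map (MulAut.conj g).toMonoidHom`:
transport along homomorphisms, Sylow subgroups are pronormal, overgroups of self-normalising
Sylow subgroups, and the "extension" criterion for the property "all overgroups of Sylow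
`p`-subgroups are pronormal".
-/

namespace Cfsg.Agent.Lib.Helper71

open Cfsg

section basic

variable {G : Type*} [Group G]

/-- The conjugate `g H g⁻¹`. -/
abbrev cj (g : G) (H : Subgroup G) : Subgroup G := H.map (MulAut.conj g).toMonoidHom

theorem mem_cj {g x : G} {H : Subgroup G} : x ∈ cj g H ↔ g⁻¹ * x * g ∈ H := by
  constructor
  · rintro ⟨y, hy, rfl⟩
    simpa [mul_assoc] using hy
  · intro h
    exact ⟨g⁻¹ * x * g, h, by simp [mul_assoc]⟩

theorem cj_mul (a b : G) (H : Subgroup G) : cj (a * b) H = cj a (cj b H) := by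
  ext x
  simp only [mem_cj]
  rw [mul_inv_rev]
  simp only [mul_assoc]

theorem cj_one (H : Subgroup G) : cj 1 H = H := by
  ext x; simp

theorem cj_inv_cj (a : G) (H : Subgroup G) : cj a⁻¹ (cj a H) = H := by
  rw [← cj_mul, inv_mul_cancel, cj_one]

theorem cj_cj_inv (a : G) (H : Subgroup G) : cj a (cj a⁻¹ H) = H := by
  rw [← cj_mul, mul_inv_cancel, cj_one]

theorem cj_of_mem {h : G} {H : Subgroup G} (hh : h ∈ H) : cj h H = H := by
  ext x
  rw [mem_cj]
  constructor
  · intro hx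
    have := H.mul_mem (H.mul_mem hh hx) (H.inv_mem hh)
    simpa [mul_assoc] using this
  · intro hx
    exact H.mul_mem (H.mul_mem (H.inv_mem hh) hx) hh

theorem cj_eq_self_iff {g : G} {H : Subgroup G} :
    cj g H = H ↔ g ∈ Subgroup.normalizer (H : Set G) :=
  Subgroup.mem_normalizer_iff_map_conj_eq.symm

theorem cj_mono (g : G) {H K : Subgroup G} (h : H ≤ K) : cj g H ≤ cj g K :=
  Subgroup.map_mono h

theorem cj_le_of_mem {g : G} {H K : Subgroup G} (h : H ≤ K) (hg : g ∈ K) : cj g H ≤ K := by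
  have := cj_mono g h
  rwa [cj_of_mem hg] at this

theorem cj_normal (g : G) (A : Subgroup G) [hA : A.Normal] : cj g A = A :=
  cj_eq_self_iff.mpr (by rw [Subgroup.normalizer_eq_top]; exact Subgroup.mem_top g)

theorem cj_inf (g : G) (H K : Subgroup G) : cj g (H ⊓ K) = cj g H ⊓ cj g K :=
  Subgroup.map_inf H K _ (MulAut.conj g).injective

theorem cj_sup (g : G) (H K : Subgroup G) : cj g (H ⊔ K) = cj g H ⊔ cj g K :=
  Subgroup.map_sup H K _

theorem cj_injective (g : G) {H K : Subgroup G} (h : cj g H = cj g K) : H = K :=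
  Subgroup.map_injective (MulAut.conj g).injective h

theorem cj_normalizer (g : G) (H : Subgroup G) :
    cj g (Subgroup.normalizer (H : Set G)) = Subgroup.normalizer ((cj g H : Subgroup G) : Set G) := by
  ext x
  rw [mem_cj, ← cj_eq_self_iff, ← cj_eq_self_iff]
  constructor
  · intro h
    have : cj x (cj g H) = cj g (cj (g⁻¹ * x * g) H) := by
      rw [← cj_mul, ← cj_mul]; congr 1; group
    rw [this, h]
  · intro h
    apply cj_injective g
    rw [← cj_mul]
    have : g * (g⁻¹ * x * g) = x * g := by group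
    rw [this, cj_mul, h]

theorem card_cj [Finite G] (g : G) (H : Subgroup G) : Nat.card (cj g H) = Nat.card H :=
  Subgroup.card_map_of_injective (MulAut.conj g).injective

/-- Conjugation commutes with homomorphisms. -/
theorem map_cj {H : Type*} [Group H] (f : G →* H) (g : G) (K : Subgroup G) :
    (cj g K).map f = cj (f g) (K.map f) := by
  ext x
  constructor
  · rintro ⟨y, ⟨k, hk, rfl⟩, rfl⟩
    exact ⟨f k, ⟨k, hk, rfl⟩, by simp⟩
  · rintro ⟨y, ⟨k, hk, rfl⟩, rfl⟩
    exact ⟨MulAut.conj g k, ⟨k, hk, rfl⟩, by simp⟩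

/-- `K` and `g K g⁻¹` are conjugate by an element of their join. -/
def Good (K : Subgroup G) (g : G) : Prop :=
  ∃ x ∈ K ⊔ cj g K, cj g K = cj x K

theorem isPronormal_iff (K : Subgroup G) : IsPronormal K ↔ ∀ g, Good K g := Iff.rfl

theorem good_of_cj_eq {K : Subgroup G} {g g' : G} (h : cj g K = cj g' K) (hg : Good K g') :
    Good K g := by
  obtain ⟨x, hx, hxe⟩ := hg
  refine ⟨x, ?_, ?_⟩
  · rw [h]; exact hx
  · rw [h]; exact hxe

theorem good_of_mem_normalizer {K : Subgroup G} {g : G}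
    (h : g ∈ Subgroup.normalizer (K : Set G)) : Good K g :=
  ⟨1, one_mem _, by rw [cj_one, cj_eq_self_iff.mpr h]⟩

/-- Reduction step: replace `g` by `y⁻¹ g` for `y ∈ ⟨K, K^g⟩`. -/
theorem good_of_good_mul {K : Subgroup G} {g y : G} (hy : y ∈ K ⊔ cj g K)
    (h : Good K (y⁻¹ * g)) : Good K g := by
  obtain ⟨x, hx, hxe⟩ := h
  have hle : K ⊔ cj (y⁻¹ * g) K ≤ K ⊔ cj g K := by
    refine sup_le le_sup_left ?_
    rw [cj_mul]
    exact cj_le_of_mem le_sup_right (inv_mem hy)
  refine ⟨y * x, mul_mem hy (hle hx), ?_⟩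
  rw [cj_mul y x, ← hxe, ← cj_mul, mul_inv_cancel_left]

/-- Pronormality is invariant under conjugation. -/
theorem isPronormal_of_cj {K : Subgroup G} (c : G) (h : IsPronormal (cj c K)) :
    IsPronormal K := by
  intro g
  obtain ⟨x, hx, hxe⟩ := h (c * g * c⁻¹)
  have e1 : cj (c * g * c⁻¹) (cj c K) = cj c (cj g K) := by
    rw [← cj_mul, ← cj_mul]; congr 1; group
  change x ∈ cj c K ⊔ cj (c * g * c⁻¹) (cj c K) at hx
  change cj (c * g * c⁻¹) (cj c K) = cj x (cj c K) at hxe
  rw [e1] at hx hxe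
  rw [← cj_sup, mem_cj] at hx
  refine ⟨c⁻¹ * x * c, hx, ?_⟩
  apply cj_injective c
  rw [hxe, ← cj_mul, ← cj_mul]
  congr 1; group

end basic

section transport

variable {G : Type*} [Group G] {H : Type*} [Group H]

theorem good_map (f : G →* H) {K : Subgroup G} {g : G} (h : Good K g) :
    Good (K.map f) (f g) := by
  obtain ⟨x, hx, hxe⟩ := h
  refine ⟨f x, ?_, ?_⟩
  · rw [← map_cj, ← Subgroup.map_sup]
    exact ⟨x, hx, rfl⟩
  · rw [← map_cj, ← map_cj, hxe]

theorem good_of_good_map (f : G →* H) {K : Subgroup G} {g : G} (hker : f.ker ≤ K)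
    (h : Good (K.map f) (f g)) : Good K g := by
  obtain ⟨x, hx, hxe⟩ := h
  rw [← map_cj, ← Subgroup.map_sup] at hx
  obtain ⟨y, hy, rfl⟩ := hx
  refine ⟨y, hy, ?_⟩
  rw [← map_cj, ← map_cj] at hxe
  have h1 := congrArg (Subgroup.comap f) hxe
  rw [Subgroup.comap_map_eq, Subgroup.comap_map_eq] at h1
  have hk : ∀ z : G, f.ker ≤ cj z K := by
    intro z
    have := cj_mono z hker
    rwa [cj_normal] at this
  rwa [sup_eq_left.mpr (hk g), sup_eq_left.mpr (hk y)] at h1

theorem isPronormal_map_of_surjective (f : G →* H) (hf : Function.Surjective f)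
    {K : Subgroup G} (h : IsPronormal K) : IsPronormal (K.map f) := by
  intro q
  obtain ⟨g, rfl⟩ := hf q
  exact good_map f (h g)

end transport

section sylow

variable {G : Type*} [Group G] [Finite G] {p : ℕ} [hp : Fact p.Prime]

theorem factorization_eq_of_le {T B A : Subgroup G} (hTB : T ≤ B) (hBA : B ≤ A)
    (hT : Nat.card T = p ^ (Nat.card A).factorization p) :
    (Nat.card B).factorization p = (Nat.card A).factorization p := by
  apply le_antisymm
  · exact (Nat.factorization_le_iff_dvd Nat.card_pos.ne' Nat.card_pos.ne').mpr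
      (Subgroup.card_dvd_of_le hBA) p
  · have h1 : p ^ (Nat.card A).factorization p ∣ Nat.card B := by
      rw [← hT]; exact Subgroup.card_dvd_of_le hTB
    exact (hp.out.pow_dvd_iff_le_factorization Nat.card_pos.ne').mp h1

/-- Sylow conjugacy inside a subgroup `B`, phrased in `G`. -/
theorem exists_cj_eq_of_card {B T T' : Subgroup G} (hT : T ≤ B) (hT' : T' ≤ B)
    (hc : Nat.card T = p ^ (Nat.card B).factorization p)
    (hc' : Nat.card T' = p ^ (Nat.card B).factorization p) :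
    ∃ b ∈ B, cj b T = T' := by
  obtain ⟨P₀, hP₀⟩ := Cfsg.Agent.Lib.Helper54.exists_sylow_of_card (p := p) B T hT hc
  obtain ⟨Q₀, hQ₀⟩ := Cfsg.Agent.Lib.Helper54.exists_sylow_of_card (p := p) B T' hT' hc'
  obtain ⟨k, -, hk⟩ := Cfsg.Agent.Lib.Helper54.exists_conj_sylow B P₀ Q₀
  refine ⟨k, k.2, ?_⟩
  rw [hP₀, hQ₀] at hk
  exact hk

/-- Sylow subgroups are pronormal. -/
theorem good_sylow (S : Sylow p G) (g : G) : Good (S : Subgroup G) g := by
  have hS : Nat.card (S : Subgroup G) = p ^ (Nat.card (⊤ : Subgroup G)).factorization p := by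
    rw [Subgroup.card_top]; exact S.card_eq_multiplicity
  have h1 : (S : Subgroup G) ≤ (S : Subgroup G) ⊔ cj g (S : Subgroup G) := le_sup_left
  have hf := factorization_eq_of_le (p := p) h1 le_top hS
  obtain ⟨b, hb, hbe⟩ := exists_cj_eq_of_card (p := p) h1
    (le_sup_right : cj g (S : Subgroup G) ≤ (S : Subgroup G) ⊔ cj g (S : Subgroup G))
    (by rw [hf]; exact hS) (by rw [hf, card_cj]; exact hS)
  exact ⟨b, hb, hbe.symm⟩

theorem isPronormal_sylow (S : Sylow p G) : IsPronormal (S : Subgroup G) :=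
  fun g => good_sylow S g

end sylow

section criterion

variable {G : Type*} [Group G] [Finite G] {p : ℕ} [hp : Fact p.Prime]

/-- Every subgroup containing a Sylow `p`-subgroup is pronormal. -/
def SylOverPronormal (p : ℕ) (X : Type*) [Group X] : Prop :=
  ∀ K : Subgroup X, (∃ P : Sylow p X, (P : Subgroup X) ≤ K) → IsPronormal K

omit [Finite G] hp in
/-- If `T` is (the image of) a Sylow `p`-subgroup of the normal subgroup `A` and `S ≥ T` is a Sylow
`p`-subgroup of `G` then `S ∩ A = T` and `S` normalises `T`. -/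
theorem sylow_inf_normal_eq (A : Subgroup G) [A.Normal] (P₀ : Sylow p A) (S : Sylow p G)
    (hTS : (P₀ : Subgroup A).map A.subtype ≤ (S : Subgroup G)) :
    (S : Subgroup G) ⊓ A = (P₀ : Subgroup A).map A.subtype ∧
      (S : Subgroup G) ≤ Subgroup.normalizer (((P₀ : Subgroup A).map A.subtype : Subgroup G) : Set G) := by
  have h1 : (P₀ : Subgroup A) ≤ ((S : Subgroup G) ⊓ A).subgroupOf A := by
    intro x hx
    rw [Subgroup.mem_subgroupOf]
    exact ⟨hTS ⟨x, hx, rfl⟩, x.2⟩
  have h2 : IsPGroup p (((S : Subgroup G) ⊓ A).subgroupOf A) := by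
    have : IsPGroup p ((S : Subgroup G) ⊓ A : Subgroup G) := S.2.to_le inf_le_left
    exact this.comap_subtype
  have h3 : ((S : Subgroup G) ⊓ A).subgroupOf A = (P₀ : Subgroup A) := P₀.3 h2 h1
  have h4 : (S : Subgroup G) ⊓ A = (P₀ : Subgroup A).map A.subtype := by
    rw [← h3, Subgroup.subgroupOf_map_subtype, inf_assoc, inf_idem]
  refine ⟨h4, ?_⟩
  intro s hs
  rw [← cj_eq_self_iff, ← h4]
  rw [cj_inf, cj_of_mem hs, cj_normal]

/-- Step 1: pass to the quotient `G ⧸ A`. -/
theorem exists_mem_sup_mk_mem_normalizer (A : Subgroup G) [A.Normal]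
    (hQ : SylOverPronormal p (G ⧸ A)) (K : Subgroup G) (S : Sylow p G)
    (hSK : (S : Subgroup G) ≤ K) (g : G) :
    ∃ y ∈ K ⊔ cj g K, (QuotientGroup.mk' A) (y⁻¹ * g) ∈
      Subgroup.normalizer ((K.map (QuotientGroup.mk' A) : Subgroup (G ⧸ A)) : Set (G ⧸ A)) := by
  have hpro : IsPronormal (K.map (QuotientGroup.mk' A)) := by
    refine hQ _ ⟨S.mapSurjective (QuotientGroup.mk'_surjective A), ?_⟩
    rw [Sylow.coe_mapSurjective]
    exact Subgroup.map_mono hSK
  obtain ⟨x, hx, hxe⟩ := hpro ((QuotientGroup.mk' A) g)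
  change x ∈ K.map (QuotientGroup.mk' A) ⊔ cj ((QuotientGroup.mk' A) g) (K.map (QuotientGroup.mk' A)) at hx
  change cj ((QuotientGroup.mk' A) g) (K.map (QuotientGroup.mk' A)) =
    cj x (K.map (QuotientGroup.mk' A)) at hxe
  rw [← map_cj, ← Subgroup.map_sup] at hx
  obtain ⟨y, hy, rfl⟩ := hx
  refine ⟨y, hy, ?_⟩
  rw [← cj_eq_self_iff, map_mul, map_inv, cj_mul, hxe, cj_inv_cj]

omit [Finite G] hp in
/-- Step 3: pronormality inside `A`. -/
theorem good_inf_of_sylOverPronormal (A : Subgroup G) (hA : SylOverPronormal p A)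
    (P₀ : Sylow p A) (K : Subgroup G) (hTK : (P₀ : Subgroup A).map A.subtype ≤ K)
    (a : G) (ha : a ∈ A) : Good (K ⊓ A) a := by
  have h1 : (P₀ : Subgroup A) ≤ (K ⊓ A).subgroupOf A := by
    intro x hx
    rw [Subgroup.mem_subgroupOf]
    exact ⟨hTK ⟨x, hx, rfl⟩, x.2⟩
  have h2 := hA _ ⟨P₀, h1⟩ ⟨a, ha⟩
  have h3 := good_map A.subtype h2
  rw [Subgroup.subgroupOf_map_subtype, inf_assoc, inf_idem] at h3
  exact h3

/-- Step 4: Sylow conjugacy inside `B`. -/
theorem exists_mem_mul_mem_normalizer {A B T : Subgroup G} (hTB : T ≤ B) (hBA : B ≤ A)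
    (hT : Nat.card T = p ^ (Nat.card A).factorization p) (a : G)
    (ha : a ∈ Subgroup.normalizer (B : Set G)) :
    ∃ b ∈ B, b⁻¹ * a ∈ Subgroup.normalizer (T : Set G) := by
  have hf := factorization_eq_of_le (p := p) hTB hBA hT
  have h1 : cj a T ≤ B := by
    have := cj_mono a hTB
    rwa [cj_eq_self_iff.mpr ha] at this
  obtain ⟨b, hb, hbe⟩ := exists_cj_eq_of_card (p := p) hTB h1 (by rw [hf]; exact hT)
    (by rw [hf, card_cj]; exact hT)
  refine ⟨b, hb, ?_⟩
  rw [← cj_eq_self_iff, cj_mul, ← hbe, cj_inv_cj]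

/-- Frattini argument. -/
theorem eq_inf_sup_inf_normalizer {A K T : Subgroup G} [A.Normal] (hTK : T ≤ K) (hTA : T ≤ A)
    (hT : Nat.card T = p ^ (Nat.card A).factorization p) :
    K = (K ⊓ A) ⊔ (K ⊓ Subgroup.normalizer (T : Set G)) := by
  apply le_antisymm
  · intro k hk
    have hkN : k ∈ Subgroup.normalizer ((K ⊓ A : Subgroup G) : Set G) := by
      rw [← cj_eq_self_iff, cj_inf, cj_of_mem hk, cj_normal]
    obtain ⟨b, hb, hbk⟩ := exists_mem_mul_mem_normalizer (p := p) (le_inf hTK hTA)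
      (inf_le_right : K ⊓ A ≤ A) hT k hkN
    have : k = b * (b⁻¹ * k) := by group
    rw [this]
    exact mul_mem (Subgroup.mem_sup_left hb)
      (Subgroup.mem_sup_right (Subgroup.mem_inf.mpr
        ⟨K.mul_mem (K.inv_mem (Subgroup.mem_inf.mp hb).1) hk, hbk⟩))
  · exact sup_le inf_le_left inf_le_left

/-- Step 5: pronormality in `N_G(T) ⧸ T`. -/
theorem good_inf_normalizer (T : Subgroup G)
    [hTn : (T.subgroupOf (Subgroup.normalizer (T : Set G))).Normal]
    (hN : SylOverPronormal p (↥(Subgroup.normalizer (T : Set G)) ⧸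
      T.subgroupOf (Subgroup.normalizer (T : Set G))))
    (K : Subgroup G) (S : Sylow p G) (hSK : (S : Subgroup G) ≤ K) (hTK : T ≤ K)
    (hSN : (S : Subgroup G) ≤ Subgroup.normalizer (T : Set G))
    (a : G) (ha : a ∈ Subgroup.normalizer (T : Set G)) :
    Good (K ⊓ Subgroup.normalizer (T : Set G)) a := by
  set N := Subgroup.normalizer (T : Set G) with hNdef
  set π := QuotientGroup.mk' (T.subgroupOf N) with hπ
  have hpro : IsPronormal ((K.subgroupOf N).map π) := by
    refine hN _ ⟨(S.subtype hSN).mapSurjective (QuotientGroup.mk'_surjective _), ?_⟩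
    rw [Sylow.coe_mapSurjective, Sylow.coe_subtype]
    apply Subgroup.map_mono
    intro x hx
    rw [Subgroup.mem_subgroupOf] at hx ⊢
    exact hSK hx
  have h1 : Good ((K.subgroupOf N).map π) (π ⟨a, ha⟩) := hpro _
  have hker : π.ker ≤ K.subgroupOf N := by
    rw [hπ, QuotientGroup.ker_mk']
    intro x hx
    rw [Subgroup.mem_subgroupOf] at hx ⊢
    exact hTK hx
  have h2 : Good (K.subgroupOf N) ⟨a, ha⟩ := good_of_good_map π hker h1
  have h3 := good_map N.subtype h2
  rw [Subgroup.subgroupOf_map_subtype] at h3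
  exact h3

/-- The sufficiency half of the extension criterion, for a subgroup `K` containing a Sylow
`p`-subgroup `S ≥ T`. -/
theorem good_of_criterion (A : Subgroup G) [A.Normal]
    (hA : SylOverPronormal p A) (hQ : SylOverPronormal p (G ⧸ A))
    (T : Subgroup G) (P₀ : Sylow p A) (hT : (P₀ : Subgroup A).map A.subtype = T)
    [hTn : (T.subgroupOf (Subgroup.normalizer (T : Set G))).Normal]
    (hN : SylOverPronormal p (↥(Subgroup.normalizer (T : Set G)) ⧸
      T.subgroupOf (Subgroup.normalizer (T : Set G))))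
    (K : Subgroup G) (S : Sylow p G) (hSK : (S : Subgroup G) ≤ K) (hTS : T ≤ (S : Subgroup G))
    (hii : (Subgroup.normalizer (K : Set G)).map (QuotientGroup.mk' A) =
      Subgroup.normalizer ((K.map (QuotientGroup.mk' A) : Subgroup (G ⧸ A)) : Set (G ⧸ A)))
    (g : G) : Good K g := by
  have hTA : T ≤ A := by rw [← hT]; exact Subgroup.map_subtype_le _
  have hTK : T ≤ K := hTS.trans hSK
  have hTcard : Nat.card T = p ^ (Nat.card A).factorization p := by
    rw [← hT, Subgroup.card_map_of_injective A.subtype_injective]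
    exact P₀.card_eq_multiplicity
  have hSN : (S : Subgroup G) ≤ Subgroup.normalizer (T : Set G) := by
    have := (sylow_inf_normal_eq A P₀ S (by rw [hT]; exact hTS)).2
    rwa [hT] at this
  -- Step 1
  obtain ⟨y₁, hy₁, hq⟩ := exists_mem_sup_mk_mem_normalizer A hQ K S hSK g
  apply good_of_good_mul hy₁
  -- Step 2
  rw [← hii] at hq
  obtain ⟨n, hn, hnq⟩ := hq
  have haA : y₁⁻¹ * g * n⁻¹ ∈ A := by
    rw [← QuotientGroup.eq_one_iff]
    have : ((y₁⁻¹ * g * n⁻¹ : G) : G ⧸ A) =
        (QuotientGroup.mk' A) (y₁⁻¹ * g) * ((QuotientGroup.mk' A) n)⁻¹ := by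
      simp
    rw [this, hnq, mul_inv_cancel]
  have hcj : cj (y₁⁻¹ * g) K = cj (y₁⁻¹ * g * n⁻¹) K := by
    rw [cj_mul (y₁⁻¹ * g) n⁻¹, cj_eq_self_iff.mpr (inv_mem hn)]
  apply good_of_cj_eq hcj
  generalize y₁⁻¹ * g * n⁻¹ = a at haA
  -- Step 3
  obtain ⟨b, hb, hbe⟩ := good_inf_of_sylOverPronormal A hA P₀ K (by rw [hT]; exact hTK) a haA
  have hBle : ∀ z, K ⊓ A ⊔ cj z (K ⊓ A) ≤ K ⊔ cj z K :=
    fun z => sup_le_sup inf_le_left (cj_mono z inf_le_left)
  apply good_of_good_mul (hBle a hb)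
  have ha₂ : b⁻¹ * a ∈ Subgroup.normalizer ((K ⊓ A : Subgroup G) : Set G) := by
    rw [← cj_eq_self_iff, cj_mul, hbe, cj_inv_cj]
  generalize b⁻¹ * a = a₂ at ha₂
  -- Step 4
  obtain ⟨b', hb', hb'N⟩ := exists_mem_mul_mem_normalizer (p := p) (le_inf hTK hTA)
    (inf_le_right : K ⊓ A ≤ A) hTcard a₂ ha₂
  apply good_of_good_mul (y := b') (Subgroup.mem_sup_left (Subgroup.mem_inf.mp hb').1)
  have ha₃B : b'⁻¹ * a₂ ∈ Subgroup.normalizer ((K ⊓ A : Subgroup G) : Set G) :=
    mul_mem (inv_mem (Subgroup.le_normalizer hb')) ha₂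
  generalize b'⁻¹ * a₂ = a₃ at hb'N ha₃B
  -- Step 5
  obtain ⟨y, hy, hye⟩ := good_inf_normalizer T hN K S hSK hTK hSN a₃ hb'N
  have hyB : y ∈ Subgroup.normalizer ((K ⊓ A : Subgroup G) : Set G) := by
    have h1 : K ⊓ Subgroup.normalizer (T : Set G) ≤
        Subgroup.normalizer ((K ⊓ A : Subgroup G) : Set G) := by
      intro k hk
      rw [← cj_eq_self_iff, cj_inf, cj_of_mem (Subgroup.mem_inf.mp hk).1, cj_normal]
    have h2 : cj a₃ (K ⊓ Subgroup.normalizer (T : Set G)) ≤
        Subgroup.normalizer ((K ⊓ A : Subgroup G) : Set G) := by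
      have := cj_mono a₃ h1
      rwa [cj_normalizer, cj_eq_self_iff.mpr ha₃B] at this
    exact (sup_le h1 h2) hy
  refine ⟨y, (sup_le_sup inf_le_left (cj_mono a₃ inf_le_left)) hy, ?_⟩
  have hF := eq_inf_sup_inf_normalizer (p := p) (A := A) hTK hTA hTcard
  calc cj a₃ K = cj a₃ ((K ⊓ A) ⊔ (K ⊓ Subgroup.normalizer (T : Set G))) :=
        congrArg (cj a₃) hF
    _ = cj a₃ (K ⊓ A) ⊔ cj a₃ (K ⊓ Subgroup.normalizer (T : Set G)) := cj_sup _ _ _
    _ = cj y (K ⊓ A) ⊔ cj y (K ⊓ Subgroup.normalizer (T : Set G)) := by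
        rw [cj_eq_self_iff.mpr ha₃B, cj_eq_self_iff.mpr hyB, hye]
    _ = cj y ((K ⊓ A) ⊔ (K ⊓ Subgroup.normalizer (T : Set G))) := (cj_sup _ _ _).symm
    _ = cj y K := (congrArg (cj y) hF).symm

omit [Finite G] hp in
/-- For a pronormal subgroup `K`, the image of `N_G(K)` in `G ⧸ A` is the full normaliser of the
image of `K`. -/
theorem map_normalizer_eq_of_isPronormal (A : Subgroup G) [A.Normal] (K : Subgroup G)
    (hK : IsPronormal K) :
    (Subgroup.normalizer (K : Set G)).map (QuotientGroup.mk' A) =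
      Subgroup.normalizer ((K.map (QuotientGroup.mk' A) : Subgroup (G ⧸ A)) : Set (G ⧸ A)) := by
  apply le_antisymm (Subgroup.le_normalizer_map _)
  intro q hq
  obtain ⟨g, rfl⟩ := QuotientGroup.mk'_surjective A q
  rw [← cj_eq_self_iff, ← map_cj] at hq
  have h1 : cj g K ≤ K ⊔ A := by
    have h2 : cj g K ≤ ((cj g K).map (QuotientGroup.mk' A)).comap (QuotientGroup.mk' A) :=
      Subgroup.le_comap_map _ _
    rw [hq, Subgroup.comap_map_eq, QuotientGroup.ker_mk'] at h2
    exact h2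
  obtain ⟨x, hx, hxe⟩ := hK g
  have hx' : x ∈ K ⊔ A := (sup_le le_sup_left h1) hx
  obtain ⟨k, hk, a, ha, rfl⟩ := Subgroup.mem_sup_of_normal_right.mp hx'
  change cj g K = cj (k * a) K at hxe
  refine ⟨k * ((k * a)⁻¹ * g), mul_mem (Subgroup.le_normalizer hk) ?_, ?_⟩
  · rw [← cj_eq_self_iff, cj_mul, hxe, cj_inv_cj]
  · have ha1 : (QuotientGroup.mk' A) a = 1 := (QuotientGroup.eq_one_iff a).mpr ha
    simp only [map_mul, map_inv, ha1, mul_one, mul_inv_cancel_left]

/-- The necessity half: if all overgroups of Sylow `p`-subgroups of `G` are pronormal, the same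
holds in `N_G(T) ⧸ T`. -/
theorem sylOverPronormal_quotient_normalizer (A : Subgroup G) [A.Normal]
    (T : Subgroup G) (P₀ : Sylow p A) (hT : (P₀ : Subgroup A).map A.subtype = T)
    [hTn : (T.subgroupOf (Subgroup.normalizer (T : Set G))).Normal]
    (hG : SylOverPronormal p G) :
    SylOverPronormal p (↥(Subgroup.normalizer (T : Set G)) ⧸
      T.subgroupOf (Subgroup.normalizer (T : Set G))) := by
  rintro Kbar ⟨Pbar, hPbar⟩
  have hTp : IsPGroup p T := by rw [← hT]; exact P₀.2.map _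
  obtain ⟨S₀, hTS₀⟩ := hTp.exists_le_sylow
  have hS₀N : (S₀ : Subgroup G) ≤ Subgroup.normalizer (T : Set G) := by
    have := (sylow_inf_normal_eq A P₀ S₀ (by rw [hT]; exact hTS₀)).2
    rwa [hT] at this
  obtain ⟨qbar, hq⟩ := MulAction.exists_smul_eq
    (↥(Subgroup.normalizer (T : Set G)) ⧸ T.subgroupOf (Subgroup.normalizer (T : Set G)))
    ((S₀.subtype hS₀N).mapSurjective (QuotientGroup.mk'_surjective
      (T.subgroupOf (Subgroup.normalizer (T : Set G))))) Pbar
  obtain ⟨n, rfl⟩ := QuotientGroup.mk'_surjective _ qbar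
  have hKpro : IsPronormal ((Kbar.comap (QuotientGroup.mk' (T.subgroupOf
      (Subgroup.normalizer (T : Set G))))).map (Subgroup.normalizer (T : Set G)).subtype) := by
    refine hG _ ⟨(n : G) • S₀, ?_⟩
    intro x hx
    rw [Sylow.coe_subgroup_smul] at hx
    change x ∈ cj (n : G) (S₀ : Subgroup G) at hx
    rw [mem_cj] at hx
    have hxN : x ∈ Subgroup.normalizer (T : Set G) := by
      have h1 := hS₀N hx
      have h2 := mul_mem (mul_mem n.2 h1) (inv_mem n.2)
      have h3 : (n : G) * ((n : G)⁻¹ * x * n) * (n : G)⁻¹ = x := by group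
      rwa [h3] at h2
    refine ⟨⟨x, hxN⟩, ?_, rfl⟩
    rw [SetLike.mem_coe, Subgroup.mem_comap]
    apply hPbar
    rw [← hq, Sylow.coe_subgroup_smul]
    change _ ∈ cj _ _
    rw [mem_cj, Sylow.coe_mapSurjective, Sylow.coe_subtype, ← map_inv, ← map_mul, ← map_mul]
    refine ⟨n⁻¹ * ⟨x, hxN⟩ * n, ?_, rfl⟩
    rw [SetLike.mem_coe, Subgroup.mem_subgroupOf]
    exact hx
  have hK' : IsPronormal (Kbar.comap (QuotientGroup.mk' (T.subgroupOf
      (Subgroup.normalizer (T : Set G))))) := by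
    intro m
    apply good_of_good_map (Subgroup.normalizer (T : Set G)).subtype
    · rw [Subgroup.ker_subtype]; exact bot_le
    · exact hKpro m
  have := isPronormal_map_of_surjective _ (QuotientGroup.mk'_surjective
    (T.subgroupOf (Subgroup.normalizer (T : Set G)))) hK'
  rwa [Subgroup.map_comap_eq_self_of_surjective (QuotientGroup.mk'_surjective _)] at this

end criterion

end Cfsg.Agent.Lib.Helper71
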