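import Mathlib.GroupTheory.Sylow
import Mathlib.GroupTheory.Index
import Mathlib.GroupTheory.QuotientGroup.Basic
import Cfsg.Agent.Lib.Helper54.Coprime
import Cfsg.Agent.Lib.Helper71.Pronormal

set_option autoImplicit false

/-!
# Sylow numbers (helper71)

Factorisations of the number `n_p(G)` of Sylow `p`-subgroups along a normal subgroup
(M. Hall, 1967):

* `card_sylow_eq_mul_of_normal`: `n_p(G) = n_p(K) * n_p(N_G(P ∩ K))` for `K ⊴ G`;
* `card_sylow_eq_mul_quotient`: `n_p(G) = n_p(G ⧸ K) * n_p(P K)`;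
* `relIndex_normalizer_primePow_mod`: for a `p`-group `P` acting coprimely on `K`, every
  prime-power part of `|K : C_K(P)|` is `≡ 1 (mod p)`.
-/

namespace Cfsg.Agent.Lib.Helper71

open Cfsg

section index

variable {G : Type*} [Group G]

/-- `|H| * [K : H] = |K|` for `H ≤ K`. -/
theorem card_mul_relIndex_of_le {H K : Subgroup G} (h : H ≤ K) :
    Nat.card H * H.relIndex K = Nat.card K := by
  have h1 := (H.subgroupOf K).card_mul_index
  rwa [Nat.card_congr (Subgroup.subgroupOfEquivOfLe h).toEquiv] at h1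

/-- Second isomorphism theorem in index form: `|HK : H| = |K : H ∩ K|` for `K` normal. -/
theorem relIndex_sup_self_of_normal [Finite G] (H K : Subgroup G) [K.Normal] :
    H.relIndex (H ⊔ K) = H.relIndex K := by
  have h1 := card_mul_relIndex_of_le (le_sup_left : H ≤ H ⊔ K)
  have h2 := card_mul_relIndex_of_le (le_sup_right : K ≤ H ⊔ K)
  rw [Subgroup.relIndex_sup_right] at h2
  have h3 := card_mul_relIndex_of_le (inf_le_left : H ⊓ K ≤ H)
  rw [Subgroup.inf_relIndex_left] at h3
  have h4 := card_mul_relIndex_of_le (inf_le_right : H ⊓ K ≤ K)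
  rw [Subgroup.inf_relIndex_right] at h4
  have hpos : 0 < Nat.card (H ⊓ K : Subgroup G) := Nat.card_pos
  have hH : 0 < Nat.card H := Nat.card_pos
  -- |H| * X = |K| * [H : H∩K];  |H∩K| * [H:H∩K] = |H|; |H∩K| * [K : H∩K] = |K|
  have h5 : Nat.card (H ⊓ K : Subgroup G) * (Nat.card H * H.relIndex (H ⊔ K)) =
      Nat.card (H ⊓ K : Subgroup G) * (Nat.card H * H.relIndex K) := by
    rw [h1, ← h2, ← h4]
    calc Nat.card (H ⊓ K : Subgroup G) * (Nat.card (H ⊓ K : Subgroup G) * H.relIndex K *
          K.relIndex H)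
        = Nat.card (H ⊓ K : Subgroup G) * ((Nat.card (H ⊓ K : Subgroup G) * K.relIndex H) *
          H.relIndex K) := by ring
      _ = _ := by rw [h3]
  exact Nat.eq_of_mul_eq_mul_left hH (Nat.eq_of_mul_eq_mul_left hpos h5)

end index

section sylow

variable {G : Type*} [Group G] [Finite G] {p : ℕ} [hp : Fact p.Prime]

/-- The number of Sylow `p`-subgroups of a subgroup `X`, computed inside `G`. -/
theorem card_sylow_eq_relIndex (X : Subgroup G) (S : Sylow p X) :
    Nat.card (Sylow p X) =
      (Subgroup.normalizer (((S : Subgroup X).map X.subtype : Subgroup G) : Set G)).relIndex X := by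
  have h1 : ((S : Subgroup X).map X.subtype).subgroupOf X = (S : Subgroup X) :=
    Subgroup.comap_map_eq_self_of_injective X.subtype_injective _
  rw [Sylow.card_eq_index_normalizer S, Subgroup.relIndex,
    Subgroup.subgroupOf_normalizer_eq (Subgroup.map_subtype_le _), h1]
  rfl

/-- `n_p(G) = n_p(K) * n_p(N_G(Q))` for `K ⊴ G` and `Q = P ∩ K` a Sylow `p`-subgroup of `K`. -/
theorem card_sylow_eq_mul_of_normal (K : Subgroup G) [K.Normal] (P : Sylow p G) (Q₀ : Sylow p K)
    (hQP : (Q₀ : Subgroup K).map K.subtype ≤ (P : Subgroup G)) :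
    Nat.card (Sylow p G) = Nat.card (Sylow p K) *
      Nat.card (Sylow p ↥(Subgroup.normalizer
        (((Q₀ : Subgroup K).map K.subtype : Subgroup G) : Set G))) := by
  obtain ⟨hPK, hPL⟩ := sylow_inf_normal_eq K Q₀ P hQP
  set Q := (Q₀ : Subgroup K).map K.subtype with hQ
  set L := Subgroup.normalizer (Q : Set G) with hL
  have hNL : Subgroup.normalizer ((P : Subgroup G) : Set G) ≤ L := by
    intro g hg
    rw [hL, ← cj_eq_self_iff, ← hPK, cj_inf, cj_eq_self_iff.mpr hg, cj_normal]
  -- `n_p(L)`
  have h1 : Nat.card (Sylow p L) =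
      (Subgroup.normalizer ((P : Subgroup G) : Set G)).relIndex L := by
    rw [card_sylow_eq_relIndex L (P.subtype hPL), Sylow.coe_subtype,
      Subgroup.subgroupOf_map_subtype, inf_of_le_left hPL]
  -- `n_p(K)`
  have h2 : Nat.card (Sylow p K) = L.index := by
    rw [card_sylow_eq_relIndex K Q₀, ← hQ, ← hL, ← relIndex_sup_self_of_normal L K]
    have : L ⊔ K = ⊤ := Sylow.normalizer_sup_eq_top Q₀
    rw [this, Subgroup.relIndex_top_right]
  rw [Sylow.card_eq_index_normalizer P, h1, h2, mul_comm]
  exact (Subgroup.relIndex_mul_index hNL).symm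

/-- The normaliser of `P K` is `N_G(P) K` (Frattini). -/
theorem normalizer_sup_normal (K : Subgroup G) [K.Normal] (P : Sylow p G) :
    Subgroup.normalizer (((P : Subgroup G) ⊔ K : Subgroup G) : Set G) =
      Subgroup.normalizer ((P : Subgroup G) : Set G) ⊔ K := by
  apply le_antisymm
  · intro g hg
    obtain ⟨k, hk, hkg⟩ := Cfsg.Agent.Lib.Helper54.frattini_rel ((P : Subgroup G) ⊔ K)
      (P.subtype le_sup_left) g hg
    rw [Sylow.coe_subtype, Subgroup.subgroupOf_map_subtype,
      inf_of_le_left (le_sup_left : (P : Subgroup G) ≤ (P : Subgroup G) ⊔ K)] at hkg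
    have hk' : k ∈ Subgroup.normalizer ((P : Subgroup G) : Set G) ⊔ K :=
      (sup_le_sup_right Subgroup.le_normalizer K) hk
    have : g = k * (k⁻¹ * g) := by group
    rw [this]
    exact mul_mem hk' (Subgroup.mem_sup_left hkg)
  · refine sup_le ?_ ?_
    · intro g hg
      rw [← cj_eq_self_iff, cj_sup, cj_eq_self_iff.mpr hg, cj_normal]
    · exact le_sup_right.trans Subgroup.le_normalizer

/-- `n_p(P K) = |K : N_K(P)|` for `K ⊴ G`. -/
theorem card_sylow_sup_normal (K : Subgroup G) [K.Normal] (P : Sylow p G) :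
    Nat.card (Sylow p ↥((P : Subgroup G) ⊔ K : Subgroup G)) =
      (Subgroup.normalizer ((P : Subgroup G) : Set G)).relIndex K := by
  set N := Subgroup.normalizer ((P : Subgroup G) : Set G) with hN
  have hPN : (P : Subgroup G) ≤ N := Subgroup.le_normalizer
  rw [card_sylow_eq_relIndex _ (P.subtype le_sup_left), Sylow.coe_subtype,
    Subgroup.subgroupOf_map_subtype,
    inf_of_le_left (le_sup_left : (P : Subgroup G) ≤ (P : Subgroup G) ⊔ K), ← hN]
  -- `|PK : PK ∩ N| = |K : K ∩ N|`
  have h4 : (N ⊓ ((P : Subgroup G) ⊔ K)) ⊔ K = (P : Subgroup G) ⊔ K := by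
    apply le_antisymm (sup_le inf_le_right le_sup_right)
    exact sup_le_sup_right (le_inf hPN le_sup_left) K
  have h5 := relIndex_sup_self_of_normal (N ⊓ ((P : Subgroup G) ⊔ K)) K
  rw [h4, Subgroup.inf_relIndex_right] at h5
  rw [h5, ← Subgroup.inf_relIndex_right (N ⊓ ((P : Subgroup G) ⊔ K)) K, inf_assoc,
    inf_of_le_right (le_sup_right : K ≤ (P : Subgroup G) ⊔ K), Subgroup.inf_relIndex_right]

/-- `n_p(G) = n_p(G ⧸ K) * n_p(P K)` for `K ⊴ G`. -/
theorem card_sylow_eq_mul_quotient (K : Subgroup G) [K.Normal] (P : Sylow p G) :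
    Nat.card (Sylow p G) = Nat.card (Sylow p (G ⧸ K)) *
      Nat.card (Sylow p ↥((P : Subgroup G) ⊔ K : Subgroup G)) := by
  set N := Subgroup.normalizer ((P : Subgroup G) : Set G) with hN
  -- `n_p(G ⧸ K)`
  have h1 : Nat.card (Sylow p (G ⧸ K)) = (N ⊔ K).index := by
    have h0 : Nat.card (Sylow p (G ⧸ K)) = (Subgroup.normalizer
        ((((P : Subgroup G).map (QuotientGroup.mk' K) : Subgroup (G ⧸ K))) : Set (G ⧸ K))).index := by
      rw [Sylow.card_eq_index_normalizer (P.mapSurjective (QuotientGroup.mk'_surjective K))]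
      rfl
    rw [h0, ← Subgroup.index_comap_of_surjective _ (QuotientGroup.mk'_surjective K),
      Subgroup.comap_normalizer_eq_of_surjective _ (QuotientGroup.mk'_surjective K),
      Subgroup.comap_map_eq, QuotientGroup.ker_mk', normalizer_sup_normal K P]
  rw [Sylow.card_eq_index_normalizer P, h1, card_sylow_sup_normal K P, ← hN,
    ← relIndex_sup_self_of_normal N K, mul_comm]
  exact (Subgroup.relIndex_mul_index (le_sup_left : N ≤ N ⊔ K)).symm

end sylow

section coprime

variable {G : Type*} [Group G]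

/-- The conjugation action of `P` on a subgroup `R` that it normalises. -/
@[reducible] def conjMulAction (P R : Subgroup G) (h : P ≤ Subgroup.normalizer (R : Set G)) :
    MulAction P R where
  smul u r := ⟨u * r * (u : G)⁻¹, (Subgroup.mem_normalizer_iff.mp (h u.2) r).mp r.2⟩
  one_smul r := by
    apply Subtype.ext
    change ((1 : P) : G) * r * ((1 : P) : G)⁻¹ = r
    simp
  mul_smul u v r := by
    apply Subtype.ext
    change ((u * v : P) : G) * r * ((u * v : P) : G)⁻¹ = u * (v * r * (v : G)⁻¹) * (u : G)⁻¹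
    simp [mul_assoc]

/-- A `p`-group `P` normalising `R`: `|R| ≡ |C_R(P)| (mod p)`. -/
theorem card_modEq_card_inf_centralizer [Finite G] {p : ℕ} [hp : Fact p.Prime]
    (P R : Subgroup G) (hP : IsPGroup p P) (h : P ≤ Subgroup.normalizer (R : Set G)) :
    Nat.card R ≡ Nat.card (R ⊓ Subgroup.centralizer (P : Set G) : Subgroup G) [MOD p] := by
  let _ := conjMulAction P R h
  have h1 := hP.card_modEq_card_fixedPoints R
  have h2 : Nat.card (MulAction.fixedPoints P R) =
      Nat.card (R ⊓ Subgroup.centralizer (P : Set G) : Subgroup G) := by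
    apply Nat.card_congr
    refine ⟨fun r => ⟨(r.1 : G), Subgroup.mem_inf.mpr ⟨r.1.2, ?_⟩⟩,
      fun x => ⟨⟨x.1, (Subgroup.mem_inf.mp x.2).1⟩, ?_⟩, ?_, ?_⟩
    · rw [Subgroup.mem_centralizer_iff]
      intro u hu
      have h3 := r.2 ⟨u, hu⟩
      have h4 : u * (r.1 : G) * u⁻¹ = (r.1 : G) := congrArg Subtype.val h3
      calc u * (r.1 : G) = u * (r.1 : G) * u⁻¹ * u := by group
        _ = (r.1 : G) * u := by rw [h4]
    · intro u
      apply Subtype.ext
      have h3 := (Subgroup.mem_centralizer_iff.mp (Subgroup.mem_inf.mp x.2).2) u u.2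
      change (u : G) * x.1 * (u : G)⁻¹ = x.1
      rw [h3]; group
    · intro r; rfl
    · intro x; rfl
  rwa [h2] at h1

/-- **Coprime action, prime by prime.**  Let the `p`-group `P` normalise `K` with `p ∤ |K|`.
For every prime `q` the `q`-part of `|K : N_K(P)|` is `≡ 1 (mod p)`. -/
theorem pow_factorization_relIndex_modEq_one [Finite G] {p : ℕ} [hp : Fact p.Prime]
    (P K : Subgroup G) (hP : IsPGroup p P) (hPK : P ≤ Subgroup.normalizer (K : Set G))
    (hpK : (Nat.card K).Coprime p) (q : ℕ) [hq : Fact q.Prime] :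
    q ^ ((Subgroup.normalizer (P : Set G)).relIndex K).factorization q ≡ 1 [MOD p] := by
  obtain ⟨n, hn⟩ := hP.exists_card_eq
  have hcop : (Nat.card P).Coprime (Nat.card K) := by
    rw [hn]; exact Nat.Coprime.pow_left n hpK.symm
  have hdisj : K ⊓ P = ⊥ := (Subgroup.disjoint_of_coprime_natCard hcop.symm).eq_bot
  have hnil : Group.IsNilpotent P := hP.isNilpotent
  have hsolv : Group.IsSolvable P := inferInstance
  set C := K ⊓ Subgroup.normalizer (P : Set G) with hC
  have hCcent : C ≤ Subgroup.centralizer (P : Set G) :=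
    Cfsg.Agent.Lib.Helper54.inf_normalizer_le_centralizer hPK hdisj
  have hCeq : C = K ⊓ Subgroup.centralizer (P : Set G) :=
    le_antisymm (le_inf inf_le_left hCcent)
      (inf_le_inf_left K (Subgroup.centralizer_le_normalizer _))
  obtain ⟨R₀, hR₀⟩ := Cfsg.Agent.Lib.Helper54.exists_invariant_sylow P K hPK hcop
    (Or.inl hsolv) q
  set R := (R₀ : Subgroup K).map K.subtype with hR
  have hRK : R ≤ K := Subgroup.map_subtype_le _
  have hRcard : Nat.card R = q ^ (Nat.card K).factorization q :=
    Cfsg.Agent.Lib.Helper54.card_map_sylow K R₀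
  obtain ⟨C₀⟩ : Nonempty (Sylow q C) := inferInstance
  set U := (C₀ : Subgroup C).map C.subtype with hU
  have hUcard : Nat.card U = q ^ (Nat.card C).factorization q :=
    Cfsg.Agent.Lib.Helper54.card_map_sylow C C₀
  have hUC : U ≤ C := Subgroup.map_subtype_le _
  have hUK : U ≤ K := hUC.trans inf_le_left
  have hUq : IsPGroup q U := C₀.2.map _
  have hUP : P ≤ Subgroup.normalizer (U : Set G) := by
    have h1 : U ≤ Subgroup.centralizer (P : Set G) := hUC.trans hCcent
    exact (Subgroup.le_centralizer_iff.mp h1).trans (Subgroup.centralizer_le_normalizer _)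
  obtain ⟨R', hUR', hR'P⟩ := Cfsg.Agent.Lib.Helper54.exists_invariant_sylow_ge P K hPK hcop
    (Or.inl hsolv) q U hUK hUq hUP
  obtain ⟨c, hcP, hcR⟩ := Cfsg.Agent.Lib.Helper54.exists_centralizer_conj_sylow P K hPK hcop
    (Or.inl hsolv) q R' R₀ hR'P hR₀
  have hcC : (c : G) ∈ C := by rw [hCeq]; exact Subgroup.mem_inf.mpr ⟨c.2, hcP⟩
  have h1 : cj (c : G) U ≤ R := by
    have h3 : cj (c : G) ((R' : Subgroup K).map K.subtype) = R := by
      rw [hR, ← hcR]
      exact (Cfsg.Agent.Lib.Helper54.map_sylow_conj_smul K c R').symm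
    rw [← h3]; exact cj_mono _ hUR'
  have h2 : cj (c : G) U ≤ C := cj_le_of_mem hUC hcC
  -- `R ∩ C` is a Sylow `q`-subgroup of `C`
  have hRC : Nat.card (R ⊓ C : Subgroup G) = q ^ (Nat.card C).factorization q := by
    have hRCq : IsPGroup q (R ⊓ C : Subgroup G) :=
      (R₀.2.map K.subtype).to_le inf_le_left
    obtain ⟨j, hj⟩ := hRCq.exists_card_eq
    have hj1 : j ≤ (Nat.card C).factorization q := by
      have : q ^ j ∣ Nat.card C := by
        rw [← hj]; exact Subgroup.card_dvd_of_le inf_le_right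
      exact (hq.out.pow_dvd_iff_le_factorization Nat.card_pos.ne').mp this
    have hj2 : (Nat.card C).factorization q ≤ j := by
      have : q ^ (Nat.card C).factorization q ∣ q ^ j := by
        rw [← hj, ← hUcard, ← card_cj (c : G) U]
        exact Subgroup.card_dvd_of_le (le_inf h1 h2)
      exact (Nat.pow_dvd_pow_iff_le_right hq.out.one_lt).mp this
    rw [hj, le_antisymm hj1 hj2]
  -- the congruence `|R| ≡ |R ∩ C|`
  have hmod := card_modEq_card_inf_centralizer P R hP hR₀
  have hRC' : R ⊓ Subgroup.centralizer (P : Set G) = R ⊓ C := by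
    rw [hCeq, ← inf_assoc, inf_of_le_left hRK]
  rw [hRC', hRcard, hRC] at hmod
  -- factorisations
  have hmul : Nat.card C * (Subgroup.normalizer (P : Set G)).relIndex K = Nat.card K := by
    have h5 := card_mul_relIndex_of_le (inf_le_left : C ≤ K)
    have h6 : C.relIndex K = (Subgroup.normalizer (P : Set G)).relIndex K := by
      rw [hC, inf_comm, Subgroup.inf_relIndex_right]
    rwa [h6] at h5
  have hne : (Subgroup.normalizer (P : Set G)).relIndex K ≠ 0 := by
    intro h0; rw [h0, mul_zero] at hmul; exact Nat.card_pos.ne' hmul.symm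
  by_cases hqK : q ∣ Nat.card K
  · have hfac : (Nat.card K).factorization q = (Nat.card C).factorization q +
        ((Subgroup.normalizer (P : Set G)).relIndex K).factorization q := by
      rw [← hmul, Nat.factorization_mul Nat.card_pos.ne' hne]; rfl
    rw [hfac, pow_add] at hmod
    have hpq : p ≠ q := by
      rintro rfl
      exact (Nat.Prime.coprime_iff_not_dvd hp.out).mp hpK.symm hqK
    have hqp : Nat.gcd p (q ^ (Nat.card C).factorization q) = 1 :=
      Nat.Coprime.pow_right _ ((Nat.coprime_primes hp.out hq.out).mpr hpq)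
    have hmod' : q ^ (Nat.card C).factorization q *
        q ^ ((Subgroup.normalizer (P : Set G)).relIndex K).factorization q ≡
        q ^ (Nat.card C).factorization q * 1 [MOD p] := by
      rw [mul_one]; exact hmod
    exact Nat.ModEq.cancel_left_of_coprime hqp hmod'
  · have h7 : ¬ q ∣ (Subgroup.normalizer (P : Set G)).relIndex K := fun h =>
      hqK (dvd_trans h (Dvd.intro_left _ hmul))
    rw [Nat.factorization_eq_zero_of_not_dvd h7, pow_zero]

end coprime

end Cfsg.Agent.Lib.Helper71
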