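import Mathlib.GroupTheory.Focal
import Mathlib.GroupTheory.Nilpotent
import Cfsg.Prelude.Def_Transfer
import Cfsg.Agent.S2012
import Cfsg.Agent.Lib.Helper34.NormalPComplement

set_option autoImplicit false

/-!
# Frobenius' normal `p`-complement theorem (helper71)

* `exists_mul_of_mem_normalizer`: if `N_P(H)` is Sylow in `N_G(H)` and `N_G(H)/C_G(H)` is a
  `p`-group then `N_G(H) = C_G(H) N_P(H)`.
* `fusion_control`: via Alperin (S2012), if this holds for all non-trivial tame intersections,
  then `P` controls fusion of subsets of `P`.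
* `hasNormalPComplement_of_forall_coprime_centralize`: Frobenius' theorem: if for every
  `p`-subgroup `H` the `p'`-elements of `N_G(H)` centralise `H` then `G` has a normal
  `p`-complement.
-/

namespace Cfsg.Agent.Lib.Helper71

open Cfsg
open scoped commutatorElement

/-- If the `p'`-elements of `N_G(H)` centralise `H`, then `N_G(H)/C_G(H)` is a `p`-group. -/
theorem isPGroup_normalizer_quotient_centralizer {G : Type*} [Group G] [Finite G] {p : ℕ}
    [hp : Fact p.Prime] (H : Subgroup G)
    (hH : ∀ g ∈ Subgroup.normalizer (H : Set G), Nat.Coprime (orderOf g) p →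
      g ∈ Subgroup.centralizer (H : Set G)) :
    IsPGroup p (Subgroup.normalizer (H : Set G) ⧸
      (Subgroup.centralizer (H : Set G)).subgroupOf (Subgroup.normalizer (H : Set G))) := by
  intro q
  obtain ⟨g, rfl⟩ := QuotientGroup.mk_surjective q
  obtain ⟨k, m, hm, hkm⟩ := Nat.exists_eq_pow_mul_and_not_dvd (orderOf_pos g).ne' p
    hp.out.ne_one
  refine ⟨k, ?_⟩
  rw [← QuotientGroup.mk_pow, QuotientGroup.eq_one_iff, Subgroup.mem_subgroupOf]
  have hcop : Nat.Coprime (orderOf ((g : G) ^ p ^ k)) p := by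
    have h1 : ((g : G) ^ p ^ k) ^ m = 1 := by
      rw [← pow_mul, ← Subgroup.coe_pow, ← hkm, pow_orderOf_eq_one]; rfl
    have h2 : orderOf ((g : G) ^ p ^ k) ∣ m := orderOf_dvd_of_pow_eq_one h1
    exact Nat.Coprime.coprime_dvd_left h2
      ((Nat.Prime.coprime_iff_not_dvd hp.out).mpr hm).symm
  exact hH _ (pow_mem g.2 _) hcop

/-- If `N_P(H)` has index prime to `p` in `N_G(H)` and `N_G(H)/C_G(H)` is a `p`-group, then
`N_G(H) = C_G(H) N_P(H)`. -/
theorem exists_mul_of_mem_normalizer {G : Type*} [Group G] [Finite G] {p : ℕ}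
    [hp : Fact p.Prime] (P : Subgroup G) (H : Subgroup G)
    (htame : ¬ p ∣ (P ⊓ Subgroup.normalizer (H : Set G)).relIndex
      (Subgroup.normalizer (H : Set G)))
    (hpg : IsPGroup p (Subgroup.normalizer (H : Set G) ⧸
      (Subgroup.centralizer (H : Set G)).subgroupOf (Subgroup.normalizer (H : Set G))))
    (x : G) (hx : x ∈ Subgroup.normalizer (H : Set G)) :
    ∃ c ∈ Subgroup.centralizer (H : Set G), ∃ y ∈ P, x = c * y := by
  set N := Subgroup.normalizer (H : Set G) with hN
  set C := (Subgroup.centralizer (H : Set G)).subgroupOf N with hC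
  set S := (P ⊓ N).subgroupOf N with hS
  -- the image of `S` in `N ⧸ C` has index both a `p`-power and prime to `p`
  have h1 : (S.map (QuotientGroup.mk' C)).index ∣ S.index :=
    Subgroup.index_map_dvd S (QuotientGroup.mk'_surjective C)
  obtain ⟨n, hn⟩ := hpg.index (S.map (QuotientGroup.mk' C))
  have h2 : (S.map (QuotientGroup.mk' C)).index = 1 := by
    rcases Nat.eq_zero_or_pos n with h0 | hpos
    · rw [hn, h0, pow_zero]
    · exfalso
      apply htame
      have : p ∣ S.index := by
        refine dvd_trans ?_ h1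
        rw [hn]
        exact dvd_pow_self p hpos.ne'
      exact this
  rw [Subgroup.index_eq_one] at h2
  have h3 : (QuotientGroup.mk' C) ⟨x, hx⟩ ∈ S.map (QuotientGroup.mk' C) := by
    rw [h2]; exact Subgroup.mem_top _
  obtain ⟨s, hs, hsx⟩ := h3
  have h4 : (⟨x, hx⟩ : N) * s⁻¹ ∈ C := by
    rw [← QuotientGroup.eq_one_iff, QuotientGroup.mk_mul, QuotientGroup.mk_inv]
    change (QuotientGroup.mk' C) ⟨x, hx⟩ * ((QuotientGroup.mk' C) s)⁻¹ = 1
    rw [hsx, mul_inv_cancel]
  refine ⟨x * (s : G)⁻¹, ?_, (s : G), ?_, by group⟩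
  · rw [hC, Subgroup.mem_subgroupOf] at h4
    simpa using h4
  · have hs' : s ∈ (P ⊓ N).subgroupOf N := hs
    rw [Subgroup.mem_subgroupOf] at hs'
    exact hs'.1

/-- **Control of fusion from Alperin's theorem.**  If `N_G(H) = C_G(H) N_P(H)` for every
non-trivial tame intersection `H = P ∩ Q`, then whenever `A ⊆ P` and `g⁻¹ A g ⊆ P`, conjugation
by `g` on `A` agrees with conjugation by some element of `P`. -/
theorem fusion_control {G : Type*} [Group G] [Finite G] {p : ℕ} [Fact p.Prime] (P : Sylow p G)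
    (hdec : ∀ Q : Sylow p G, (P : Subgroup G) ⊓ (Q : Subgroup G) ≠ ⊥ →
      ¬ p ∣ ((P : Subgroup G) ⊓ Subgroup.normalizer (((P : Subgroup G) ⊓ (Q : Subgroup G) :
        Subgroup G) : Set G)).relIndex (Subgroup.normalizer (((P : Subgroup G) ⊓
        (Q : Subgroup G) : Subgroup G) : Set G)) →
      ¬ p ∣ ((Q : Subgroup G) ⊓ Subgroup.normalizer (((P : Subgroup G) ⊓ (Q : Subgroup G) :
        Subgroup G) : Set G)).relIndex (Subgroup.normalizer (((P : Subgroup G) ⊓
        (Q : Subgroup G) : Subgroup G) : Set G)) →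
      ∀ x ∈ Subgroup.normalizer (((P : Subgroup G) ⊓ (Q : Subgroup G) : Subgroup G) : Set G),
        ∃ c ∈ Subgroup.centralizer (((P : Subgroup G) ⊓ (Q : Subgroup G) : Subgroup G) : Set G),
          ∃ y ∈ (P : Subgroup G), x = c * y)
    (A : Set G) (g : G) (hA : A ⊆ (P : Set G))
    (hAg : (fun a => g⁻¹ * a * g) '' A ⊆ (P : Set G)) :
    ∃ y ∈ (P : Subgroup G), ∀ a ∈ A, g⁻¹ * a * g = y⁻¹ * a * y := by
  classical
  by_cases htriv : ∀ a ∈ A, a = 1
  · exact ⟨1, one_mem _, fun a ha => by rw [htriv a ha]; simp⟩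
  push Not at htriv
  obtain ⟨a0, ha0, ha01⟩ := htriv
  obtain ⟨n, Q, xs, hprod, hall, h0, hi⟩ := Cfsg.Agent.S2012.result P A g hA hAg
  set L : List G := List.ofFn xs with hL
  have hlen : L.length = n := by simp [hL]
  have hmem : ∀ i : Fin n, ∀ a ∈ A, ((L.take i.val).prod)⁻¹ * a * (L.take i.val).prod ∈
      (P : Subgroup G) ⊓ (Q i : Subgroup G) := by
    rintro ⟨i, hi'⟩ a ha
    cases i with
    | zero =>
      have := h0 hi' ha
      simp only [List.take_zero, List.prod_nil, inv_one, one_mul, mul_one]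
      exact this
    | succ j =>
      exact hi ⟨j, by omega⟩ hi' ⟨a, ha, rfl⟩
  have hind : ∀ i : ℕ, i ≤ n → ∃ y ∈ (P : Subgroup G), ∀ a ∈ A,
      ((L.take i).prod)⁻¹ * a * (L.take i).prod = y⁻¹ * a * y := by
    intro i
    induction i with
    | zero => intro _; exact ⟨1, one_mem _, fun a _ => by simp⟩
    | succ j ih =>
      intro hj
      obtain ⟨y, hy, hya⟩ := ih (by omega)
      have hj' : j < L.length := by omega
      have hget : L[j] = xs ⟨j, by omega⟩ := by simp [hL]
      obtain ⟨hN, ht1, ht2, -⟩ := hall ⟨j, by omega⟩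
      have hne : (P : Subgroup G) ⊓ (Q ⟨j, by omega⟩ : Subgroup G) ≠ ⊥ := by
        intro hbot
        have h1 := hmem ⟨j, by omega⟩ a0 ha0
        rw [hbot, Subgroup.mem_bot] at h1
        apply ha01
        have h2 : a0 = (L.take j).prod * (((L.take j).prod)⁻¹ * a0 * (L.take j).prod) *
            ((L.take j).prod)⁻¹ := by group
        rw [h2, h1]; group
      obtain ⟨c, hc, z, hz, hxz⟩ := hdec (Q ⟨j, by omega⟩) hne ht1 ht2 _ hN
      refine ⟨y * z, mul_mem hy hz, fun a ha => ?_⟩
      rw [List.prod_take_succ L j hj', hget, hxz]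
      have hb := hmem ⟨j, by omega⟩ a ha
      have hcb := (Subgroup.mem_centralizer_iff.mp hc) _ hb
      have hya' := hya a ha
      calc ((L.take j).prod * (c * z))⁻¹ * a * ((L.take j).prod * (c * z))
          = z⁻¹ * (c⁻¹ * (((L.take j).prod)⁻¹ * a * (L.take j).prod) * c) * z := by group
        _ = z⁻¹ * (((L.take j).prod)⁻¹ * a * (L.take j).prod) * z := by
            rw [mul_assoc c⁻¹, hcb, inv_mul_cancel_left]
        _ = (y * z)⁻¹ * a * (y * z) := by rw [hya']; group
  obtain ⟨y, hy, hya⟩ := hind n le_rfl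
  refine ⟨y, hy, fun a ha => ?_⟩
  have := hya a ha
  rw [← hlen, List.take_length, hprod] at this
  exact this

/-- If a `p'`-element `g` of `N_G(H)` acts on `H` like a `p`-element `y`, then `g` centralises
`H`. -/
theorem mem_centralizer_of_conj_eq {G : Type*} [Group G] [Finite G] {p : ℕ}
    (H : Subgroup G) (g : G) (hg : g ∈ Subgroup.normalizer (H : Set G))
    (hcop : Nat.Coprime (orderOf g) p) (y : G) (j : ℕ) (hy : y ^ p ^ j = 1)
    (hya : ∀ a ∈ H, g⁻¹ * a * g = y⁻¹ * a * y) : g ∈ Subgroup.centralizer (H : Set G) := by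
  have hpow : ∀ k : ℕ, ∀ a ∈ H, (g ^ k)⁻¹ * a * g ^ k = (y ^ k)⁻¹ * a * y ^ k := by
    intro k
    induction k with
    | zero => intro a _; simp
    | succ k ih =>
      intro a ha
      have hb : (g ^ k)⁻¹ * a * g ^ k ∈ H := by
        have h1 : (g ^ k)⁻¹ ∈ Subgroup.normalizer (H : Set G) := inv_mem (pow_mem hg k)
        have := (Subgroup.mem_normalizer_iff.mp h1 a).mp ha
        rwa [inv_inv] at this
      have h2 := hya _ hb
      rw [ih a ha] at h2
      calc (g ^ (k + 1))⁻¹ * a * g ^ (k + 1) = g⁻¹ * ((g ^ k)⁻¹ * a * g ^ k) * g := by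
            rw [pow_succ]; group
        _ = y⁻¹ * ((y ^ k)⁻¹ * a * y ^ k) * y := by rw [ih a ha, h2]
        _ = (y ^ (k + 1))⁻¹ * a * y ^ (k + 1) := by rw [pow_succ]; group
  rw [Subgroup.mem_centralizer_iff]
  intro a ha
  rcases Nat.lt_or_ge 1 (orderOf g) with h1 | h1
  · have hc : Nat.Coprime (p ^ j) (orderOf g) := (Nat.Coprime.pow_right j hcop).symm
    obtain ⟨t, -, ht⟩ := Nat.exists_mul_mod_eq_one_of_coprime hc h1
    have hgk : g ^ (p ^ j * t) = g := by
      rw [← pow_mod_orderOf, ht, pow_one]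
    have hyk : y ^ (p ^ j * t) = 1 := by rw [pow_mul, hy, one_pow]
    have := hpow (p ^ j * t) a ha
    rw [hgk, hyk] at this
    simp only [inv_one, one_mul, mul_one] at this
    -- g⁻¹ * a * g = a
    calc a * g = g * (g⁻¹ * a * g) := by group
      _ = g * a := by rw [this]
  · have : g = 1 := by
      have h0 : 0 < orderOf g := orderOf_pos g
      have : orderOf g = 1 := by omega
      exact orderOf_eq_one_iff.mp this
    rw [this]; simp

/-- Under the decomposition hypothesis of `fusion_control`, the `p'`-elements of `N_G(H)`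
centralise `H` for every `H ≤ P`. -/
theorem coprime_centralize_of_dec {G : Type*} [Group G] [Finite G] {p : ℕ} [Fact p.Prime]
    (P : Sylow p G)
    (hdec : ∀ Q : Sylow p G, (P : Subgroup G) ⊓ (Q : Subgroup G) ≠ ⊥ →
      ¬ p ∣ ((P : Subgroup G) ⊓ Subgroup.normalizer (((P : Subgroup G) ⊓ (Q : Subgroup G) :
        Subgroup G) : Set G)).relIndex (Subgroup.normalizer (((P : Subgroup G) ⊓
        (Q : Subgroup G) : Subgroup G) : Set G)) →
      ¬ p ∣ ((Q : Subgroup G) ⊓ Subgroup.normalizer (((P : Subgroup G) ⊓ (Q : Subgroup G) :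
        Subgroup G) : Set G)).relIndex (Subgroup.normalizer (((P : Subgroup G) ⊓
        (Q : Subgroup G) : Subgroup G) : Set G)) →
      ∀ x ∈ Subgroup.normalizer (((P : Subgroup G) ⊓ (Q : Subgroup G) : Subgroup G) : Set G),
        ∃ c ∈ Subgroup.centralizer (((P : Subgroup G) ⊓ (Q : Subgroup G) : Subgroup G) : Set G),
          ∃ y ∈ (P : Subgroup G), x = c * y)
    (H : Subgroup G) (hHP : H ≤ (P : Subgroup G)) (g : G)
    (hg : g ∈ Subgroup.normalizer (H : Set G)) (hcop : Nat.Coprime (orderOf g) p) :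
    g ∈ Subgroup.centralizer (H : Set G) := by
  have hAg : (fun a => g⁻¹ * a * g) '' (H : Set G) ⊆ (P : Set G) := by
    rintro _ ⟨a, ha, rfl⟩
    have h1 : g⁻¹ ∈ Subgroup.normalizer (H : Set G) := inv_mem hg
    have := (Subgroup.mem_normalizer_iff.mp h1 a).mp ha
    rw [inv_inv] at this
    exact hHP this
  obtain ⟨y, hy, hya⟩ := fusion_control P hdec (H : Set G) g hHP hAg
  obtain ⟨j, hj⟩ := P.2 ⟨y, hy⟩
  have hyj : y ^ p ^ j = 1 := by
    have := congrArg Subtype.val hj
    simpa using this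
  exact mem_centralizer_of_conj_eq H g hg hcop y j hyj hya

/-- Membership in a conjugate subgroup `H.map (conj k)`. -/
theorem mem_map_conj_iff {G : Type*} [Group G] (H : Subgroup G) (k x : G) :
    x ∈ H.map (MulAut.conj k).toMonoidHom ↔ k⁻¹ * x * k ∈ H := by
  rw [Subgroup.mem_map]
  constructor
  · rintro ⟨h, hh, rfl⟩
    have : k⁻¹ * ((MulAut.conj k).toMonoidHom h) * k = h := by
      simp [MulAut.conj_apply]; group
    rw [this]; exact hh
  · intro hx
    refine ⟨k⁻¹ * x * k, hx, ?_⟩
    simp [MulAut.conj_apply]; group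

/-- The Frobenius condition for subgroups of one Sylow `p`-subgroup implies it for all
`p`-subgroups. -/
theorem coprime_centralize_of_sylow {G : Type*} [Group G] [Finite G] {p : ℕ} [Fact p.Prime]
    (P : Sylow p G)
    (hP : ∀ H : Subgroup G, H ≤ (P : Subgroup G) → ∀ g ∈ Subgroup.normalizer (H : Set G),
      Nat.Coprime (orderOf g) p → g ∈ Subgroup.centralizer (H : Set G))
    (H : Subgroup G) (hH : IsPGroup p H) (g : G) (hg : g ∈ Subgroup.normalizer (H : Set G))
    (hcop : Nat.Coprime (orderOf g) p) : g ∈ Subgroup.centralizer (H : Set G) := by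
  obtain ⟨Q, hQ⟩ := hH.exists_le_sylow
  obtain ⟨k, hk⟩ := MulAction.exists_smul_eq G Q P
  set H' : Subgroup G := H.map (MulAut.conj k).toMonoidHom with hH'
  have hH'P : H' ≤ (P : Subgroup G) := by
    intro x hx
    rw [hH', mem_map_conj_iff] at hx
    have h1 : k⁻¹ * x * k ∈ (Q : Subgroup G) := hQ hx
    have h2 : x ∈ ((k • Q : Sylow p G) : Subgroup G) := by
      rw [Sylow.coe_subgroup_smul]
      have : x = MulAut.conj k • (k⁻¹ * x * k) := by
        simp [MulAut.smul_def, MulAut.conj_apply]; group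
      rw [this]
      exact Subgroup.smul_mem_pointwise_smul _ _ _ h1
    rw [hk] at h2
    exact h2
  have hg' : k * g * k⁻¹ ∈ Subgroup.normalizer (H' : Set G) := by
    rw [Subgroup.mem_normalizer_iff]
    intro x
    rw [hH', mem_map_conj_iff, mem_map_conj_iff]
    have := Subgroup.mem_normalizer_iff.mp hg (k⁻¹ * x * k)
    rw [this]
    have e : k⁻¹ * (k * g * k⁻¹ * x * (k * g * k⁻¹)⁻¹) * k = g * (k⁻¹ * x * k) * g⁻¹ := by group
    rw [e]
  have hord : orderOf (k * g * k⁻¹) = orderOf g := by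
    have := MulEquiv.orderOf_eq (MulAut.conj k) g
    rwa [MulAut.conj_apply] at this
  have hc := hP H' hH'P _ hg' (by rw [hord]; exact hcop)
  rw [Subgroup.mem_centralizer_iff] at hc ⊢
  intro h hh
  have hx : k * h * k⁻¹ ∈ H' := by
    rw [hH', mem_map_conj_iff]
    have : k⁻¹ * (k * h * k⁻¹) * k = h := by group
    rw [this]; exact hh
  have := hc _ hx
  -- (k h k⁻¹)(k g k⁻¹) = (k g k⁻¹)(k h k⁻¹)
  have e1 : k * h * k⁻¹ * (k * g * k⁻¹) = k * (h * g) * k⁻¹ := by group
  have e2 : k * g * k⁻¹ * (k * h * k⁻¹) = k * (g * h) * k⁻¹ := by group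
  rw [e1, e2] at this
  exact mul_left_cancel (mul_right_cancel this)

/-- A normal subgroup `M` containing all `p'`-elements of `G` and having a normal `p`-complement
forces `G` to have one. -/
theorem hasNormalPComplement_of_subgroup {G : Type*} [Group G] [Finite G] {p : ℕ}
    [Fact p.Prime] (M : Subgroup G)
    (hM : ∀ g : G, Nat.Coprime (orderOf g) p → g ∈ M)
    (h : HasNormalPComplement p M) : HasNormalPComplement p G := by
  rw [Cfsg.Agent.Lib.Helper34.hasNormalPComplement_iff_pResidual_coprime]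
  obtain ⟨S, K, hKn, hK⟩ := h
  have hle : pResidual p G ≤ K.map M.subtype := by
    unfold pResidual
    rw [Subgroup.closure_le]
    intro g hg
    have hgM : g ∈ M := hM g hg
    have hgK : (⟨g, hgM⟩ : M) ∈ K := by
      apply Cfsg.Agent.Lib.Helper34.mem_of_coprime_orderOf_of_isComplement' S K hK
      have : orderOf (⟨g, hgM⟩ : M) = orderOf g := by
        rw [← Subgroup.orderOf_coe]
      rw [this]; exact hg
    exact ⟨⟨g, hgM⟩, hgK, rfl⟩
  have hcard : Nat.card (K.map M.subtype) = Nat.card K :=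
    Subgroup.card_map_of_injective M.subtype_injective
  have hcop := Cfsg.Agent.Lib.Helper34.card_coprime_of_isComplement' S K hK
  rw [← hcard] at hcop
  exact Nat.Coprime.coprime_dvd_left (Subgroup.card_dvd_of_le hle) hcop

/-- The Frobenius condition passes to subgroups. -/
theorem coprime_centralize_subgroup {G : Type*} [Group G] {p : ℕ} (M : Subgroup G)
    (hyp : ∀ H : Subgroup G, IsPGroup p H → ∀ g ∈ Subgroup.normalizer (H : Set G),
      Nat.Coprime (orderOf g) p → g ∈ Subgroup.centralizer (H : Set G))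
    (H : Subgroup M) (hH : IsPGroup p H) (g : M) (hg : g ∈ Subgroup.normalizer (H : Set M))
    (hcop : Nat.Coprime (orderOf g) p) : g ∈ Subgroup.centralizer (H : Set M) := by
  have h1 : IsPGroup p (H.map M.subtype) := hH.map M.subtype
  have h2 : (g : G) ∈ Subgroup.normalizer ((H.map M.subtype : Subgroup G) : Set G) :=
    Subgroup.le_normalizer_map M.subtype ⟨g, hg, rfl⟩
  have h3 : Nat.Coprime (orderOf (g : G)) p := by rw [Subgroup.orderOf_coe]; exact hcop
  have h4 := hyp _ h1 _ h2 h3
  rw [Subgroup.mem_centralizer_iff] at h4 ⊢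
  intro h hh
  have := h4 (h : G) ⟨h, hh, rfl⟩
  exact Subtype.ext this

/-- **Frobenius' normal `p`-complement theorem** (the hard direction): if for every `p`-subgroup
`H` of `G` all `p'`-elements of `N_G(H)` centralise `H`, then `G` has a normal `p`-complement. -/
theorem hasNormalPComplement_of_forall_coprime_centralize {G : Type*} [Group G] [Finite G]
    (p : ℕ) [Fact p.Prime]
    (hyp : ∀ H : Subgroup G, IsPGroup p H → ∀ g ∈ Subgroup.normalizer (H : Set G),
      Nat.Coprime (orderOf g) p → g ∈ Subgroup.centralizer (H : Set G)) :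
    HasNormalPComplement p G := by
  induction hn : Nat.card G using Nat.strong_induction_on generalizing G with
  | _ n ih =>
  obtain ⟨P⟩ : Nonempty (Sylow p G) := inferInstance
  by_cases hbot : (P : Subgroup G) = ⊥
  · exact ⟨P, ⊤, inferInstance, by rw [hbot]; exact Subgroup.isComplement'_top_bot⟩
  -- decomposition of normalisers of tame intersections
  have hdec : ∀ Q : Sylow p G, (P : Subgroup G) ⊓ (Q : Subgroup G) ≠ ⊥ →
      ¬ p ∣ ((P : Subgroup G) ⊓ Subgroup.normalizer (((P : Subgroup G) ⊓ (Q : Subgroup G) :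
        Subgroup G) : Set G)).relIndex (Subgroup.normalizer (((P : Subgroup G) ⊓
        (Q : Subgroup G) : Subgroup G) : Set G)) →
      ¬ p ∣ ((Q : Subgroup G) ⊓ Subgroup.normalizer (((P : Subgroup G) ⊓ (Q : Subgroup G) :
        Subgroup G) : Set G)).relIndex (Subgroup.normalizer (((P : Subgroup G) ⊓
        (Q : Subgroup G) : Subgroup G) : Set G)) →
      ∀ x ∈ Subgroup.normalizer (((P : Subgroup G) ⊓ (Q : Subgroup G) : Subgroup G) : Set G),
        ∃ c ∈ Subgroup.centralizer (((P : Subgroup G) ⊓ (Q : Subgroup G) : Subgroup G) : Set G),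
          ∃ y ∈ (P : Subgroup G), x = c * y := by
    intro Q _ ht1 _ x hx
    exact exists_mul_of_mem_normalizer (P : Subgroup G) _ ht1
      (isPGroup_normalizer_quotient_centralizer _ (hyp _ (P.2.to_le inf_le_left))) x hx
  -- the focal subgroup is the derived subgroup of `P`
  have hfoc : (P : Subgroup G).focalSubgroup ≤ ⁅(P : Subgroup G), (P : Subgroup G)⁆ := by
    rw [Subgroup.focalSubgroup_def, Subgroup.closure_le]
    rintro g ⟨hgP, x, hxP, u, rfl⟩
    have hux : u * x * u⁻¹ ∈ (P : Subgroup G) := by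
      have : u * x * u⁻¹ = (x⁻¹ * ⁅x, u⁆)⁻¹ := by
        rw [commutatorElement_def]; group
      rw [this]; exact inv_mem (mul_mem (inv_mem hxP) hgP)
    obtain ⟨y, hy, hya⟩ := fusion_control P hdec {x} u⁻¹ (Set.singleton_subset_iff.mpr hxP)
      (by
        rw [Set.image_singleton, Set.singleton_subset_iff, inv_inv]
        exact hux)
    have h1 := hya x rfl
    rw [inv_inv] at h1
    have e : ⁅x, u⁆ = ⁅x, y⁻¹⁆ := by
      rw [commutatorElement_def, commutatorElement_def, inv_inv]
      calc x * u * x⁻¹ * u⁻¹ = x * (u * x * u⁻¹)⁻¹ := by group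
        _ = x * (y⁻¹ * x * y)⁻¹ := by rw [h1]
        _ = x * y⁻¹ * x⁻¹ * y := by group
    rw [e]
    exact Subgroup.commutator_mem_commutator hxP (inv_mem hy)
  -- hence the focal subgroup is proper
  have hPnt : Nontrivial (P : Subgroup G) := by
    rw [Subgroup.nontrivial_iff_ne_bot]; exact hbot
  have hnil : Group.IsNilpotent (P : Subgroup G) := P.2.isNilpotent
  have hcomm : commutator (P : Subgroup G) < ⊤ :=
    Group.IsSolvable.commutator_lt_top_of_nontrivial (P : Subgroup G)
  have hfocOf : (P : Subgroup G).focalSubgroupOf ≤ commutator (P : Subgroup G) := by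
    rw [Subgroup.focalSubgroupOf_def]
    intro z hz
    rw [Subgroup.mem_subgroupOf] at hz
    have h1 := hfoc hz
    rw [← Subgroup.map_subtype_commutator] at h1
    obtain ⟨w, hw, hwz⟩ := h1
    have : w = z := Subtype.ext hwz
    rw [← this]; exact hw
  obtain ⟨z, -, hz'⟩ := SetLike.exists_of_lt (lt_of_le_of_lt hfocOf hcomm)
  -- the kernel of the transfer into `P / P*`
  set φ := (P : Subgroup G).transferFocal with hφ
  have hsurj : Function.Surjective φ := Subgroup.transferFocal_surjective P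
  have hpq : IsPGroup p ((P : Subgroup G) ⧸ (P : Subgroup G).focalSubgroupOf) :=
    P.2.to_quotient _
  set M : Subgroup G := φ.ker with hM
  have hMlt : Nat.card M < n := by
    rw [← hn]
    by_contra hge
    push Not at hge
    have htop : M = ⊤ := Subgroup.eq_top_of_le_card M hge
    obtain ⟨g, hg⟩ := hsurj (QuotientGroup.mk z)
    have hgM : g ∈ M := by rw [htop]; exact Subgroup.mem_top g
    rw [hM, MonoidHom.mem_ker, hg, QuotientGroup.eq_one_iff] at hgM
    exact hz' hgM
  have hMall : ∀ g : G, Nat.Coprime (orderOf g) p → g ∈ M := by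
    intro g hg
    rw [hM, MonoidHom.mem_ker]
    obtain ⟨k, hk⟩ := hpq (φ g)
    have h1 : orderOf (φ g) ∣ p ^ k := orderOf_dvd_of_pow_eq_one hk
    have h2 : orderOf (φ g) ∣ orderOf g := orderOf_map_dvd φ g
    have h3 : Nat.Coprime (orderOf g) (p ^ k) := Nat.Coprime.pow_right k hg
    have h4 : orderOf (φ g) = 1 := Nat.eq_one_of_dvd_coprimes h3 h2 h1
    exact orderOf_eq_one_iff.mp h4
  have hMcompl : HasNormalPComplement p M :=
    ih (Nat.card M) hMlt (fun H hH g hg hcop => coprime_centralize_subgroup M hyp H hH g hg hcop)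
      rfl
  exact hasNormalPComplement_of_subgroup M hMall hMcompl

end Cfsg.Agent.Lib.Helper71
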