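import Mathlib

/-!
# Definitions for the Livingstone–Wagner statements S0747 / S0748 (helper71)

Everything is phrased for a subgroup `G` of `Equiv.Perm α`, `α` finite, in elementary terms.
-/

set_option autoImplicit false
open Equiv

namespace Cfsg.Agent.Lib.Helper71.LW

variable {α : Type*} [Fintype α] [DecidableEq α]

/-- `G` is `k`-transitive, elementary form -/
def Trans (G : Subgroup (Perm α)) (k : ℕ) : Prop :=
  ∀ x y : Fin k ↪ α, ∃ g ∈ G, ∀ i, g (x i) = y i

/-- `G` is `j`-homogeneous, elementary form -/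
def Homog (G : Subgroup (Perm α)) (j : ℕ) : Prop :=
  ∀ s t : Finset α, s.card = j → t.card = j → ∃ g ∈ G, s.image g = t

/-- pointwise stabiliser of a finset in a permutation group -/
def pstab (G : Subgroup (Perm α)) (s : Finset α) : Subgroup (Perm α) where
  carrier := {g | g ∈ G ∧ ∀ x ∈ s, g x = x}
  one_mem' := ⟨G.one_mem, fun _ _ => rfl⟩
  mul_mem' := by
    rintro a b ⟨ha, ha'⟩ ⟨hb, hb'⟩
    exact ⟨G.mul_mem ha hb, fun x hx => by rw [Perm.mul_apply, hb' x hx, ha' x hx]⟩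
  inv_mem' := by
    rintro a ⟨ha, ha'⟩
    exact ⟨G.inv_mem ha, fun x hx => by rw [Perm.inv_eq_iff_eq, ha' x hx]⟩

theorem mem_pstab {G : Subgroup (Perm α)} {s : Finset α} {g : Perm α} :
    g ∈ pstab G s ↔ g ∈ G ∧ ∀ x ∈ s, g x = x := Iff.rfl

theorem pstab_le (G : Subgroup (Perm α)) (s : Finset α) : pstab G s ≤ G := fun _ h => h.1

theorem pstab_mono (G : Subgroup (Perm α)) {s t : Finset α} (h : s ⊆ t) : pstab G t ≤ pstab G s :=
  fun _ hg => ⟨hg.1, fun x hx => hg.2 x (h hx)⟩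

/-- the set of common fixed points of a subgroup of `Perm α` -/
noncomputable def fixPts (P : Subgroup (Perm α)) : Finset α := by
  classical exact Finset.univ.filter (fun x => ∀ g ∈ P, g x = x)

theorem mem_fixPts {P : Subgroup (Perm α)} {x : α} : x ∈ fixPts P ↔ ∀ g ∈ P, g x = x := by
  classical
  unfold fixPts
  simp

/-- `P` is a Sylow `2`-subgroup of `H` (both subgroups of `Perm α`) -/
def IsSyl2In (P H : Subgroup (Perm α)) : Prop :=
  P ≤ H ∧ IsPGroup 2 P ∧ ∀ Q : Subgroup (Perm α), IsPGroup 2 Q → P ≤ Q → Q ≤ H → Q = P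

/-- every even permutation of `Δ` is induced by an element of `G` (which then stabilises `Δ`) -/
def InducesAlt (G : Subgroup (Perm α)) (Δ : Finset α) : Prop :=
  ∀ σ : Perm ↥Δ, σ ∈ alternatingGroup ↥Δ → ∃ g ∈ G, ∀ x : ↥Δ, g (x : α) = σ x

/-- every permutation of `Δ` is induced by an element of `G` -/
def InducesSym (G : Subgroup (Perm α)) (Δ : Finset α) : Prop :=
  ∀ σ : Perm ↥Δ, ∃ g ∈ G, ∀ x : ↥Δ, g (x : α) = σ x

theorem InducesSym.inducesAlt {G : Subgroup (Perm α)} {Δ : Finset α} (h : InducesSym G Δ) :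
    InducesAlt G Δ := fun σ _ => h σ

/-- `G` is sharply `k`-transitive-like: only the identity fixes `k` points -/
def Sharp (G : Subgroup (Perm α)) (k : ℕ) : Prop :=
  ∀ g ∈ G, ∀ Γ : Finset α, Γ.card = k → (∀ x ∈ Γ, g x = x) → g = 1

end Cfsg.Agent.Lib.Helper71.LW
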