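/-
helper71 (hedge for helper94's project SPMD = S2333): module [C-TRANS] `exists_GL_map_pair`:
`GL_n(F)` is transitive on linearly independent pairs.  Statement verbatim from
`Lib/Helper94/SPMD/Skel.lean.txt`, but in MY namespace (to avoid a clash with the owner's copy).
Mathlib only.
-/
import Mathlib

set_option autoImplicit false

namespace Cfsg.Agent.Lib.Helper71.SPMD

open Matrix Module

variable {F : Type*} [Field F] [Fintype F] {n : ℕ}

/-- **[C-TRANS]** `GL_n` is transitive on linearly independent pairs -/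
theorem exists_GL_map_pair (x₀ y₀ x y : Fin n → F) (h₀ : LinearIndependent F ![x₀, y₀])
    (h : LinearIndependent F ![x, y]) :
    ∃ A : GL (Fin n) F, (A : Matrix (Fin n) (Fin n) F) *ᵥ x₀ = x ∧
      (A : Matrix (Fin n) (Fin n) F) *ᵥ y₀ = y := by
  let b₀ := Basis.span h₀
  let b := Basis.span h
  let f : Submodule.span F (Set.range ![x₀, y₀]) ≃ₗ[F] Submodule.span F (Set.range ![x, y]) :=
    b₀.equiv b (Equiv.refl _)
  obtain ⟨g, hg⟩ := Submodule.exists_linearEquiv_restrict_eq f
  have hb₀ : ∀ i, ((b₀ i : Submodule.span F (Set.range ![x₀, y₀])) : Fin n → F) = ![x₀, y₀] i :=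
    fun i => congrArg Subtype.val (Basis.span_apply h₀ i)
  have hb : ∀ i, ((b i : Submodule.span F (Set.range ![x, y])) : Fin n → F) = ![x, y] i :=
    fun i => congrArg Subtype.val (Basis.span_apply h i)
  have hfi : ∀ i, f (b₀ i) = b i := fun i => by
    simp [f]
  have hgi : ∀ i, g (![x₀, y₀] i) = ![x, y] i := by
    intro i
    rw [← hb₀ i, ← hg (b₀ i), hfi i, hb i]
  have hgx : g x₀ = x := hgi 0
  have hgy : g y₀ = y := hgi 1
  let M : Matrix (Fin n) (Fin n) F := LinearMap.toMatrix' (g : (Fin n → F) →ₗ[F] (Fin n → F))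
  let M' : Matrix (Fin n) (Fin n) F :=
    LinearMap.toMatrix' (g.symm : (Fin n → F) →ₗ[F] (Fin n → F))
  have h1 : M * M' = 1 := by
    rw [← LinearMap.toMatrix'_comp]
    have : (g : (Fin n → F) →ₗ[F] (Fin n → F)).comp (g.symm : (Fin n → F) →ₗ[F] (Fin n → F))
        = LinearMap.id := by
      ext v
      simp
    rw [this, LinearMap.toMatrix'_id]
  have h2 : M' * M = 1 := by
    rw [← LinearMap.toMatrix'_comp]
    have : (g.symm : (Fin n → F) →ₗ[F] (Fin n → F)).comp (g : (Fin n → F) →ₗ[F] (Fin n → F))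
        = LinearMap.id := by
      ext v
      simp
    rw [this, LinearMap.toMatrix'_id]
  refine ⟨⟨M, M', h1, h2⟩, ?_, ?_⟩
  · show M *ᵥ x₀ = x
    rw [LinearMap.toMatrix'_mulVec]
    exact hgx
  · show M *ᵥ y₀ = y
    rw [LinearMap.toMatrix'_mulVec]
    exact hgy

end Cfsg.Agent.Lib.Helper71.SPMD
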