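import Mathlib
import Cfsg.Prelude.Def_Blocks
import Cfsg.Agent.Lib.Helper77.CenterIrr
import Cfsg.Agent.Lib.Helper77.Deflation
import Cfsg.Agent.Lib.Helper77.Linear
import Cfsg.Agent.Lib.Helper78.CharOrtho
import Cfsg.Agent.Lib.Helper78.CharMore
import Cfsg.Agent.Lib.Helper78.CharValues
import Cfsg.Agent.Lib.Helper78.CentralTwist
import Cfsg.Agent.Lib.Helper74.AFTTwist
import Cfsg.Agent.Lib.Helper80.ItoMichler

/-!
# Galois-conjugate characters of equal degree (helper71, for S4845)

Character-theoretic lemmas.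
-/

set_option autoImplicit false
set_option linter.unusedSectionVars false

namespace Cfsg.Agent.Lib.Helper71

open Cfsg Cfsg.Agent.Lib
open scoped ComplexConjugate commutatorElement

universe u

/-- The hypothesis of S4845: nonlinear irreducible characters of equal degree are Galois
conjugate. -/
def GCHyp (G : Type u) [Group G] : Prop :=
  ∀ χ ψ : IrrCharacter G, charDegree (χ : G → ℂ) ≠ 1 →
    charDegree (χ : G → ℂ) = charDegree (ψ : G → ℂ) →
    ∃ k : ℕ, Nat.Coprime k (Nat.card G) ∧ ∀ g : G, (ψ : G → ℂ) g = (χ : G → ℂ) (g ^ k)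

section Basic

variable {G : Type u} [Group G] [Finite G]

theorem gc_pow_mem_iff (K : Subgroup G) (g : G) {k : ℕ} (hk : Nat.Coprime k (Nat.card G)) :
    g ^ k ∈ K ↔ g ∈ K := by
  constructor
  · intro h
    have hk' : Nat.Coprime k (orderOf g) :=
      Nat.Coprime.coprime_dvd_right (orderOf_dvd_natCard g) hk
    obtain ⟨m, hm⟩ := exists_pow_eq_self_of_coprime hk'
    rw [← hm]
    exact K.pow_mem h m
  · intro h
    exact K.pow_mem h k

theorem gc_irr_one (χ : IrrCharacter G) : (χ : G → ℂ) 1 = (charDegree (χ : G → ℂ) : ℂ) :=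
  Helper78.IsCharacter.apply_one_eq_charDegree (Helper78.IsIrrCharacter.isCharacter χ.2)

theorem gc_irr_one_ne_zero (χ : IrrCharacter G) : (χ : G → ℂ) 1 ≠ 0 := by
  rw [Helper77.irr_apply_one]
  exact_mod_cast Helper77.irrDim_ne_zero χ

theorem gc_charDegree_pos (χ : IrrCharacter G) : 0 < charDegree (χ : G → ℂ) := by
  have h := gc_irr_one_ne_zero χ
  rw [gc_irr_one] at h
  have : charDegree (χ : G → ℂ) ≠ 0 := by
    intro h0
    apply h
    rw [h0]
    simp
  omega

/-- Galois conjugate characters have the same kernel. -/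
theorem gc_irrKer_eq (χ ψ : IrrCharacter G) {k : ℕ} (hk : Nat.Coprime k (Nat.card G))
    (h : ∀ g : G, (ψ : G → ℂ) g = (χ : G → ℂ) (g ^ k)) :
    Helper77.irrKer ψ = Helper77.irrKer χ := by
  ext g
  rw [Helper77.mem_irrKer, ← gc_pow_mem_iff (Helper77.irrKer χ) g hk, Helper77.mem_irrKer,
    h g, h 1, one_pow]

/-- characters of the same degree have the same kernel, under `GCHyp` -/
theorem GCHyp.irrKer_eq (hH : GCHyp G) (χ ψ : IrrCharacter G)
    (h1 : charDegree (χ : G → ℂ) ≠ 1)
    (h : charDegree (χ : G → ℂ) = charDegree (ψ : G → ℂ)) :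
    Helper77.irrKer ψ = Helper77.irrKer χ := by
  obtain ⟨k, hk, hkk⟩ := hH χ ψ h1 h
  exact gc_irrKer_eq χ ψ hk hkk

theorem gc_charDegree_twist (μ : G →* ℂˣ) (χ : IrrCharacter G) :
    charDegree ((Helper74.twistIrr μ χ : IrrCharacter G) : G → ℂ) = charDegree (χ : G → ℂ) := by
  unfold charDegree
  rw [Helper74.twistIrr_apply, map_one, Units.val_one, one_mul]

/-- an element outside the commutator subgroup is separated from `1` by a linear character -/
theorem gc_exists_linear_ne_one {g : G} (hg : g ∉ commutator G) :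
    ∃ μ : G →* ℂˣ, μ g ≠ 1 := by
  have hne : NeZero ((Monoid.exponent (Abelianization G) : ℕ) : ℂ) :=
    ⟨by exact_mod_cast Monoid.exponent_ne_zero_of_finite⟩
  have hg1 : (Abelianization.of g : Abelianization G) ≠ 1 := by
    intro h
    apply hg
    exact (QuotientGroup.eq_one_iff g).mp h
  obtain ⟨φ, hφ⟩ :=
    CommGroup.exists_apply_ne_one_of_hasEnoughRootsOfUnity (Abelianization G) ℂ hg1
  exact ⟨φ.comp Abelianization.of, hφ⟩

/-- Under `GCHyp`, the kernel of a nonlinear irreducible character lies in the commutator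
subgroup. -/
theorem GCHyp.irrKer_le_commutator (hH : GCHyp G) (χ : IrrCharacter G)
    (h1 : charDegree (χ : G → ℂ) ≠ 1) : Helper77.irrKer χ ≤ commutator G := by
  intro g hg
  by_contra hgc
  obtain ⟨μ, hμ⟩ := gc_exists_linear_ne_one hgc
  have hker := hH.irrKer_eq χ (Helper74.twistIrr μ χ) h1 (gc_charDegree_twist μ χ).symm
  have hg' : g ∈ Helper77.irrKer (Helper74.twistIrr μ χ) := by rw [hker]; exact hg
  rw [Helper77.mem_irrKer, Helper74.twistIrr_apply, Helper74.twistIrr_apply, map_one,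
    Units.val_one, one_mul, (Helper77.mem_irrKer χ g).mp hg] at hg'
  have h2 : ((μ g : ℂˣ) : ℂ) = 1 := by
    have h3 := gc_irr_one_ne_zero χ
    field_simp at hg'
    exact hg'
  exact hμ (Units.ext h2)

/-- `GCHyp` passes to quotients. -/
theorem GCHyp.quotient (hH : GCHyp G) (N : Subgroup G) [N.Normal] : GCHyp (G ⧸ N) := by
  intro χ' ψ' h1 h
  have hd1 := Helper80.charDegree_inflate N χ'
  have hd2 := Helper80.charDegree_inflate N ψ'
  obtain ⟨k, hk, hkk⟩ := hH (Helper77.inflate N χ') (Helper77.inflate N ψ')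
    (by rw [hd1]; exact h1) (by rw [hd1, hd2]; exact h)
  refine ⟨k, Nat.Coprime.coprime_dvd_right (Subgroup.card_quotient_dvd_card N) hk, fun x => ?_⟩
  obtain ⟨g, rfl⟩ := QuotientGroup.mk_surjective x
  have := hkk g
  rw [Helper77.inflate_apply, Helper77.inflate_apply] at this
  rw [this]
  rfl

end Basic

section Ortho

variable {G : Type u} [Group G] [Fintype G]

/-- a nonidentity element is outside the kernel of some irreducible character -/
theorem gc_exists_irr_not_mem_irrKer {n : G} (hn : n ≠ 1) :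
    ∃ χ : IrrCharacter G, n ∉ Helper77.irrKer χ := by
  by_contra hcon
  push Not at hcon
  have hnc : ¬ IsConj n (1 : G) := by
    intro h
    exact hn (isConj_one_left.mp h)
  have h1 := Helper78.second_orthogonality_of_not_isConj hnc
  have h2 : ∑ χ : IrrCharacter G, (χ : G → ℂ) n * conj ((χ : G → ℂ) 1) =
      ∑ χ : IrrCharacter G, ((χ : G → ℂ) 1) ^ 2 := by
    apply Finset.sum_congr rfl
    intro χ _
    rw [(Helper77.mem_irrKer χ n).mp (hcon χ), gc_irr_one, Complex.conj_natCast, sq]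
  rw [h2, Helper78.sum_irr_apply_one_sq] at h1
  have : (Nat.card G : ℂ) ≠ 0 := by exact_mod_cast Nat.card_pos.ne'
  exact this h1

/-- a character whose kernel contains the commutator subgroup is linear -/
theorem gc_charDegree_eq_one_of_commutator_le (χ : IrrCharacter G)
    (h : commutator G ≤ Helper77.irrKer χ) : charDegree (χ : G → ℂ) = 1 := by
  have hk : ∀ n ∈ commutator G, (χ : G → ℂ) n = (χ : G → ℂ) 1 :=
    fun n hn => (Helper77.mem_irrKer χ n).mp (h hn)
  have h1 := Helper80.charDegree_inflate (commutator G) (Helper77.deflate (commutator G) χ hk)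
  rw [Helper77.inflate_deflate] at h1
  rw [h1]
  have hcomm : ∀ a b : Abelianization G, a * b = b * a := fun a b => mul_comm a b
  have hc : IsMulCommutative (G ⧸ commutator G) := ⟨⟨hcomm⟩⟩
  have h2 := Helper78.IsIrrCharacter.map_one_of_comm (Helper77.deflate (commutator G) χ hk).2
  rw [gc_irr_one] at h2
  exact_mod_cast h2

/-- a nonlinear character does not have the commutator subgroup in its kernel -/
theorem gc_not_commutator_le (χ : IrrCharacter G) (h1 : charDegree (χ : G → ℂ) ≠ 1) :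
    ¬ commutator G ≤ Helper77.irrKer χ :=
  fun h => h1 (gc_charDegree_eq_one_of_commutator_le χ h)

/-- If `G' ≤ Z(χ)` then `χ` vanishes off `Z(χ)`. -/
theorem gc_vanish_off_irrCenter (χ : IrrCharacter G)
    (h : commutator G ≤ Helper77.irrCenter χ) {g : G} (hg : g ∉ Helper77.irrCenter χ) :
    (χ : G → ℂ) g = 0 := by
  rw [Helper77.mem_irrCenter_iff_commutator] at hg
  push Not at hg
  obtain ⟨x, hx⟩ := hg
  have hz : ⁅g, x⁆ ∈ Helper77.irrCenter χ := by
    apply h
    rw [commutator_def]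
    exact Subgroup.commutator_mem_commutator (Subgroup.mem_top g) (Subgroup.mem_top x)
  have h1 := Helper77.irr_center_mul χ ⟨⁅g, x⁆, hz⟩ (x * g * x⁻¹)
  have h2 : ⁅g, x⁆ * (x * g * x⁻¹) = g := by
    rw [commutatorElement_def]; group
  simp only at h1
  rw [h2, Helper78.isClassFunction_irr χ g x] at h1
  have hs : Helper77.irrCenterScalar χ ⟨⁅g, x⁆, hz⟩ ≠ 1 := by
    intro hs
    rw [Helper77.irrCenterScalar_apply] at hs
    apply hx
    rw [Helper77.mem_irrKer]
    have hne := gc_irr_one_ne_zero χ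
    field_simp at hs
    exact hs
  by_contra hne
  apply hs
  have : (χ : G → ℂ) g * 1 = (χ : G → ℂ) g * Helper77.irrCenterScalar χ ⟨⁅g, x⁆, hz⟩ := by
    rw [mul_one, mul_comm]; exact h1
  exact (mul_left_cancel₀ hne this).symm

/-- If `G' ≤ Z(χ)` then `χ(1)² |Z(χ)| = |G|`. -/
theorem gc_sq_mul_card_irrCenter (χ : IrrCharacter G)
    (h : commutator G ≤ Helper77.irrCenter χ) :
    charDegree (χ : G → ℂ) ^ 2 * Nat.card (Helper77.irrCenter χ) = Nat.card G := by
  classical
  have h1 := Helper77.sum_normSq_irr χ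
  have h2 : ∑ g : G, ‖(χ : G → ℂ) g‖ ^ 2 =
      ∑ g ∈ Finset.univ.filter (fun g : G => g ∈ Helper77.irrCenter χ),
        ‖(χ : G → ℂ) g‖ ^ 2 := by
    symm
    apply Finset.sum_subset (Finset.filter_subset _ _)
    intro g _ hg
    have hg' : g ∉ Helper77.irrCenter χ := by
      intro hh; exact hg (Finset.mem_filter.mpr ⟨Finset.mem_univ g, hh⟩)
    rw [gc_vanish_off_irrCenter χ h hg']
    simp
  have h3 : ∑ g ∈ Finset.univ.filter (fun g : G => g ∈ Helper77.irrCenter χ),
        ‖(χ : G → ℂ) g‖ ^ 2 =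
      (Nat.card (Helper77.irrCenter χ) : ℝ) * (charDegree (χ : G → ℂ) : ℝ) ^ 2 := by
    rw [Finset.sum_congr rfl (fun g hg => by
      rw [(Helper77.mem_irrCenter χ g).mp (Finset.mem_filter.mp hg).2]),
      Finset.sum_const, nsmul_eq_mul]
    congr 2
    · rw [Nat.card_eq_fintype_card, Fintype.card_subtype]
    · rw [gc_irr_one]; simp
  rw [h2, h3] at h1
  have : ((charDegree (χ : G → ℂ) ^ 2 * Nat.card (Helper77.irrCenter χ) : ℕ) : ℝ) =
      (Nat.card G : ℝ) := by
    push_cast
    rw [← h1]; ring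
  exact_mod_cast this

/-- If `G' ≤ Z(χ)` then `|G : Z(χ)| = χ(1)²`. -/
theorem gc_index_irrCenter (χ : IrrCharacter G)
    (h : commutator G ≤ Helper77.irrCenter χ) :
    (Helper77.irrCenter χ).index = charDegree (χ : G → ℂ) ^ 2 := by
  have h1 := gc_sq_mul_card_irrCenter χ h
  have h2 := (Helper77.irrCenter χ).card_mul_index
  have hpos : 0 < Nat.card (Helper77.irrCenter χ) := Nat.card_pos
  rw [← h1, mul_comm] at h2
  exact Nat.eq_of_mul_eq_mul_right hpos h2

end Ortho

section Comm

variable {G : Type u} [Group G]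

theorem gc_commutatorElement_mul_left (g h a : G) (hc : ⁅h, a⁆ ∈ Subgroup.center G) :
    ⁅g * h, a⁆ = ⁅g, a⁆ * ⁅h, a⁆ := by
  have key : ⁅g * h, a⁆ = g * ⁅h, a⁆ * g⁻¹ * ⁅g, a⁆ := by
    simp only [commutatorElement_def]; group
  have h1 : g * ⁅h, a⁆ * g⁻¹ = ⁅h, a⁆ := by
    rw [Subgroup.mem_center_iff.mp hc g, mul_inv_cancel_right]
  rw [key, h1]
  exact (Subgroup.mem_center_iff.mp hc _).symm

theorem gc_commutatorElement_pow_left (g a : G) (hc : ⁅g, a⁆ ∈ Subgroup.center G) (n : ℕ) :
    ⁅g ^ n, a⁆ = ⁅g, a⁆ ^ n := by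
  induction n with
  | zero => simp
  | succ n ih => rw [pow_succ, gc_commutatorElement_mul_left _ _ _ hc, ih, pow_succ]

end Comm

section KL

variable {G : Type u} [Group G] [Fintype G]

/-- Key lemma: if `G' ≤ Z(χ)`, `ker χ ≤ Z(G)` and `ker χ` has exponent `p`, then
`|G : Z(G)| = e χ(1)²` with `e ∣ p`. -/
theorem gc_index_center (p : ℕ) (χ : IrrCharacter G)
    (h : commutator G ≤ Helper77.irrCenter χ) (hK : Helper77.irrKer χ ≤ Subgroup.center G)
    (hexp : ∀ x ∈ Helper77.irrKer χ, x ^ p = 1) :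
    ∃ e : ℕ, e ∣ p ∧ (Subgroup.center G).index = e * charDegree (χ : G → ℂ) ^ 2 := by
  refine ⟨(Subgroup.center G).relIndex (Helper77.irrCenter χ), ?_, ?_⟩
  · -- the quotient `Z(χ) / Z(G)` is cyclic of exponent dividing `p`
    set Z := Helper77.irrCenter χ with hZ
    have hle : (Helper77.irrKer χ).subgroupOf Z ≤ (Subgroup.center G).subgroupOf Z := by
      intro x hx
      rw [Subgroup.mem_subgroupOf] at hx ⊢
      exact hK hx
    have hcyc := Helper77.isCyclic_irrCenter_quotient χ
    let f : Z ⧸ (Helper77.irrKer χ).subgroupOf Z →* Z ⧸ (Subgroup.center G).subgroupOf Z :=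
      QuotientGroup.map _ _ (MonoidHom.id Z) hle
    have hsurj : Function.Surjective f := by
      intro q
      obtain ⟨z, rfl⟩ := QuotientGroup.mk_surjective q
      exact ⟨(z : Z ⧸ (Helper77.irrKer χ).subgroupOf Z), rfl⟩
    have hcyc' : IsCyclic (Z ⧸ (Subgroup.center G).subgroupOf Z) :=
      isCyclic_of_surjective f hsurj
    have hexp' : Monoid.exponent (Z ⧸ (Subgroup.center G).subgroupOf Z) ∣ p := by
      apply Monoid.exponent_dvd_of_forall_pow_eq_one
      intro q
      obtain ⟨z, rfl⟩ := QuotientGroup.mk_surjective q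
      rw [← QuotientGroup.mk_pow, QuotientGroup.eq_one_iff, Subgroup.mem_subgroupOf,
        Subgroup.mem_center_iff]
      intro g
      have hzg : ⁅(z : G), g⁆ ∈ Helper77.irrKer χ :=
        (Helper77.mem_irrCenter_iff_commutator χ (z : G)).mp z.2 g
      have h1 := gc_commutatorElement_pow_left (z : G) g (hK hzg) p
      rw [hexp _ hzg] at h1
      have h2 := commutatorElement_eq_one_iff_mul_comm.mp h1
      rw [Subgroup.coe_pow]
      exact h2.symm
    rw [IsCyclic.exponent_eq_card] at hexp'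
    rw [Subgroup.relIndex, Subgroup.index_eq_card]
    exact hexp'
  · rw [← Subgroup.relIndex_mul_index (Helper78.center_le_irrCenter χ), gc_index_irrCenter χ h]

theorem gc_parity {p e e' d d' : ℕ} (hp : p.Prime) (he : e ∣ p) (he' : e' ∣ p)
    (hd : 0 < d) (hd' : 0 < d') (h : e * d ^ 2 = e' * d' ^ 2) : d = d' := by
  have _ : Fact p.Prime := ⟨hp⟩
  have hsq : ∀ a b : ℕ, a ^ 2 = b ^ 2 → a = b := fun a b hab =>
    Nat.pow_left_injective (by norm_num : (2 : ℕ) ≠ 0) hab
  have hbad : ∀ a b : ℕ, 0 < a → 0 < b → a ^ 2 ≠ p * b ^ 2 := by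
    intro a b ha hb hab
    have h1 := congrArg (padicValNat p) hab
    rw [padicValNat.pow a 2, padicValNat.mul hp.ne_zero (pow_ne_zero 2 hb.ne'),
      padicValNat.pow b 2, padicValNat_self] at h1
    omega
  rcases (Nat.dvd_prime hp).mp he with rfl | rfl <;> rcases (Nat.dvd_prime hp).mp he' with rfl | rfl
  · rw [one_mul, one_mul] at h; exact hsq _ _ h
  · rw [one_mul] at h; exact absurd h (hbad d d' hd hd')
  · rw [one_mul] at h; exact absurd h.symm (hbad d' d hd' hd)
  · exact hsq _ _ (Nat.eq_of_mul_eq_mul_left hp.pos h)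

end KL

end Cfsg.Agent.Lib.Helper71
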