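import Mathlib
import Cfsg.Agent.Lib.Helper1.MinimalNormal
import Cfsg.Agent.Lib.Helper71.Fitting

set_option autoImplicit false

namespace Cfsg.Agent.Lib.Helper71

open Subgroup

universe u

/-- The image of a maximal subgroup containing `N` in `G ⧸ N` is maximal. -/
theorem isCoatom_map_mk' {G : Type*} [Group G] (N : Subgroup G) [N.Normal] (M : Subgroup G)
    (hM : IsCoatom M) (hNM : N ≤ M) : IsCoatom (M.map (QuotientGroup.mk' N)) := by
  have hker : (QuotientGroup.mk' N).ker ≤ M := by rw [QuotientGroup.ker_mk']; exact hNM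
  have hsurj := QuotientGroup.mk'_surjective N
  constructor
  · intro h
    apply hM.1
    have := congrArg (Subgroup.comap (QuotientGroup.mk' N)) h
    rwa [Subgroup.comap_map_eq_self hker, Subgroup.comap_top] at this
  · intro K hK
    have h1 : M ≤ K.comap (QuotientGroup.mk' N) := by
      rw [← Subgroup.comap_map_eq_self hker]
      exact Subgroup.comap_mono hK.le
    have h2 : M ≠ K.comap (QuotientGroup.mk' N) := by
      intro h
      apply hK.ne
      rw [h, Subgroup.map_comap_eq_self_of_surjective hsurj]
    have h3 := hM.2 _ (lt_of_le_of_ne h1 h2)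
    rw [← Subgroup.map_comap_eq_self_of_surjective hsurj K, h3,
      Subgroup.map_top_of_surjective _ hsurj]

/-- The index of a maximal subgroup of a finite solvable group is a prime power. -/
theorem index_eq_prime_pow_of_isCoatom {G : Type u} [Group G] [Finite G] [Group.IsSolvable G]
    (M : Subgroup G) (hM : IsCoatom M) : ∃ p k : ℕ, p.Prime ∧ M.index = p ^ k := by
  induction' h : Nat.card G using Nat.strong_induction_on with n ih generalizing G
  have hnt : Nontrivial G := by
    by_contra hcon
    rw [not_nontrivial_iff_subsingleton] at hcon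
    exact hM.1 (Subsingleton.elim _ _)
  obtain ⟨p, R, hp, hRn, hR1, hRp, -, -, -⟩ := Cfsg.Agent.Lib.Helper1.exists_normal_pSubgroup_of_isSolvable (G := G)
  have : Fact p.Prime := ⟨hp⟩
  by_cases hRM : R ≤ M
  · -- pass to the quotient
    have hco := isCoatom_map_mk' R M hM hRM
    have hcard : Nat.card (G ⧸ R) < n := by
      rw [← h, ← Subgroup.index_eq_card]
      have h1 := Subgroup.card_mul_index R
      have h2 : 1 < Nat.card R := (Subgroup.one_lt_card_iff_ne_bot R).mpr hR1
      have h3 : 0 < R.index := Nat.pos_of_ne_zero Subgroup.index_ne_zero_of_finite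
      nlinarith
    obtain ⟨q, k, hq, hk⟩ := ih _ hcard (M.map (QuotientGroup.mk' R)) hco rfl
    refine ⟨q, k, hq, ?_⟩
    rw [← hk, Subgroup.index_map_eq _ (QuotientGroup.mk'_surjective R)
      (by rw [QuotientGroup.ker_mk']; exact hRM)]
  · have hsup : M ⊔ R = ⊤ := by
      apply hM.2
      refine lt_of_le_of_ne le_sup_left ?_
      intro heq
      apply hRM
      rw [heq]
      exact le_sup_right
    have hidx : M.index = M.relIndex R := by
      rw [← relIndex_sup_eq_of_normal M R, hsup, Subgroup.relIndex_top_right]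
    obtain ⟨a, ha⟩ := IsPGroup.iff_card.mp hRp
    have hdvd : M.relIndex R ∣ p ^ a := by
      rw [← ha]; exact Subgroup.relIndex_dvd_card M R
    obtain ⟨k, -, hk⟩ := (Nat.dvd_prime_pow hp).mp hdvd
    exact ⟨p, k, hp, by rw [hidx, hk]⟩

end Cfsg.Agent.Lib.Helper71
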