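import Mathlib

set_option autoImplicit false

/-!
# Direct (in)decomposability of the Sylow 2-subgroups of alternating groups: definitions (S2221)

Everything lives inside one ambient `Equiv.Perm α`; "a Sylow 2-subgroup of the symmetric group on a
subset `Y`" is modelled by a subgroup of `Perm α` all of whose elements fix every point outside `Y`.
-/

namespace Cfsg.Agent.Lib.Helper71.SylAlt

open Equiv

section perm

variable {α : Type*} [DecidableEq α]

/-- every element of `W` fixes every point outside `Y` -/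
def SuppOn (W : Subgroup (Perm α)) (Y : Finset α) : Prop :=
  ∀ g ∈ W, ∀ x, x ∉ Y → g x = x

/-- `σ` is an involution moving `Y` off itself and fixing everything outside `Y ∪ σ Y` -/
def IsSwapOf (σ : Perm α) (Y : Finset α) : Prop :=
  σ * σ = 1 ∧ (∀ x ∈ Y, σ x ∉ Y) ∧ (∀ x, x ∉ Y → σ x ∉ Y → σ x = x)

/-- the wreath step: `⟨W, σ W σ⁻¹, σ⟩` -/
def wr (W : Subgroup (Perm α)) (σ : Perm α) : Subgroup (Perm α) :=
  W ⊔ W.map (MulAut.conj σ).toMonoidHom ⊔ Subgroup.zpowers σ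

/-- `Nice a W Y`: `Y` has `2 ^ a` points and `W` is an iterated wreath product `C₂ ≀ ⋯ ≀ C₂`
(`a` factors) acting on `Y` and fixing every point outside `Y`. -/
def Nice : ℕ → Subgroup (Perm α) → Finset α → Prop
  | 0, W, Y => W = ⊥ ∧ ∃ y, Y = {y}
  | (a + 1), W, Y => ∃ (W₁ : Subgroup (Perm α)) (Y₁ : Finset α) (σ : Perm α),
      Nice a W₁ Y₁ ∧ IsSwapOf σ Y₁ ∧ W = wr W₁ σ ∧ Y = Y₁ ∪ Y₁.image σ

theorem nice_zero_iff {W : Subgroup (Perm α)} {Y : Finset α} :
    Nice 0 W Y ↔ W = ⊥ ∧ ∃ y, Y = {y} := Iff.rfl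

theorem nice_succ_iff {a : ℕ} {W : Subgroup (Perm α)} {Y : Finset α} :
    Nice (a + 1) W Y ↔ ∃ (W₁ : Subgroup (Perm α)) (Y₁ : Finset α) (σ : Perm α),
      Nice a W₁ Y₁ ∧ IsSwapOf σ Y₁ ∧ W = wr W₁ σ ∧ Y = Y₁ ∪ Y₁.image σ := Iff.rfl

end perm

section abstract

/-- `K` is the internal direct product of two nontrivial subgroups -/
def DecompGroup (K : Type*) [Group K] : Prop :=
  ∃ A B : Subgroup K, A ≠ ⊥ ∧ B ≠ ⊥ ∧ (∀ a ∈ A, ∀ b ∈ B, a * b = b * a) ∧ A ⊓ B = ⊥ ∧ A ⊔ B = ⊤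

/-- the product of the "signs" of the components -/
def piSign {ι : Type*} [Fintype ι] (H : ι → Type*) [∀ i, Group (H i)] (ε : ∀ i, H i →* ℤˣ) :
    (∀ i, H i) →* ℤˣ where
  toFun x := ∏ i, ε i (x i)
  map_one' := by simp
  map_mul' x y := by simp [Finset.prod_mul_distrib]

theorem piSign_apply {ι : Type*} [Fintype ι] (H : ι → Type*) [∀ i, Group (H i)] (ε : ∀ i, H i →* ℤˣ)
    (x : ∀ i, H i) : piSign H ε x = ∏ i, ε i (x i) := rfl

/-- hypotheses on an abstract component `(H, ε)`: a `2`-group of order at least `8` with an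
"odd" element whose centre has order `2` and consists of "even" elements -/
structure GoodComp (H : Type*) [Group H] (ε : H →* ℤˣ) : Prop where
  pgroup : IsPGroup 2 H
  odd : ∃ t : H, ε t = -1
  center : ∃ z : H, z ≠ 1 ∧ ε z = 1 ∧ (∀ g : H, g * z = z * g) ∧
    ∀ c : H, (∀ g : H, g * c = c * g) → c = 1 ∨ c = z
  big : 8 ≤ Nat.card H

end abstract

end Cfsg.Agent.Lib.Helper71.SylAlt
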