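import Mathlib
import Cfsg.Agent.Lib.Helper58.IP26.Defs
import Cfsg.Agent.Lib.Helper36.IP26F2Final
import Cfsg.Agent.Lib.Helper78.CharMore
import Cfsg.Agent.Lib.Helper78.CharOrtho

/-!
# Project IP26 (helper58, S4463), module [COUNT] (helper71, hedge of helper58's row)

In a counterexample `|G| ≤ b⁴ |C_G(G')|`.

Counting: `k` = number of classes = number of irreducible characters, `|G| = Σ χ(1)² ≤ k b²`, `Σ_x |C_G(x)| = k |G|`,
and by [F2] `(b² + 1) |C_G(x)| ≤ |G|` for `x ∉ C := C_G(G')`.
-/

set_option autoImplicit false

namespace Cfsg.Agent.Lib.Helper71.IP26Count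

open Cfsg Cfsg.Agent.Lib.Helper58.IP26
open scoped commutatorElement

universe u

variable {G : Type u} [Group G] [Finite G] {b : ℕ}

/-- `Σ_x |C_G(x)| = k(G) |G|`. -/
theorem sum_card_centralizer [Fintype G] :
    ∑ x : G, Nat.card (Subgroup.centralizer ({x} : Set G)) = Nat.card (ConjClasses G) * Nat.card G := by
  classical
  rw [← card_comm_eq_card_conjClasses_mul_card G,
    Nat.card_congr (Equiv.subtypeProdEquivSigmaSubtype (fun a b : G => Commute a b)), Nat.card_sigma]
  apply Finset.sum_congr rfl
  intro x _
  apply Nat.card_congr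
  refine Equiv.subtypeEquivRight (fun y => ?_)
  rw [Subgroup.mem_centralizer_singleton_iff]
  exact ⟨fun h => h.symm, fun h => h.symm⟩

/-- `|G| ≤ k(G) b²`. -/
theorem card_le_classes_mul (hb : IsMaxDeg G b) : Nat.card G ≤ Nat.card (ConjClasses G) * b ^ 2 := by
  classical
  haveI : Fintype G := Fintype.ofFinite G
  rw [← Helper78.sum_irr_charDegree_sq (G := G), ← Helper78.card_irrCharacter, Nat.card_eq_fintype_card,
    ← Finset.card_univ, ← smul_eq_mul, ← Finset.sum_const]
  apply Finset.sum_le_sum
  intro χ _
  exact Nat.pow_le_pow_left (hb.le χ) 2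

/-- **IP26-[COUNT]** (exact skeleton statement). -/
theorem CE.card_le (hb : IsMaxDeg G b) (hCE : CE G b) :
    Nat.card G ≤ b ^ 4 * Nat.card (Subgroup.centralizer (commutator G : Set G)) := by
  classical
  haveI : Fintype G := Fintype.ofFinite G
  set C := Subgroup.centralizer (commutator G : Set G) with hC
  set n := Nat.card G with hn
  set k := Nat.card (ConjClasses G) with hk
  set B := b ^ 2 with hB
  have hnpos : 0 < n := Nat.card_pos
  -- pointwise bound
  have hpt : ∀ x : G, (B + 1) * Nat.card (Subgroup.centralizer ({x} : Set G)) ≤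
      n + (if x ∈ C then B * n else 0) := by
    intro x
    have hci : Nat.card (Subgroup.centralizer ({x} : Set G)) * (Subgroup.centralizer ({x} : Set G)).index = n :=
      Subgroup.card_mul_index _
    by_cases hx : x ∈ C
    · rw [if_pos hx]
      have hle : Nat.card (Subgroup.centralizer ({x} : Set G)) ≤ n := Subgroup.card_le_card_group _
      calc (B + 1) * Nat.card (Subgroup.centralizer ({x} : Set G)) ≤ (B + 1) * n := Nat.mul_le_mul_left _ hle
        _ = n + B * n := by ring
    · rw [if_neg hx, add_zero]
      have hidx : B + 1 ≤ (Subgroup.centralizer ({x} : Set G)).index := by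
        by_contra hcon
        push Not at hcon
        exact hx (Cfsg.Agent.Lib.Helper58.IP26.CE.mem_centralizer_commutator hb hCE x (Nat.lt_succ_iff.mp hcon))
      calc (B + 1) * Nat.card (Subgroup.centralizer ({x} : Set G))
          ≤ (Subgroup.centralizer ({x} : Set G)).index * Nat.card (Subgroup.centralizer ({x} : Set G)) :=
            Nat.mul_le_mul_right _ hidx
        _ = n := by rw [mul_comm]; exact hci
  -- sum it
  have hsum : (B + 1) * (k * n) ≤ n * n + Nat.card C * (B * n) := by
    rw [← sum_card_centralizer, Finset.mul_sum]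
    calc ∑ x : G, (B + 1) * Nat.card (Subgroup.centralizer ({x} : Set G))
        ≤ ∑ x : G, (n + (if x ∈ C then B * n else 0)) := Finset.sum_le_sum (fun x _ => hpt x)
      _ = n * n + Nat.card C * (B * n) := by
        rw [Finset.sum_add_distrib, Finset.sum_const, Finset.card_univ, smul_eq_mul, ← Nat.card_eq_fintype_card,
          Finset.sum_ite, Finset.sum_const, Finset.sum_const_zero, add_zero, smul_eq_mul]
        congr 2
        rw [Nat.card_eq_fintype_card, Fintype.card_subtype]
  -- divide by `n`
  have h1 : (B + 1) * k ≤ n + Nat.card C * B := by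
    have : ((B + 1) * k) * n ≤ (n + Nat.card C * B) * n := by
      calc ((B + 1) * k) * n = (B + 1) * (k * n) := by ring
        _ ≤ n * n + Nat.card C * (B * n) := hsum
        _ = (n + Nat.card C * B) * n := by ring
    exact Nat.le_of_mul_le_mul_right this hnpos
  have h2 : n ≤ k * B := card_le_classes_mul hb
  -- `n (B+1) ≤ k B (B+1) ≤ B (n + c B)`
  have h3 : n * (B + 1) ≤ B * (n + Nat.card C * B) := by
    calc n * (B + 1) ≤ (k * B) * (B + 1) := Nat.mul_le_mul_right _ h2
      _ = B * ((B + 1) * k) := by ring
      _ ≤ B * (n + Nat.card C * B) := Nat.mul_le_mul_left _ h1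
  have h4 : n ≤ B * B * Nat.card C := by
    have : n * B + n ≤ n * B + B * B * Nat.card C := by
      calc n * B + n = n * (B + 1) := by ring
        _ ≤ B * (n + Nat.card C * B) := h3
        _ = n * B + B * B * Nat.card C := by ring
    exact Nat.le_of_add_le_add_left this
  calc n ≤ B * B * Nat.card C := h4
    _ = b ^ 4 * Nat.card C := by rw [hB]; ring

end Cfsg.Agent.Lib.Helper71.IP26Count
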