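import Mathlib
import Cfsg.Agent.Lib.Helper75.Clifford
import Cfsg.Agent.Lib.Helper78.CharMore
import Cfsg.Agent.Lib.Helper78.CharValues

/-!
# Project IP26 (helper58, S4463), module [FROB] step (3): the DIVISIBILITY LEMMA (helper71)

`K ⊲ H`, `ψ ∈ Irr(H)` vanishing on `H ∖ K`  ⇒  `|H : K|` divides `ψ(1)²`.

Proof: Clifford `ψ_K = e Σ_{φ ∈ O} φ` (`O` the orbit of a constituent `θ`, `t = |O|`), `ψ(1) = e t θ(1)`,
`[ψ_K, ψ_K] = e² t`; on the other hand `[ψ_K, ψ_K] = |H : K| [ψ, ψ] = |H : K|` because `ψ` vanishes off `K`.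
So `ψ(1)² = (e² t) (t θ(1)²)`.
-/

set_option autoImplicit false

namespace Cfsg.Agent.Lib.Helper71.IP26Frob

open Cfsg
open scoped ComplexConjugate

universe u

variable {H : Type u} [Group H] [Fintype H]

/-- if `ψ` vanishes off `K` then `[ψ_K, ψ_K]_K = |H : K| [ψ, ψ]_H`. -/
theorem classInner_res_self_of_vanish_off (K : Subgroup H) [Fintype K] (ψ : H → ℂ)
    (hvan : ∀ h : H, h ∉ K → ψ h = 0) :
    classInner (fun k : K => ψ k) (fun k : K => ψ k) = (K.index : ℂ) * classInner ψ ψ := by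
  classical
  have hsum : ∑ g : H, ψ g * conj (ψ g) = ∑ k : K, ψ k * conj (ψ k) := by
    rw [← Helper75.sum_extendByZero_mul K (fun k : K => ψ k) (fun g => conj (ψ g))]
    apply Finset.sum_congr rfl
    intro g _
    by_cases hg : g ∈ K
    · rw [Helper75.extendByZero_of_mem K _ hg]
    · rw [Helper75.extendByZero_of_not_mem K _ hg, hvan g hg, zero_mul]
  unfold classInner
  rw [hsum, ← mul_assoc]
  congr 1
  have hcard : (Nat.card H : ℂ) = (Nat.card K : ℂ) * (K.index : ℂ) := by
    rw [← Nat.cast_mul, K.card_mul_index]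
  have hK0 : (Nat.card K : ℂ) ≠ 0 := by
    have : Nat.card K ≠ 0 := Nat.card_pos.ne'
    exact_mod_cast this
  have hI0 : (K.index : ℂ) ≠ 0 := by
    have : K.index ≠ 0 := Subgroup.index_ne_zero_of_finite
    exact_mod_cast this
  rw [hcard]
  field_simp

/-- **DIVISIBILITY LEMMA**: `K ⊲ H`, `ψ ∈ Irr(H)` vanishing off `K` ⇒ `|H : K| ∣ ψ(1)²`. -/
theorem index_dvd_sq_of_vanish_off (K : Subgroup H) [hK : K.Normal] [Fintype K] {ψ : H → ℂ}
    (hψ : IsIrrCharacter H ψ) (hvan : ∀ h : H, h ∉ K → ψ h = 0) :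
    K.index ∣ charDegree ψ ^ 2 := by
  classical
  have hψc : IsCharacter H ψ := Helper78.IsIrrCharacter.isCharacter hψ
  have hcl : IsClassFunction H ψ := Helper78.IsCharacter.isClassFunction hψc
  have hres : IsCharacter K (fun k : K => ψ k) := Helper75.isCharacter_res K hψc
  -- an irreducible constituent of the restriction
  obtain ⟨θ, hθ⟩ : ∃ θ : IrrCharacter K, classInner (fun k : K => ψ k) (θ : K → ℂ) ≠ 0 := by
    by_contra hcon
    push Not at hcon
    have h0 : (fun k : K => ψ k) = 0 := by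
      rw [Helper78.IsCharacter.eq_sum_irr hres]
      apply Finset.sum_eq_zero
      intro φ _
      rw [hcon φ, zero_smul]
    have h1 := congrFun h0 1
    exact Helper78.IsIrrCharacter.apply_one_ne_zero hψ h1
  obtain ⟨e, he⟩ := Helper78.IsCharacter.exists_nat_classInner hres θ
  have hcl' := Helper75.clifford_finset K hψ θ.2 hθ
  set O := Helper75.conjOrbit K (θ : K → ℂ) with hO
  -- inner products with the members of the orbit
  have hinO : ∀ φ ∈ O, classInner (fun k : K => ψ k) (φ : K → ℂ) = (e : ℂ) := by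
    intro φ hφ
    obtain ⟨g, hg⟩ := (Helper75.mem_conjOrbit K).mp hφ
    rw [← hg, Helper75.classInner_res_conjFun K hcl g, he]
  -- `[ψ_K, ψ_K] = e² t`
  have hinner : classInner (fun k : K => ψ k) (fun k : K => ψ k) = (e : ℂ) * ((O.card : ℂ) * (e : ℂ)) := by
    conv_lhs => arg 1; rw [hcl']
    rw [Helper78.classInner_smul_left, he, Helper78.classInner_sum_left]
    congr 1
    have : ∀ φ ∈ O, classInner (φ : K → ℂ) (fun k : K => ψ k) = (e : ℂ) := by
      intro φ hφ
      rw [← Helper78.classInner_conj_symm, hinO φ hφ, Complex.conj_natCast]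
    rw [Finset.sum_congr rfl this, Finset.sum_const, nsmul_eq_mul]
  -- `|H : K| = e² t`
  have hidx : K.index = e * (O.card * e) := by
    have h1 := classInner_res_self_of_vanish_off K ψ hvan
    rw [Helper78.classInner_irr_self hψ, mul_one, hinner] at h1
    exact_mod_cast h1.symm
  -- `ψ(1) = e t θ(1)`
  have hdeg : charDegree ψ = e * (O.card * charDegree (θ : K → ℂ)) := by
    have h1 := congrFun hcl' 1
    simp only [Pi.smul_apply, Finset.sum_apply, smul_eq_mul] at h1
    have h2 : ∀ φ ∈ O, (φ : K → ℂ) 1 = (θ : K → ℂ) 1 := by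
      intro φ hφ
      obtain ⟨g, hg⟩ := (Helper75.mem_conjOrbit K).mp hφ
      rw [← hg, Helper75.conjFun_apply]
      apply congrArg
      apply Subtype.ext
      simp
    rw [Finset.sum_congr rfl h2, Finset.sum_const, nsmul_eq_mul, he,
      Helper78.IsCharacter.apply_one_eq_charDegree (Helper78.IsIrrCharacter.isCharacter θ.2)] at h1
    have h3 : ψ 1 = (charDegree ψ : ℂ) := Helper78.IsCharacter.apply_one_eq_charDegree hψc
    change ψ 1 = _ at h1
    rw [h3] at h1
    exact_mod_cast h1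
  rw [hidx, hdeg]
  exact ⟨O.card * charDegree (θ : K → ℂ) ^ 2, by ring⟩

end Cfsg.Agent.Lib.Helper71.IP26Frob
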