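import Mathlib

/-!
# Project IP26 (helper58, S4463), module [FROB] step (4): the group theory (helper71)

`K ≤ N` normal in the finite group `G`, `|N : K| = q ^ a > 1`, every `g ∉ N` acts fixed-point-freely on `N / K`.
Then `|G : N|` is prime to `q`, and there is a complement `Y ≥ K` (`N ⊓ Y = K`, `N ⊔ Y = ⊤`, `|G : Y| = q ^ a`,
`|Y : K| = |G : N|`) such that every `y ∈ Y ∖ K` has a conjugate outside `Y`.
-/

set_option autoImplicit false

namespace Cfsg.Agent.Lib.Helper71.IP26Frob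

open scoped commutatorElement

/-- a nontrivial normal subgroup of a finite `p`-group contains a nontrivial central element
(copy of `Cfsg.Agent.S0184.normal_inf_center_ne_bot`, to keep the import closure small). -/
theorem normal_inf_center_ne_bot' {P : Type*} [Group P] [Finite P] {p : ℕ} [Fact p.Prime]
    (hP : IsPGroup p P) (N : Subgroup P) [N.Normal] (hN : N ≠ ⊥) :
    ∃ w ∈ N, w ≠ 1 ∧ ∀ g : P, g * w = w * g := by
  have hfix := (hP.of_equiv ConjAct.toConjAct).exists_fixed_point_of_prime_dvd_card_of_fixed_point N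
  have hNp : IsPGroup p N := hP.to_subgroup N
  have hnt : Nontrivial N := (Subgroup.nontrivial_iff_ne_bot N).mpr hN
  have dvd : p ∣ Nat.card N := by
    obtain ⟨n, hn0, hn⟩ := hNp.nontrivial_iff_card.mp hnt
    exact hn.symm ▸ dvd_pow_self _ (ne_of_gt hn0)
  have h1 : (1 : N) ∈ MulAction.fixedPoints (ConjAct P) N := by
    intro g
    exact smul_one g
  obtain ⟨b, hb, hb1⟩ := hfix dvd h1
  refine ⟨b, b.2, fun h => hb1 (Subtype.ext h.symm), fun g => ?_⟩
  have := hb (ConjAct.toConjAct g)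
  have h2 : g * (b : P) * g⁻¹ = b := congrArg Subtype.val this
  calc g * b = (g * b * g⁻¹) * g := by group
    _ = b * g := by rw [h2]

section abs

variable {Q : Type*} [Group Q] [Finite Q]

/-- abstract form, coprimality: a normal `q`-subgroup `M ≠ 1` on which every element outside `M` acts
fixed-point-freely has index prime to `q`. -/
theorem coprime_of_fpf_abs (M : Subgroup Q) [M.Normal] (q a : ℕ) [hq : Fact q.Prime]
    (hM : Nat.card M = q ^ a) (hM1 : M ≠ ⊥)
    (hfpf : ∀ g : Q, g ∉ M → ∀ n ∈ M, g * n = n * g → n = 1) :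
    Nat.Coprime (Nat.card M) M.index := by
  rw [hM]
  apply Nat.Coprime.pow_left
  rw [hq.1.coprime_iff_not_dvd]
  intro hdvd
  have hMp : IsPGroup q M := IsPGroup.of_card hM
  obtain ⟨S, hMS⟩ := hMp.exists_le_sylow
  have hne : (S : Subgroup Q) ≠ M := by
    intro h
    apply S.not_dvd_index
    rw [h]
    exact hdvd
  have : ∃ g ∈ (S : Subgroup Q), g ∉ M := by
    by_contra hcon
    push Not at hcon
    exact hne (le_antisymm hcon hMS)
  obtain ⟨g, hgS, hgM⟩ := this
  -- inside the `q`-group `S`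
  have hSp : IsPGroup q (S : Subgroup Q) := S.isPGroup'
  have hMSne : M.subgroupOf (S : Subgroup Q) ≠ ⊥ := by
    intro h
    apply hM1
    rw [Subgroup.subgroupOf_eq_bot] at h
    rw [eq_bot_iff]
    intro x hx
    have : x ∈ M ⊓ (S : Subgroup Q) := ⟨hx, hMS hx⟩
    rw [disjoint_iff.mp h] at this
    exact this
  obtain ⟨w, hwM, hw1, hwc⟩ := normal_inf_center_ne_bot' hSp (M.subgroupOf (S : Subgroup Q)) hMSne
  have hcomm : g * (w : Q) = (w : Q) * g := by
    have := hwc ⟨g, hgS⟩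
    exact congrArg Subtype.val this
  have hw : (w : Q) = 1 := hfpf g hgM (w : Q) (Subgroup.mem_subgroupOf.mp hwM) hcomm
  exact hw1 (Subtype.ext hw)

/-- abstract form, complement: elements `≠ 1` of a complement have a conjugate outside it. -/
theorem exists_conj_not_mem_abs (M Y : Subgroup Q) [M.Normal] (hM1 : M ≠ ⊥) (hc : Subgroup.IsComplement' M Y)
    (hfpf : ∀ g : Q, g ∉ M → ∀ n ∈ M, g * n = n * g → n = 1) (y : Q) (hy : y ∈ Y) (hy1 : y ≠ 1) :
    ∃ x : Q, x * y * x⁻¹ ∉ Y := by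
  by_contra hcon
  push Not at hcon
  have hdisj : M ⊓ Y = ⊥ := disjoint_iff.mp hc.disjoint
  have hyM : y ∉ M := by
    intro h
    have : y ∈ M ⊓ Y := ⟨h, hy⟩
    rw [hdisj] at this
    exact hy1 this
  apply hM1
  rw [eq_bot_iff]
  intro n hn
  have h1 : y * n * y⁻¹ * n⁻¹ ∈ M := M.mul_mem (Subgroup.Normal.conj_mem inferInstance n hn y) (M.inv_mem hn)
  have h2 : y * n * y⁻¹ * n⁻¹ ∈ Y := by
    have h3 : n * y * n⁻¹ ∈ Y := hcon n
    have h4 : y * (n * y * n⁻¹)⁻¹ ∈ Y := Y.mul_mem hy (Y.inv_mem h3)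
    have h5 : y * (n * y * n⁻¹)⁻¹ = y * n * y⁻¹ * n⁻¹ := by group
    rwa [h5] at h4
  have h6 : y * n * y⁻¹ * n⁻¹ ∈ M ⊓ Y := ⟨h1, h2⟩
  rw [hdisj] at h6
  have h7 : y * n = n * y := by
    have h8 : y * n * y⁻¹ * n⁻¹ = 1 := h6
    calc y * n = (y * n * y⁻¹ * n⁻¹) * (n * y) := by group
      _ = n * y := by rw [h8, one_mul]
  exact hfpf y hyM n hn h7

end abs

universe u

variable {G : Type u} [Group G] [Finite G]

/-- **IP26-[FROB] step (4)**. -/
theorem exists_complement_of_fpf (K N : Subgroup G) [hKn : K.Normal] [hNn : N.Normal] (hKN : K ≤ N) (hNK : ¬ N ≤ K)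
    (q : ℕ) (hq : q.Prime) (a : ℕ) (hidx : K.relIndex N = q ^ a)
    (hfpf : ∀ g : G, g ∉ N → ∀ n ∈ N, ⁅g, n⁆ ∈ K → n ∈ K) :
    Nat.Coprime N.index q ∧ ∃ Y : Subgroup G, K ≤ Y ∧ N ⊓ Y = K ∧ N ⊔ Y = ⊤ ∧ Y.index = q ^ a ∧
      K.relIndex Y = N.index ∧ ∀ y ∈ Y, y ∉ K → ∃ x : G, x * y * x⁻¹ ∉ Y := by
  haveI : Fact q.Prime := ⟨hq⟩
  set π : G →* G ⧸ K := QuotientGroup.mk' K with hπ
  have hπs : Function.Surjective π := QuotientGroup.mk'_surjective K
  have hker : π.ker = K := QuotientGroup.ker_mk' K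
  set M : Subgroup (G ⧸ K) := N.map π with hMdef
  haveI hMn : M.Normal := Subgroup.Normal.map hNn π hπs
  have hcomapM : M.comap π = N := by
    rw [hMdef, Subgroup.comap_map_eq, hker, sup_eq_left.mpr hKN]
  have hMidx : M.index = N.index := by
    rw [← hcomapM, Subgroup.index_comap_of_surjective M hπs]
  have hNidx0 : N.index ≠ 0 := Subgroup.index_ne_zero_of_finite
  have hMcard : Nat.card M = q ^ a := by
    have h1 : Nat.card M * M.index = Nat.card (G ⧸ K) := M.card_mul_index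
    have h2 : Nat.card (G ⧸ K) = K.index := (Subgroup.index_eq_card K).symm
    have h3 : K.relIndex N * N.index = K.index := Subgroup.relIndex_mul_index hKN
    rw [hMidx, h2, ← h3, hidx] at h1
    exact Nat.eq_of_mul_eq_mul_right (Nat.pos_of_ne_zero hNidx0) h1
  have hM1 : M ≠ ⊥ := by
    intro h
    apply hNK
    intro n hn
    have : π n ∈ M := ⟨n, hn, rfl⟩
    rw [h, Subgroup.mem_bot] at this
    rw [← hker]
    exact this
  have hfpf' : ∀ g : G ⧸ K, g ∉ M → ∀ n ∈ M, g * n = n * g → n = 1 := by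
    intro g hg n hn hcomm
    obtain ⟨g0, rfl⟩ := hπs g
    obtain ⟨n0, hn0, rfl⟩ := hn
    have hg0 : g0 ∉ N := fun h => hg ⟨g0, h, rfl⟩
    have h1 : π ⁅g0, n0⁆ = 1 := by
      rw [commutatorElement_def, map_mul, map_mul, map_mul, map_inv, map_inv, hcomm]
      group
    have h2 : ⁅g0, n0⁆ ∈ K := by rw [← hker]; exact h1
    have h3 : n0 ∈ K := hfpf g0 hg0 n0 hn0 h2
    rw [← hker] at h3
    exact h3
  have hcop := coprime_of_fpf_abs M q a hMcard hM1 hfpf'
  have ha0 : a ≠ 0 := by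
    intro h
    rw [h, pow_zero] at hMcard
    exact hM1 (Subgroup.card_eq_one.mp hMcard)
  refine ⟨?_, ?_⟩
  · rw [hMcard, hMidx] at hcop
    exact (Nat.Coprime.coprime_dvd_left (dvd_pow_self q ha0) hcop).symm
  obtain ⟨Y0, hY0⟩ := Subgroup.exists_right_complement'_of_coprime hcop
  have hdisj : M ⊓ Y0 = ⊥ := disjoint_iff.mp hY0.disjoint
  have hYidx : (Y0.comap π).index = q ^ a := by
    rw [Subgroup.index_comap_of_surjective Y0 hπs, hY0.index_eq_card, hMcard]
  have hKY : K ≤ Y0.comap π := by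
    have h := Subgroup.ker_le_comap π Y0
    rwa [hker] at h
  refine ⟨Y0.comap π, hKY, ?_, ?_, hYidx, ?_, ?_⟩
  · apply le_antisymm
    · intro x hx
      have : π x ∈ M ⊓ Y0 := ⟨⟨x, hx.1, rfl⟩, hx.2⟩
      rw [hdisj, Subgroup.mem_bot] at this
      rw [← hker]
      exact this
    · exact le_inf hKN hKY
  · have h1 : M.comap π ⊔ Y0.comap π = (M ⊔ Y0).comap π := Subgroup.comap_sup_eq π M Y0 hπs
    rw [hcomapM, hY0.sup_eq_top, Subgroup.comap_top] at h1
    exact h1
  · have h1 : K.relIndex (Y0.comap π) * (Y0.comap π).index = K.index := Subgroup.relIndex_mul_index hKY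
    have h3 : K.relIndex N * N.index = K.index := Subgroup.relIndex_mul_index hKN
    rw [hYidx, ← h3, hidx, mul_comm] at h1
    exact Nat.eq_of_mul_eq_mul_left (pow_pos hq.pos a) h1
  · intro y hy hyK
    have hy1 : π y ≠ 1 := by
      intro h
      apply hyK
      rw [← hker]
      exact h
    obtain ⟨x, hx⟩ := exists_conj_not_mem_abs M Y0 hM1 hY0 hfpf' (π y) hy hy1
    obtain ⟨x0, rfl⟩ := hπs x
    refine ⟨x0, fun h => hx ?_⟩
    have : π (x0 * y * x0⁻¹) ∈ Y0 := h
    rwa [map_mul, map_mul, map_inv] at this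

end Cfsg.Agent.Lib.Helper71.IP26Frob
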