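import Mathlib
import Cfsg.Agent.Lib.Helper71.Pronormal
import Cfsg.Agent.Lib.Helper1.Fitting
import Cfsg.Agent.S0143
import Cfsg.Agent.S0065

/-!
Wielandt 1951/58: a finite group `G = A B` with `A`, `B` nilpotent of coprime orders is solvable.
Basic layer: Sylow subgroups of a nilpotent subgroup, the minimal-counterexample structure.
-/

set_option autoImplicit false

namespace Cfsg.Agent.Lib.Helper71

open Pointwise

variable {G : Type*} [Group G]

/-- The (join of the) Sylow `p`-subgroups of the subgroup `A`, as a subgroup of `G`. -/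
def syl (A : Subgroup G) (p : ℕ) : Subgroup G :=
  ⨆ P : Sylow p A, (P : Subgroup A).map A.subtype

theorem syl_le (A : Subgroup G) (p : ℕ) : syl A p ≤ A :=
  iSup_le fun _ => Subgroup.map_subtype_le _

section nil

variable [Finite G] (A : Subgroup G) [hA : Group.IsNilpotent A] (p : ℕ) [hp : Fact p.Prime]

theorem syl_eq (P : Sylow p A) : syl A p = (P : Subgroup A).map A.subtype := by
  have hn : (P : Subgroup A).Normal := inferInstance
  have _ := Sylow.unique_of_normal P hn
  unfold syl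
  apply le_antisymm
  · apply iSup_le
    intro Q
    rw [Subsingleton.elim Q P]
  · exact le_iSup (fun Q : Sylow p A => (Q : Subgroup A).map A.subtype) P

theorem syl_isPGroup : IsPGroup p (syl A p) := by
  let P : Sylow p A := Classical.arbitrary _
  rw [syl_eq A p P]
  exact P.isPGroup'.map _

theorem le_syl {H : Subgroup G} (hH : H ≤ A) (hHp : IsPGroup p H) : H ≤ syl A p := by
  have h1 : IsPGroup p (H.subgroupOf A) :=
    hHp.comap_of_injective A.subtype A.subtype_injective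
  obtain ⟨Q, hQ⟩ := h1.exists_le_sylow
  rw [syl_eq A p Q]
  intro x hx
  exact ⟨⟨x, hH hx⟩, hQ (Subgroup.mem_subgroupOf.mpr hx), rfl⟩

theorem card_syl : Nat.card (syl A p) = p ^ (Nat.card A).factorization p := by
  let P : Sylow p A := Classical.arbitrary _
  rw [syl_eq A p P, Subgroup.card_map_of_injective A.subtype_injective]
  exact P.card_eq_multiplicity

theorem syl_ne_bot (h : p ∣ Nat.card A) : syl A p ≠ ⊥ := by
  intro hb
  have h1 := card_syl A p
  rw [hb, Subgroup.card_bot] at h1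
  have h2 : 0 < (Nat.card A).factorization p :=
    (hp.out.factorization_pos_of_dvd Nat.card_pos.ne' h)
  have h3 : 1 < p ^ (Nat.card A).factorization p :=
    Nat.one_lt_pow h2.ne' hp.out.one_lt
  omega

theorem mem_syl_of_orderOf {x : G} (hx : x ∈ A) {k : ℕ} (hk : x ^ (p ^ k) = 1) : x ∈ syl A p := by
  have h1 : Subgroup.zpowers x ≤ A := by
    rw [Subgroup.zpowers_le]; exact hx
  have h2 : IsPGroup p (Subgroup.zpowers x) := by
    rw [IsPGroup.iff_orderOf]
    rintro ⟨y, hy⟩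
    obtain ⟨n, rfl⟩ := Subgroup.mem_zpowers_iff.mp hy
    have h3 : orderOf (⟨x ^ n, hy⟩ : Subgroup.zpowers x) ∣ p ^ k := by
      apply orderOf_dvd_of_pow_eq_one
      apply Subtype.ext
      simp only [Subgroup.coe_pow, Subgroup.coe_one]
      rw [← zpow_natCast, ← zpow_mul, mul_comm, zpow_mul, zpow_natCast, hk, one_zpow]
    obtain ⟨j, -, hj⟩ := (Nat.dvd_prime_pow hp.out).1 h3
    exact ⟨j, hj⟩
  exact le_syl A p h1 h2 (Subgroup.mem_zpowers x)

/-- The normalizer of `A` normalizes `syl A p`. -/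
theorem cj_syl_of_mem_normalizer {g : G} (hg : cj g A = A) : cj g (syl A p) = syl A p := by
  have h1 : cj g (syl A p) ≤ syl A p := by
    apply le_syl A p
    · have h2 := cj_mono g (syl_le A p)
      rwa [hg] at h2
    · exact (syl_isPGroup A p).map _
  exact Subgroup.eq_of_le_of_card_ge h1 (by rw [card_cj])

theorem le_normalizer_syl : A ≤ Subgroup.normalizer ((syl A p : Subgroup G) : Set G) := by
  intro a ha
  rw [← cj_eq_self_iff]
  exact cj_syl_of_mem_normalizer A p (cj_of_mem ha)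

theorem syl_commute {q : ℕ} [hq : Fact q.Prime] (hpq : p ≠ q) {x y : G} (hx : x ∈ syl A p)
    (hy : y ∈ syl A q) : x * y = y * x := by
  have h1 : x * y * x⁻¹ * y⁻¹ ∈ syl A p ⊓ syl A q := by
    refine Subgroup.mem_inf.mpr ⟨?_, ?_⟩
    · have h2 := le_normalizer_syl A p (syl_le A q hy)
      rw [Subgroup.mem_normalizer_iff] at h2
      have h3 : y * x⁻¹ * y⁻¹ ∈ syl A p := (h2 x⁻¹).mp (inv_mem hx)
      have : x * y * x⁻¹ * y⁻¹ = x * (y * x⁻¹ * y⁻¹) := by group
      rw [this]
      exact mul_mem hx h3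
    · have h2 := le_normalizer_syl A q (syl_le A p hx)
      rw [Subgroup.mem_normalizer_iff] at h2
      have h3 : x * y * x⁻¹ ∈ syl A q := (h2 y).mp hy
      exact mul_mem h3 (inv_mem hy)
  have h4 : Disjoint (syl A p) (syl A q) :=
    IsPGroup.disjoint_of_ne p q hpq _ _ (syl_isPGroup A p) (syl_isPGroup A q)
  rw [h4.eq_bot, Subgroup.mem_bot] at h1
  have : x * y = (x * y * x⁻¹ * y⁻¹) * (y * x) := by group
  rw [this, h1, one_mul]

theorem le_of_syl_le {Y : Subgroup G} (h : ∀ q : ℕ, q.Prime → q ∣ Nat.card A → syl A q ≤ Y) :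
    A ≤ Y := by
  have h1 := Cfsg.Agent.Lib.Helper1.iSup_sylow_eq_top (G := A)
    (fun q : Nat.Primes => (Classical.arbitrary (Sylow (q : ℕ) A)))
  have h2 : A = (⊤ : Subgroup A).map A.subtype := by
    rw [← MonoidHom.range_eq_map, Subgroup.range_subtype]
  rw [h2, ← h1, Subgroup.map_iSup]
  apply iSup_le
  intro q
  have _ : Fact (q : ℕ).Prime := ⟨q.2⟩
  rw [← syl_eq A q]
  by_cases hq : (q : ℕ) ∣ Nat.card A
  · exact h q q.2 hq
  · have h3 : Nat.card (syl A (q : ℕ)) = 1 := by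
      rw [card_syl, Nat.factorization_eq_zero_of_not_dvd hq, pow_zero]
    rw [Subgroup.card_eq_one] at h3
    rw [h3]
    exact bot_le

end nil

/-- Cardinality of a subgroup factorized by two subgroups meeting trivially. -/
theorem card_eq_mul_of_fact {P Q X : Subgroup G} (hP : P ≤ X) (hQ : Q ≤ X) (hPQ : P ⊓ Q = ⊥)
    (hf : ∀ g ∈ X, ∃ a ∈ P, ∃ b ∈ Q, g = a * b) :
    Nat.card X = Nat.card P * Nat.card Q := by
  rw [← Nat.card_prod]
  symm
  let f : P × Q → X := fun x => ⟨(x.1 : G) * (x.2 : G), mul_mem (hP x.1.2) (hQ x.2.2)⟩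
  apply Nat.card_congr (Equiv.ofBijective f ⟨?_, ?_⟩)
  · rintro ⟨⟨a, ha⟩, ⟨b, hb⟩⟩ ⟨⟨a', ha'⟩, ⟨b', hb'⟩⟩ h
    have h1 : a * b = a' * b' := congrArg Subtype.val h
    have h2 : a'⁻¹ * a ∈ P ⊓ Q := by
      refine Subgroup.mem_inf.mpr ⟨mul_mem (inv_mem ha') ha, ?_⟩
      have : a'⁻¹ * a = b' * b⁻¹ := by
        rw [inv_mul_eq_iff_eq_mul, ← mul_assoc, ← h1, mul_inv_cancel_right]
      rw [this]
      exact mul_mem hb' (inv_mem hb)
    rw [hPQ, Subgroup.mem_bot, inv_mul_eq_one] at h2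
    subst h2
    have h3 : b = b' := mul_left_cancel h1
    subst h3
    rfl
  · rintro ⟨g, hg⟩
    obtain ⟨a, ha, b, hb, rfl⟩ := hf g hg
    exact ⟨⟨⟨a, ha⟩, ⟨b, hb⟩⟩, rfl⟩

/-- `X` is factorized by `A` and `B`. -/
def Fzd (A B X : Subgroup G) : Prop := ∀ g ∈ X, ∃ a ∈ A ⊓ X, ∃ b ∈ B ⊓ X, g = a * b

theorem Fzd.symm {A B X : Subgroup G} (h : Fzd A B X) : Fzd B A X := by
  intro g hg
  obtain ⟨a, ha, b, hb, hab⟩ := h g⁻¹ (inv_mem hg)
  refine ⟨b⁻¹, inv_mem hb, a⁻¹, inv_mem ha, ?_⟩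
  rw [← mul_inv_rev, ← hab, inv_inv]

/-- The minimal counterexample to Wielandt's theorem (coprime case), after the reduction to simple
groups. -/
structure MinCE [Finite G] (A B : Subgroup G) : Prop where
  nilA : Group.IsNilpotent A
  nilB : Group.IsNilpotent B
  cop : (Nat.card A).Coprime (Nat.card B)
  fact : ∀ g : G, ∃ a ∈ A, ∃ b ∈ B, g = a * b
  simple : IsSimpleGroup G
  notsolv : ¬ Group.IsSolvable G
  ih : ∀ X : Subgroup G, X ≠ ⊤ → Fzd A B X → Group.IsSolvable X

namespace MinCE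

variable [Finite G] {A B : Subgroup G}

theorem fact' (h : MinCE A B) (g : G) : ∃ b ∈ B, ∃ a ∈ A, g = b * a := by
  obtain ⟨a, ha, b, hb, hab⟩ := h.fact g⁻¹
  refine ⟨b⁻¹, inv_mem hb, a⁻¹, inv_mem ha, ?_⟩
  rw [← mul_inv_rev, ← hab, inv_inv]

theorem symm (h : MinCE A B) : MinCE B A where
  nilA := h.nilB
  nilB := h.nilA
  cop := h.cop.symm
  fact := h.fact'
  simple := h.simple
  notsolv := h.notsolv
  ih := fun X hX hf => h.ih X hX hf.symm

theorem inf_eq_bot (h : MinCE A B) : A ⊓ B = ⊥ :=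
  (Subgroup.disjoint_of_coprime_natCard h.cop).eq_bot

theorem card_eq (h : MinCE A B) : Nat.card G = Nat.card A * Nat.card B := by
  rw [← Subgroup.card_top (G := G)]
  exact card_eq_mul_of_fact le_top le_top h.inf_eq_bot (fun g _ => h.fact g)

theorem fzd_of_le (h : MinCE A B) {X : Subgroup G} (hAX : A ≤ X) : Fzd A B X := by
  intro g hg
  obtain ⟨a, ha, b, hb, rfl⟩ := h.fact g
  refine ⟨a, Subgroup.mem_inf.mpr ⟨ha, hAX ha⟩, b, Subgroup.mem_inf.mpr ⟨hb, ?_⟩, rfl⟩
  have : b = a⁻¹ * (a * b) := by group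
  rw [this]
  exact mul_mem (inv_mem (hAX ha)) hg

theorem fzd_of_le' (h : MinCE A B) {X : Subgroup G} (hBX : B ≤ X) : Fzd A B X :=
  (h.symm.fzd_of_le hBX).symm

theorem card_fzd (h : MinCE A B) {X : Subgroup G} (hX : Fzd A B X) :
    Nat.card X = Nat.card (A ⊓ X : Subgroup G) * Nat.card (B ⊓ X : Subgroup G) := by
  apply card_eq_mul_of_fact inf_le_right inf_le_right
  · apply le_antisymm _ bot_le
    rw [← h.inf_eq_bot]
    exact inf_le_inf inf_le_left inf_le_left
  · exact hX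

theorem eq_top_of_normal (h : MinCE A B) {M : Subgroup G}
    (hn : Subgroup.normalizer (M : Set G) = ⊤) (hM : M ≠ ⊥) : M = ⊤ := by
  have _ := h.simple
  have hM' : M.Normal := Subgroup.normalizer_eq_top_iff.mp hn
  exact (hM'.eq_bot_or_eq_top).resolve_left hM

theorem kill (h : MinCE A B) {t : ℕ} [Fact t.Prime] {M : Subgroup G} (hM : M ≠ ⊥)
    (hp : IsPGroup t M) (hn : Subgroup.normalizer (M : Set G) = ⊤) : False := by
  have h1 := h.eq_top_of_normal hn hM
  subst h1
  have h2 : IsPGroup t G := hp.of_equiv Subgroup.topEquiv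
  have _ := h2.isNilpotent
  exact h.notsolv inferInstance

theorem center_eq (h : MinCE A B) {z : G} (hz : ∀ g : G, g * z = z * g) : z = 1 := by
  have hzc : z ∈ Subgroup.center G := Subgroup.mem_center_iff.mpr hz
  by_contra hne
  have h1 : Subgroup.center G ≠ ⊥ := by
    intro hb
    rw [hb, Subgroup.mem_bot] at hzc
    exact hne hzc
  have h2 := h.eq_top_of_normal (Subgroup.normalizer_eq_top_iff.mpr inferInstance) h1
  apply h.notsolv
  apply Group.isSolvable_of_comm
  intro a b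
  have : b ∈ Subgroup.center G := h2 ▸ Subgroup.mem_top b
  exact (Subgroup.mem_center_iff.mp this a)

theorem A_ne_top (h : MinCE A B) : A ≠ ⊤ := by
  intro ht
  have _ := h.nilA
  have h2 : Group.IsNilpotent G := by
    have e : A ≃* G := ht ▸ Subgroup.topEquiv
    exact Group.nilpotent_of_mulEquiv e
  exact h.notsolv inferInstance

theorem A_ne_bot (h : MinCE A B) : A ≠ ⊥ := by
  intro hb
  apply h.symm.A_ne_top
  rw [eq_top_iff]
  intro g _
  obtain ⟨a, ha, b, hbm, rfl⟩ := h.fact g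
  rw [hb, Subgroup.mem_bot] at ha
  rw [ha, one_mul]
  exact hbm

/-- Step 2: a nontrivial normal subgroup of `A` generates `G` together with `B`. -/
theorem S2 (h : MinCE A B) {H : Subgroup G} (hH : H ≠ ⊥)
    (hn : A ≤ Subgroup.normalizer (H : Set G)) : H ⊔ B = ⊤ := by
  have h1 : Subgroup.normalClosure (H : Set G) ≠ ⊥ := by
    intro hb
    apply hH
    rw [eq_bot_iff, ← hb]
    exact Subgroup.le_normalClosure
  have h2 := h.eq_top_of_normal (Subgroup.normalizer_eq_top_iff.mpr inferInstance) h1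
  rw [eq_top_iff, ← h2, Subgroup.normalClosure]
  rw [Subgroup.closure_le]
  intro x hx
  obtain ⟨y, hy, hyx⟩ := Group.mem_conjugatesOfSet_iff.mp hx
  obtain ⟨g, hg⟩ := isConj_iff.mp hyx
  obtain ⟨b, hb, a, ha, rfl⟩ := h.fact' g
  have h3 : a * y * a⁻¹ ∈ H := by
    have := hn ha
    rw [Subgroup.mem_normalizer_iff] at this
    exact (this y).mp hy
  have h4 : x = b * (a * y * a⁻¹) * b⁻¹ := by
    rw [← hg]; group
  rw [h4]
  have hBle : B ≤ H ⊔ B := le_sup_right
  have hHle : H ≤ H ⊔ B := le_sup_left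
  exact mul_mem (mul_mem (hBle hb) (hHle h3)) (inv_mem (hBle hb))

theorem index_eq (h : MinCE A B) : B.index = Nat.card A := by
  have h1 := B.index_mul_card
  rw [h.card_eq] at h1
  exact Nat.eq_of_mul_eq_mul_right Nat.card_pos h1

/-- Step 1 (Burnside): `A` is not a `p`-group. -/
theorem exists_prime_ne (h : MinCE A B) (p : ℕ) : ∃ r : ℕ, r.Prime ∧ r ≠ p ∧ r ∣ Nat.card A := by
  by_contra hcon
  push Not at hcon
  have hcard : ∃ k, Nat.card A = p ^ k := by
    by_cases hp : p.Prime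
    · exact ⟨_, Nat.eq_prime_pow_of_unique_prime_dvd Nat.card_pos.ne'
        (fun {d} hd hdv => by
          by_contra hne
          exact hcon d hd hne hdv)⟩
    · refine ⟨0, ?_⟩
      rw [pow_zero]
      by_contra hne
      obtain ⟨r, hr, hrd⟩ := Nat.exists_prime_and_dvd hne
      exact hcon r hr (fun e => hp (e ▸ hr)) hrd
  obtain ⟨k, hk⟩ := hcard
  have hp : p.Prime := by
    by_contra hp
    have : Nat.card A = 1 := by
      by_contra hne
      obtain ⟨r, hr, hrd⟩ := Nat.exists_prime_and_dvd hne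
      exact hcon r hr (fun e => hp (e ▸ hr)) hrd
    exact h.A_ne_bot (Subgroup.card_eq_one.mp this)
  have _ := h.nilB
  have _ := h.simple
  have hBne : (⊤ : Subgroup B) ≠ ⊥ := by
    intro hb
    apply h.symm.A_ne_bot
    rw [eq_bot_iff]
    intro x hx
    have : (⟨x, hx⟩ : B) ∈ (⊤ : Subgroup B) := Subgroup.mem_top _
    rw [hb, Subgroup.mem_bot] at this
    rw [Subgroup.mem_bot]
    exact congrArg Subtype.val this
  have h1 := Cfsg.Agent.S0065.result (G := B) ⊤ hBne
  rw [top_inf_eq] at h1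
  obtain ⟨w, hw1⟩ := (Subgroup.ne_bot_iff_exists_ne_one).mp h1
  have hwG : (w : G) ≠ 1 := by
    intro e
    apply hw1
    exact Subtype.ext (Subtype.ext e)
  have hle : B ≤ Subgroup.centralizer ({(w : B).1} : Set G) := by
    intro b hb
    rw [Subgroup.mem_centralizer_iff]
    intro y hy
    rw [Set.mem_singleton_iff] at hy
    subst hy
    have h2 := Subgroup.mem_center_iff.mp w.2 ⟨b, hb⟩
    exact (congrArg Subtype.val h2).symm
  have hdvd := Subgroup.index_dvd_of_le hle
  rw [h.index_eq, hk] at hdvd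
  obtain ⟨j, -, hj⟩ := (Nat.dvd_prime_pow hp).1 hdvd
  have h3 := Cfsg.Agent.S0143.result p j hp _ hwG hj
  have _ : Fact (Nat.card G).Prime := ⟨h3⟩
  have h4 : IsCyclic G := isCyclic_of_prime_card rfl
  let _ : CommGroup G := IsCyclic.commGroup
  exact h.notsolv inferInstance

end MinCE

end Cfsg.Agent.Lib.Helper71
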