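import Mathlib
import Cfsg.Agent.Lib.Helper71.W51Basic
import Cfsg.Agent.Lib.Helper1.MinimalNormal
import Cfsg.Agent.Lib.Helper1.HallConj
import Cfsg.Agent.Lib.Helper1.HallDom
import Cfsg.Agent.S0561
import Cfsg.Agent.S0558
import Cfsg.Agent.S0044
import Cfsg.Agent.S0009

/-!
Relative ("inside a subgroup") versions of the tools used in Wielandt's theorem.
-/

set_option autoImplicit false

namespace Cfsg.Agent.Lib.Helper71

open Pointwise

variable {G : Type*} [Group G]

theorem mem_normalizer_map_subtype_of_mem {X : Subgroup G} {R : Subgroup X} {x : X}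
    (hx : x ∈ Subgroup.normalizer (R : Set X)) :
    (x : G) ∈ Subgroup.normalizer ((R.map X.subtype : Subgroup G) : Set G) := by
  rw [← cj_eq_self_iff]
  have h1 := map_cj X.subtype x R
  rw [cj_eq_self_iff.mpr hx] at h1
  exact h1.symm

theorem mem_normalizer_of_map_subtype {X : Subgroup G} {R : Subgroup X} {x : X}
    (hx : (x : G) ∈ Subgroup.normalizer ((R.map X.subtype : Subgroup G) : Set G)) :
    x ∈ Subgroup.normalizer (R : Set X) := by
  rw [← cj_eq_self_iff] at hx ⊢
  have h1 := map_cj X.subtype x R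
  apply Subgroup.map_injective X.subtype_injective
  rw [h1]
  exact hx

theorem card_subgroupOf_eq {H X : Subgroup G} (h : H ≤ X) :
    Nat.card (H.subgroupOf X) = Nat.card H :=
  Nat.card_congr (Subgroup.subgroupOfEquivOfLe h).toEquiv

theorem relIndex_eq_of_card [Finite G] {Y X : Subgroup G} (hYX : Y ≤ X) {k : ℕ}
    (hcard : Nat.card X = Nat.card Y * k) : Y.relIndex X = k := by
  have h1 : Nat.card Y * Y.relIndex X = Nat.card X := by
    have h1 := (Y.subgroupOf X).card_mul_index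
    rwa [Nat.card_congr (Subgroup.subgroupOfEquivOfLe hYX).toEquiv] at h1
  rw [hcard] at h1
  exact Nat.eq_of_mul_eq_mul_left Nat.card_pos h1

/-- T1: a nontrivial solvable subgroup has a nontrivial normal `t`-subgroup. -/
theorem exists_normal_pSubgroup_rel [Finite G] (X : Subgroup G) (hs : Group.IsSolvable X)
    (hX : X ≠ ⊥) :
    ∃ (t : ℕ) (M : Subgroup G), t.Prime ∧ M ≤ X ∧ M ≠ ⊥ ∧ IsPGroup t M ∧
      X ≤ Subgroup.normalizer (M : Set G) := by
  have _ : Nontrivial X := (Subgroup.nontrivial_iff_ne_bot X).mpr hX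
  obtain ⟨t, R, ht, hRn, hR1, hRp, -, -, -⟩ :=
    Cfsg.Agent.Lib.Helper1.exists_normal_pSubgroup_of_isSolvable (G := X)
  refine ⟨t, R.map X.subtype, ht, Subgroup.map_subtype_le _, ?_, hRp.map _, ?_⟩
  · rw [Ne, Subgroup.map_eq_bot_iff_of_injective _ X.subtype_injective]
    exact hR1
  · intro x hx
    have : (⟨x, hx⟩ : X) ∈ Subgroup.normalizer (R : Set X) := by
      rw [Subgroup.normalizer_eq_top_iff.mpr hRn]
      exact Subgroup.mem_top _
    exact mem_normalizer_map_subtype_of_mem this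

/-- T2: a `t`-subgroup normalized by `X` lies in every subgroup of `X` of index prime to `t`. -/
theorem pSubgroup_le_of_card [Finite G] {t : ℕ} [Fact t.Prime] {M Y X : Subgroup G}
    (hM : IsPGroup t M) (hMX : M ≤ X) (hXn : X ≤ Subgroup.normalizer (M : Set G)) (hYX : Y ≤ X)
    {k : ℕ} (hcard : Nat.card X = Nat.card Y * k) (hk : ¬ t ∣ k) : M ≤ Y := by
  have h1 : (M.subgroupOf X).Normal := (Subgroup.normal_subgroupOf_iff_le_normalizer hMX).mpr hXn
  have h2 : IsPGroup t (M.subgroupOf X) := hM.comap_of_injective X.subtype X.subtype_injective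
  have h3 : ¬ t ∣ (Y.subgroupOf X).index := by
    have : (Y.subgroupOf X).index = k := relIndex_eq_of_card hYX hcard
    rw [this]; exact hk
  have h4 := Cfsg.Agent.Lib.Helper1.normal_pSubgroup_le_of_not_dvd_index h2 h3
  intro m hm
  have : (⟨m, hMX hm⟩ : X) ∈ Y.subgroupOf X := h4 (Subgroup.mem_subgroupOf.mpr hm)
  exact Subgroup.mem_subgroupOf.mp this

/-- Lemma P: an element of `N1` whose order is prime to `|N1 : A|` lies in `A` (`A ⊴ N1`). -/
theorem mem_of_coprime_relIndex [Finite G] {N1 A : Subgroup G} (hA : A ≤ N1)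
    (hn : N1 ≤ Subgroup.normalizer (A : Set G)) {u : G} (hu : u ∈ N1)
    (hc : (A.relIndex N1).Coprime (orderOf u)) : u ∈ A := by
  have h1 : (A.subgroupOf N1).Normal := (Subgroup.normal_subgroupOf_iff_le_normalizer hA).mpr hn
  have h2 := Subgroup.pow_index_mem (A.subgroupOf N1) (⟨u, hu⟩ : N1)
  rw [Subgroup.mem_subgroupOf] at h2
  obtain ⟨m, hm⟩ := exists_pow_eq_self_of_coprime hc
  rw [← hm]
  exact pow_mem h2 m

/-- T3: if an `r`-subgroup `R` of the solvable subgroup `X` centralizes all normal `t`-subgroups of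
`X` for `t ≠ r`, then `X` has a nontrivial normal `r`-subgroup. -/
theorem exists_normal_rSubgroup_rel [Finite G] {X R : Subgroup G} {r : ℕ} [hr : Fact r.Prime]
    (hs : Group.IsSolvable X) (hRX : R ≤ X) (hR1 : R ≠ ⊥) (hRr : IsPGroup r R)
    (hcent : ∀ t : ℕ, t.Prime → t ≠ r → ∀ M : Subgroup G, M ≤ X → IsPGroup t M →
      X ≤ Subgroup.normalizer (M : Set G) → R ≤ Subgroup.centralizer (M : Set G)) :
    ∃ M : Subgroup G, M ≠ ⊥ ∧ M ≤ X ∧ IsPGroup r M ∧ X ≤ Subgroup.normalizer (M : Set G) := by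
  by_cases hcore : Cfsg.pCore r X = ⊥
  · exfalso
    have hnormal : ∀ (t : ℕ) (x : G), x ∈ X →
        x ∈ Subgroup.normalizer (((Cfsg.pCore t X).map X.subtype : Subgroup G) : Set G) := by
      intro t x hx
      have : (⟨x, hx⟩ : X) ∈ Subgroup.normalizer ((Cfsg.pCore t X : Subgroup X) : Set X) := by
        rw [Subgroup.normalizer_eq_top_iff.mpr (Cfsg.Agent.Lib.Helper1.pCore_normal t)]
        exact Subgroup.mem_top _
      exact mem_normalizer_map_subtype_of_mem this
    have h1 : ∀ p : Nat.Primes, Cfsg.pCore (p : ℕ) X ≤ Subgroup.centralizer ((R.subgroupOf X : Subgroup X) : Set X) := by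
      intro p
      by_cases hpr : (p : ℕ) = r
      · rw [hpr, hcore]; exact bot_le
      · have h2 := hcent p p.2 hpr ((Cfsg.pCore (p : ℕ) X).map X.subtype) (Subgroup.map_subtype_le _)
          ((Cfsg.Agent.Lib.Helper1.pCore_isPGroup (p : ℕ)).map _) (fun x hx => hnormal p x hx)
        intro y hy
        rw [Subgroup.mem_centralizer_iff]
        intro x hx
        have hx' : (x : G) ∈ R := Subgroup.mem_subgroupOf.mp hx
        have h3 := h2 hx'
        rw [Subgroup.mem_centralizer_iff] at h3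
        have h4 := h3 (y : G) ⟨y, hy, rfl⟩
        apply Subtype.ext
        simp only [Subgroup.coe_mul]
        exact h4.symm
    have h5 : Cfsg.fittingSubgroup X ≤ Subgroup.centralizer ((R.subgroupOf X : Subgroup X) : Set X) := by
      rw [Cfsg.Agent.S0009.result]
      exact iSup_le h1
    have h6 : R.subgroupOf X ≤ Cfsg.fittingSubgroup X := by
      have : R.subgroupOf X ≤ Subgroup.centralizer ((Cfsg.fittingSubgroup X : Subgroup X) : Set X) :=
        Subgroup.le_centralizer_iff.mp h5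
      exact this.trans Cfsg.Agent.S0044.result
    have h7 : (Nat.card (Cfsg.fittingSubgroup X)).Coprime r := by
      rw [Cfsg.Agent.S0009.result, iSup]
      apply (Cfsg.Agent.Lib.Helper1.normal_and_coprime_card_sSup r _ _).2
      rintro N ⟨p, rfl⟩
      refine ⟨Cfsg.Agent.Lib.Helper1.pCore_normal _, ?_⟩
      by_cases hpr : (p : ℕ) = r
      · dsimp only
        rw [hpr, hcore, Subgroup.card_bot]
        exact Nat.coprime_one_left r
      · have _ : Fact (p : ℕ).Prime := ⟨p.2⟩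
        obtain ⟨n, hn⟩ := (IsPGroup.iff_card).mp (Cfsg.Agent.Lib.Helper1.pCore_isPGroup (G := X) (p : ℕ))
        dsimp only
        rw [hn]
        apply Nat.Coprime.pow_left
        exact (Nat.coprime_primes p.2 hr.out).mpr hpr
    have h8 : Nat.card (R.subgroupOf X) ∣ Nat.card (Cfsg.fittingSubgroup X) :=
      Subgroup.card_dvd_of_le h6
    rw [card_subgroupOf_eq hRX] at h8
    obtain ⟨n, hn⟩ := (IsPGroup.iff_card).mp hRr
    have hn0 : n ≠ 0 := by
      intro h0
      rw [h0, pow_zero] at hn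
      exact hR1 (Subgroup.card_eq_one.mp hn)
    have h9 : r ∣ Nat.card (Cfsg.fittingSubgroup X) :=
      (dvd_pow_self r hn0).trans (hn ▸ h8)
    have h10 := Nat.Coprime.eq_one_of_dvd h7.symm h9
    exact hr.out.one_lt.ne' h10
  · refine ⟨(Cfsg.pCore r X).map X.subtype, ?_, Subgroup.map_subtype_le _,
      (Cfsg.Agent.Lib.Helper1.pCore_isPGroup r).map _, ?_⟩
    · rw [Ne, Subgroup.map_eq_bot_iff_of_injective _ X.subtype_injective]
      exact hcore
    · intro x hx
      have : (⟨x, hx⟩ : X) ∈ Subgroup.normalizer ((Cfsg.pCore r X : Subgroup X) : Set X) := by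
        rw [Subgroup.normalizer_eq_top_iff.mpr (Cfsg.Agent.Lib.Helper1.pCore_normal r)]
        exact Subgroup.mem_top _
      exact mem_normalizer_map_subtype_of_mem this

/-- T4: `S0561` inside a solvable subgroup `N = H K`. -/
theorem permute_rel [Finite G] {N H K A' B' : Subgroup G} (hs : Group.IsSolvable N)
    (hHN : H ≤ N) (hKN : K ≤ N) (hf : ∀ g ∈ N, ∃ h ∈ H, ∃ k ∈ K, g = h * k)
    (hA : A' ≤ H) (hAn : H ≤ Subgroup.normalizer (A' : Set G))
    (hB : B' ≤ K) (hBn : K ≤ Subgroup.normalizer (B' : Set G))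
    (hAh : (Nat.card A').Coprime (A'.relIndex N)) (hBh : (Nat.card B').Coprime (B'.relIndex N)) :
    ∃ S : Subgroup G, S ≤ N ∧ (S : Set G) = (A' : Set G) * (B' : Set G) := by
  have hAN : A' ≤ N := hA.trans hHN
  have hBN : B' ≤ N := hB.trans hKN
  have h1 : ∀ g : N, ∃ h ∈ H.subgroupOf N, ∃ k ∈ K.subgroupOf N, g = h * k := by
    rintro ⟨g, hg⟩
    obtain ⟨h, hh, k, hk, rfl⟩ := hf g hg
    exact ⟨⟨h, hHN hh⟩, Subgroup.mem_subgroupOf.mpr hh, ⟨k, hKN hk⟩, Subgroup.mem_subgroupOf.mpr hk,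
      rfl⟩
  have hnorm : ∀ {A' H : Subgroup G}, A' ≤ H → H ≤ Subgroup.normalizer (A' : Set G) →
      ((A'.subgroupOf N).subgroupOf (H.subgroupOf N)).Normal := by
    intro A' H hA hAn
    have hle : A'.subgroupOf N ≤ H.subgroupOf N := by
      intro x hx
      exact Subgroup.mem_subgroupOf.mpr (hA (Subgroup.mem_subgroupOf.mp hx))
    rw [Subgroup.normal_subgroupOf_iff_le_normalizer hle]
    intro x hx
    have h2 := hAn (Subgroup.mem_subgroupOf.mp hx)
    rw [Subgroup.mem_normalizer_iff] at h2 ⊢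
    intro y
    rw [Subgroup.mem_subgroupOf, Subgroup.mem_subgroupOf]
    exact h2 y
  have h2 := Cfsg.Agent.S0561.result (G := N) (H.subgroupOf N) (K.subgroupOf N) (A'.subgroupOf N)
    (B'.subgroupOf N) h1
    (fun x hx => Subgroup.mem_subgroupOf.mpr (hA (Subgroup.mem_subgroupOf.mp hx)))
    (hnorm hA hAn)
    (fun x hx => Subgroup.mem_subgroupOf.mpr (hB (Subgroup.mem_subgroupOf.mp hx)))
    (hnorm hB hBn)
    (by rw [card_subgroupOf_eq hAN]; exact hAh)
    (by rw [card_subgroupOf_eq hBN]; exact hBh) 1 1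
  obtain ⟨S, hS⟩ := h2
  rw [map_one, one_smul, one_smul] at hS
  refine ⟨S.map N.subtype, Subgroup.map_subtype_le _, ?_⟩
  ext g
  constructor
  · rintro ⟨s, hs, rfl⟩
    have : s ∈ (S : Set N) := hs
    rw [hS] at this
    obtain ⟨a, ha, b, hb, rfl⟩ := this
    exact ⟨a, Subgroup.mem_subgroupOf.mp ha, b, Subgroup.mem_subgroupOf.mp hb, rfl⟩
  · rintro ⟨a, ha, b, hb, rfl⟩
    have : (⟨a, hAN ha⟩ * ⟨b, hBN hb⟩ : N) ∈ (S : Set N) := by
      rw [hS]
      exact ⟨_, Subgroup.mem_subgroupOf.mpr ha, _, Subgroup.mem_subgroupOf.mpr hb, rfl⟩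
    exact ⟨_, this, rfl⟩

/-- T6: in `N1 = A ⋊ B0` (with `A` solvable, coprime orders), every element of order prime to `|A|`
is `A`-conjugate into `B0`. -/
theorem conj_into_complement [Finite G] {N1 A B0 : Subgroup G} (hA : A ≤ N1) (hB0 : B0 ≤ N1)
    (hn : N1 ≤ Subgroup.normalizer (A : Set G)) (hsolA : Group.IsSolvable A)
    (hcard : Nat.card N1 = Nat.card A * Nat.card B0)
    (hcop : (Nat.card A).Coprime (Nat.card B0))
    (hf : ∀ g ∈ N1, ∃ b ∈ B0, ∃ a ∈ A, g = b * a)
    {u : G} (hu : u ∈ N1) (huo : (Nat.card A).Coprime (orderOf u)) :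
    ∃ x ∈ A, x * u * x⁻¹ ∈ B0 := by
  have h1 : (A.subgroupOf N1).Normal := (Subgroup.normal_subgroupOf_iff_le_normalizer hA).mpr hn
  have h2 : Subgroup.IsComplement' (A.subgroupOf N1) (B0.subgroupOf N1) := by
    apply Subgroup.isComplement'_of_coprime
    · rw [card_subgroupOf_eq hA, card_subgroupOf_eq hB0, hcard]
    · rw [card_subgroupOf_eq hA, card_subgroupOf_eq hB0]; exact hcop
  have h3 : (Nat.card (A.subgroupOf N1)).Coprime
      (Nat.card (Subgroup.zpowers (⟨u, hu⟩ : N1))) := by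
    rw [card_subgroupOf_eq hA, Nat.card_zpowers]
    have : orderOf (⟨u, hu⟩ : N1) = orderOf u := by
      rw [← Subgroup.orderOf_coe]
    rw [this]; exact huo
  have h4 : Group.IsSolvable (A.subgroupOf N1) :=
    Group.isSolvable_of_isSolvable_injective
      (f := (Subgroup.subgroupOfEquivOfLe hA).toMonoidHom) (Subgroup.subgroupOfEquivOfLe hA).injective
  obtain ⟨g, hg⟩ := Cfsg.Agent.Lib.Helper1.exists_le_conj_of_coprime (A.subgroupOf N1)
    (B0.subgroupOf N1) (Subgroup.zpowers (⟨u, hu⟩ : N1)) h2 h3 h4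
  have h5 := hg (Subgroup.mem_zpowers _)
  rw [Cfsg.Agent.S0561.mem_conj_smul, Subgroup.mem_subgroupOf] at h5
  -- (g⁻¹ u g) ∈ B0 with g ∈ N1; write g⁻¹ = b a
  obtain ⟨b, hb, a, ha, hba⟩ := hf (g⁻¹ : N1) (g⁻¹ : N1).2
  refine ⟨a, ha, ?_⟩
  have h6 : a * u * a⁻¹ = b⁻¹ * ((g⁻¹ : N1) * u * ((g : N1) : G)) * b := by
    have : ((g : N1) : G) = (((g⁻¹ : N1) : N1) : G)⁻¹ := by simp
    rw [this, hba]
    group
  rw [h6]
  have h7 : ((g⁻¹ : N1) : G) * u * ((g : N1) : G) ∈ B0 := by
    simpa using h5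
  exact mul_mem (mul_mem (inv_mem hb) h7) hb

/-- T5: `S0558` inside a subgroup `C`, for a nilpotent subgroup `H ≤ C`. -/
theorem normal_complement_rel [Finite G] {C H : Subgroup G} (hHC : H ≤ C)
    [nil : Group.IsNilpotent H] (hnotp : ∀ p : ℕ, p.Prime → ¬ IsPGroup p H)
    (hnorm : ∀ p : ℕ, p.Prime → p ∣ Nat.card H → ∀ u ∈ C,
      u ∈ Subgroup.normalizer ((syl H p : Subgroup G) : Set G) → u ∈ H) :
    ∃ K : Subgroup G, K ≤ C ∧ C ≤ Subgroup.normalizer (K : Set G) ∧ K ⊓ H = ⊥ ∧
      Nat.card K * Nat.card H = Nat.card C := by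
  have hnot : ∀ p : ℕ, p.Prime → ∀ P : Sylow p C, (P : Subgroup C) ≠ H.subgroupOf C := by
    intro p hp P hPH
    apply hnotp p hp
    have h1 : IsPGroup p (H.subgroupOf C) := hPH ▸ P.isPGroup'
    exact h1.of_equiv (Subgroup.subgroupOfEquivOfLe hHC)
  have hnorm' : ∀ p : ℕ, p.Prime → p ∣ Nat.card (H.subgroupOf C) → ∀ P : Sylow p (H.subgroupOf C),
      Subgroup.normalizer ((((P : Subgroup (H.subgroupOf C)).map (H.subgroupOf C).subtype :
        Subgroup C)) : Set C) = H.subgroupOf C := by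
    intro p hp hdvd P
    have _ : Fact p.Prime := ⟨hp⟩
    rw [card_subgroupOf_eq hHC] at hdvd
    have hQ : (((P : Subgroup (H.subgroupOf C)).map (H.subgroupOf C).subtype).map C.subtype :
        Subgroup G) = syl H p := by
      apply Subgroup.eq_of_le_of_card_ge
      · apply le_syl H p
        · rintro _ ⟨_, ⟨x, -, rfl⟩, rfl⟩
          exact Subgroup.mem_subgroupOf.mp x.2
        · exact (P.isPGroup'.map _).map _
      · rw [card_syl, Subgroup.card_map_of_injective C.subtype_injective,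
          Subgroup.card_map_of_injective (Subgroup.subtype_injective _), P.card_eq_multiplicity,
          card_subgroupOf_eq hHC]
    ext u
    constructor
    · intro hu
      have h1 := mem_normalizer_map_subtype_of_mem hu
      rw [hQ] at h1
      exact Subgroup.mem_subgroupOf.mpr (hnorm p hp hdvd u u.2 h1)
    · intro hu
      apply mem_normalizer_of_map_subtype
      rw [hQ]
      exact le_normalizer_syl H p (Subgroup.mem_subgroupOf.mp hu)
  obtain ⟨N, hNn, hc⟩ := Cfsg.Agent.S0558.result (G := C) (H.subgroupOf C) hnot hnorm'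
  refine ⟨N.map C.subtype, Subgroup.map_subtype_le _, ?_, ?_, ?_⟩
  · intro x hx
    have : (⟨x, hx⟩ : C) ∈ Subgroup.normalizer (N : Set C) := by
      rw [Subgroup.normalizer_eq_top_iff.mpr hNn]
      exact Subgroup.mem_top _
    exact mem_normalizer_map_subtype_of_mem this
  · rw [eq_bot_iff]
    rintro _ ⟨⟨n, hn, rfl⟩, hnH⟩
    have h1 : n ∈ N ⊓ H.subgroupOf C := Subgroup.mem_inf.mpr ⟨hn, Subgroup.mem_subgroupOf.mpr hnH⟩
    rw [hc.disjoint.eq_bot, Subgroup.mem_bot] at h1
    rw [h1]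
    exact Subgroup.mem_bot.mpr rfl
  · rw [Subgroup.card_map_of_injective C.subtype_injective, ← card_subgroupOf_eq hHC]
    exact hc.card_mul_card

end Cfsg.Agent.Lib.Helper71
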