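import Mathlib
import Cfsg.Agent.Lib.Helper71.W51Local
import Cfsg.Agent.S0562

/-!
Wielandt's theorem (coprime case): the steps in a minimal counterexample, up to `⟨H, B_q⟩ = G`,
centralizers of central elements, normalizers of Sylow subgroups.
-/

set_option autoImplicit false

namespace Cfsg.Agent.Lib.Helper71

open Pointwise

variable {G : Type*} [Group G]

section nil

variable [Finite G] (A : Subgroup G) [hA : Group.IsNilpotent A] (p : ℕ) [hp : Fact p.Prime]

theorem syl_relIndex : ¬ p ∣ (syl A p).relIndex A := by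
  let P : Sylow p A := Classical.arbitrary _
  rw [syl_eq A p P, Subgroup.relIndex, Subgroup.subgroupOf,
    Subgroup.comap_map_eq_self_of_injective A.subtype_injective]
  exact P.not_dvd_index

omit [Finite G] hp in
theorem not_dvd_relIndex_mid {S K L : Subgroup G} (hSK : S ≤ K) (hKL : K ≤ L)
    (h : ¬ p ∣ S.relIndex L) : ¬ p ∣ S.relIndex K := by
  intro h1
  apply h
  rw [← Subgroup.relIndex_mul_relIndex S K L hSK hKL]
  exact h1.mul_right _

omit [Finite G] in
theorem not_dvd_relIndex_trans {S K L : Subgroup G} (hSK : S ≤ K) (hKL : K ≤ L)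
    (h1 : ¬ p ∣ S.relIndex K) (h2 : ¬ p ∣ K.relIndex L) : ¬ p ∣ S.relIndex L := by
  rw [← Subgroup.relIndex_mul_relIndex S K L hSK hKL]
  exact hp.out.not_dvd_mul h1 h2

theorem coprime_card_of_isPGroup {S : Subgroup G} (hS : IsPGroup p S) {n : ℕ} (hn : ¬ p ∣ n) :
    (Nat.card S).Coprime n := by
  obtain ⟨k, hk⟩ := (IsPGroup.iff_card).mp hS
  rw [hk]
  exact Nat.Coprime.pow_left k ((Nat.Prime.coprime_iff_not_dvd hp.out).mpr hn)

theorem dvd_card_of_isPGroup_ne_bot {S : Subgroup G} (hS : IsPGroup p S) (hS1 : S ≠ ⊥) :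
    p ∣ Nat.card S := by
  obtain ⟨k, hk⟩ := (IsPGroup.iff_card).mp hS
  have hk0 : k ≠ 0 := by
    intro h0
    rw [h0, pow_zero] at hk
    exact hS1 (Subgroup.card_eq_one.mp hk)
  rw [hk]
  exact dvd_pow_self p hk0

/-- If `M ≤ syl A q` and `p ≠ q` then `syl A p` centralizes, hence normalizes, `M`. -/
theorem syl_le_normalizer_of_le {q : ℕ} [hq : Fact q.Prime] (hpq : p ≠ q) {M : Subgroup G}
    (hM : M ≤ syl A q) : syl A p ≤ Subgroup.normalizer (M : Set G) := by
  intro x hx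
  apply Subgroup.centralizer_le_normalizer
  rw [Subgroup.mem_centralizer_iff]
  intro m hm
  exact (syl_commute A p hpq hx (hM hm)).symm

end nil

theorem isNilpotent_of_le {A X : Subgroup G} [hA : Group.IsNilpotent A] (hXA : X ≤ A) :
    Group.IsNilpotent X :=
  Group.nilpotent_of_mulEquiv (Subgroup.subgroupOfEquivOfLe hXA)

namespace MinCE

variable [Finite G] {A B : Subgroup G}

theorem not_dvd_card_B (h : MinCE A B) {p : ℕ} (hp : p.Prime) (hpA : p ∣ Nat.card A) :
    ¬ p ∣ Nat.card B := by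
  intro hpB
  have := Nat.dvd_gcd hpA hpB
  rw [h.cop.gcd_eq_one] at this
  exact hp.one_lt.ne' (Nat.dvd_one.mp this)

theorem sylA_index (h : MinCE A B) {p : ℕ} [hp : Fact p.Prime] (hpA : p ∣ Nat.card A) :
    ¬ p ∣ (syl A p).index := by
  have _ := h.nilA
  have h1 := syl_relIndex A p
  have h2 : ¬ p ∣ A.relIndex ⊤ := by
    rw [Subgroup.relIndex_top_right, h.symm.index_eq]
    exact h.not_dvd_card_B hp.out hpA
  have h3 := not_dvd_relIndex_trans p (syl_le A p) le_top h1 h2
  rwa [Subgroup.relIndex_top_right] at h3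

theorem common_core (h : MinCE A B) {p q : ℕ} [hp : Fact p.Prime] [hq : Fact q.Prime]
    {H : Subgroup G} (hH : H ≠ ⊥) (hHp : H ≤ syl A p)
    (hHn : A ≤ Subgroup.normalizer (H : Set G)) (hqB : q ∣ Nat.card B)
    (extra : ∀ M : Subgroup G, M ≠ ⊥ → M ≤ syl A p → H ≤ Subgroup.normalizer (M : Set G) →
      syl B q ≤ Subgroup.normalizer (M : Set G) → False) :
    H ⊔ syl B q = ⊤ := by
  have _ := h.nilA
  have _ := h.nilB
  by_contra hJ
  have hpA : p ∣ Nat.card A := by
    have h1 : IsPGroup p H := (syl_isPGroup A p).to_le hHp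
    exact (dvd_card_of_isPGroup_ne_bot p h1 hH).trans
      (Subgroup.card_dvd_of_le (hHp.trans (syl_le A p)))
  have hqA : ¬ q ∣ Nat.card A := fun hqA => h.symm.not_dvd_card_B hq.out hqB hqA
  have hpq : p ≠ q := fun e => hqA (e ▸ hpA)
  have hJ1 : H ⊔ syl B q ≠ ⊥ := fun e => hH (eq_bot_iff.mpr (e ▸ le_sup_left))
  have hN : Subgroup.normalizer ((H ⊔ syl B q : Subgroup G) : Set G) ≠ ⊤ :=
    fun e => hJ (h.eq_top_of_normal e hJ1)
  have hfN : Fzd A B (Subgroup.normalizer ((H ⊔ syl B q : Subgroup G) : Set G)) := by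
    intro g hg
    obtain ⟨a, ha, b, hb, e⟩ := Cfsg.Agent.S0562.result A B H (syl B q) h.fact
      (hHp.trans (syl_le A p))
      ((Subgroup.normal_subgroupOf_iff_le_normalizer (hHp.trans (syl_le A p))).mpr hHn)
      (syl_le B q)
      ((Subgroup.normal_subgroupOf_iff_le_normalizer (syl_le B q)).mpr (le_normalizer_syl B q))
      g hg
    exact ⟨a, Subgroup.mem_inf.mpr ⟨(Subgroup.mem_inf.mp ha).2, (Subgroup.mem_inf.mp ha).1⟩, b,
      Subgroup.mem_inf.mpr ⟨(Subgroup.mem_inf.mp hb).2, (Subgroup.mem_inf.mp hb).1⟩, e⟩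
  have hsN := h.ih _ hN hfN
  set N := Subgroup.normalizer ((H ⊔ syl B q : Subgroup G) : Set G) with hNdef
  have hJN : H ⊔ syl B q ≤ N := Subgroup.le_normalizer
  have hBqN : syl B q ≤ N := le_sup_right.trans hJN
  have hHN : H ≤ N := le_sup_left.trans hJN
  have hnilAN : Group.IsNilpotent (A ⊓ N : Subgroup G) := isNilpotent_of_le inf_le_left
  -- the Sylow p-subgroup of A ⊓ N
  have hP'A : syl (A ⊓ N) p ≤ syl A p :=
    le_syl A p ((syl_le _ p).trans inf_le_left) (syl_isPGroup _ p)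
  have hHP' : H ≤ syl (A ⊓ N) p :=
    le_syl (A ⊓ N) p (le_inf (hHp.trans (syl_le A p)) hHN) ((syl_isPGroup A p).to_le hHp)
  have hcardN := h.card_fzd hfN
  have hcop1 : (Nat.card (syl (A ⊓ N) p)).Coprime ((syl (A ⊓ N) p).relIndex N) := by
    apply coprime_card_of_isPGroup p (syl_isPGroup _ p)
    apply not_dvd_relIndex_trans p (syl_le _ p) inf_le_right (syl_relIndex _ p)
    rw [relIndex_eq_of_card inf_le_right hcardN]
    intro hd
    exact h.not_dvd_card_B hp.out hpA (hd.trans (Subgroup.card_dvd_of_le inf_le_left))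
  have hcop2 : (Nat.card (syl B q)).Coprime ((syl B q).relIndex N) := by
    apply coprime_card_of_isPGroup q (syl_isPGroup _ q)
    apply not_dvd_relIndex_mid q hBqN le_top
    rw [Subgroup.relIndex_top_right]
    exact h.symm.sylA_index hqB
  obtain ⟨W, hWN, hW⟩ := permute_rel (N := N) (H := A ⊓ N) (K := B ⊓ N) (A' := syl (A ⊓ N) p)
    (B' := syl B q) hsN inf_le_right inf_le_right
    (fun g hg => by
      obtain ⟨a, ha, b, hb, e⟩ := hfN g hg
      exact ⟨a, ha, b, hb, e⟩)
    (syl_le _ p) (le_normalizer_syl _ p) (le_inf (syl_le B q) hBqN)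
    (inf_le_left.trans (le_normalizer_syl B q)) hcop1 hcop2
  have hP'W : syl (A ⊓ N) p ≤ W := by
    intro x hx
    have : x ∈ (W : Set G) := by
      rw [hW]; exact ⟨x, hx, 1, one_mem _, (mul_one x)⟩
    exact this
  have hBqW : syl B q ≤ W := by
    intro x hx
    have : x ∈ (W : Set G) := by
      rw [hW]; exact ⟨1, one_mem _, x, hx, (one_mul x)⟩
    exact this
  have hdisj : syl (A ⊓ N) p ⊓ syl B q = ⊥ :=
    (IsPGroup.disjoint_of_ne p q hpq _ _ (syl_isPGroup _ p) (syl_isPGroup _ q)).eq_bot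
  have hcardW : Nat.card W = Nat.card (syl (A ⊓ N) p) * Nat.card (syl B q) := by
    apply card_eq_mul_of_fact hP'W hBqW hdisj
    intro g hg
    have : g ∈ (W : Set G) := hg
    rw [hW] at this
    obtain ⟨a, ha, b, hb, e⟩ := this
    exact ⟨a, ha, b, hb, e.symm⟩
  have hsW : Group.IsSolvable W :=
    Group.isSolvable_of_isSolvable_injective (Subgroup.inclusion_injective hWN)
  have hW1 : W ≠ ⊥ := fun e => hH (eq_bot_iff.mpr (e ▸ hHP'.trans hP'W))
  obtain ⟨t, M, ht, hMW, hM1, hMt, hWM⟩ := exists_normal_pSubgroup_rel W hsW hW1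
  have _ : Fact t.Prime := ⟨ht⟩
  by_cases htq : t = q
  · subst htq
    have hMB : M ≤ syl B t := by
      apply pSubgroup_le_of_card hMt hMW hWM hBqW (k := Nat.card (syl (A ⊓ N) p))
        (by rw [hcardW, mul_comm])
      obtain ⟨k, hk⟩ := (IsPGroup.iff_card).mp (syl_isPGroup (A ⊓ N) p)
      rw [hk]
      intro hd
      exact hpq ((Nat.prime_dvd_prime_iff_eq ht hp.out).mp (ht.dvd_of_dvd_pow hd)).symm
    have hBM : B ≤ Subgroup.normalizer (M : Set G) := by
      apply le_of_syl_le B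
      intro s hs _
      have _ : Fact s.Prime := ⟨hs⟩
      by_cases hst : s = t
      · subst hst; exact hBqW.trans hWM
      · exact syl_le_normalizer_of_le B s hst hMB
    have h1 : H ⊔ B ≤ Subgroup.normalizer (M : Set G) :=
      sup_le ((hHP'.trans hP'W).trans hWM) hBM
    rw [h.S2 hH hHn, top_le_iff] at h1
    exact h.kill hM1 hMt h1
  · have hMP : M ≤ syl (A ⊓ N) p := by
      apply pSubgroup_le_of_card hMt hMW hWM hP'W (k := Nat.card (syl B q)) hcardW
      obtain ⟨k, hk⟩ := (IsPGroup.iff_card).mp (syl_isPGroup B q)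
      rw [hk]
      intro hd
      exact htq ((Nat.prime_dvd_prime_iff_eq ht hq.out).mp (ht.dvd_of_dvd_pow hd))
    exact extra M hM1 (hMP.trans hP'A) ((hHP'.trans hP'W).trans hWM) (hBqW.trans hWM)

/-- Step 3: `⟨A_p, B_q⟩ = G`. -/
theorem S3 (h : MinCE A B) {p q : ℕ} [hp : Fact p.Prime] [hq : Fact q.Prime]
    (hpA : p ∣ Nat.card A) (hqB : q ∣ Nat.card B) : syl A p ⊔ syl B q = ⊤ := by
  have _ := h.nilA
  have _ := h.nilB
  apply h.common_core (syl_ne_bot A p hpA) le_rfl (le_normalizer_syl A p) hqB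
  intro M hM1 hMp hHM hBM
  have hAM : A ≤ Subgroup.normalizer (M : Set G) := by
    apply le_of_syl_le A
    intro s hs _
    have _ : Fact s.Prime := ⟨hs⟩
    by_cases hsp : s = p
    · subst hsp; exact hHM
    · exact syl_le_normalizer_of_le A s hsp hMp
  have h1 : syl B q ⊔ A ≤ Subgroup.normalizer (M : Set G) := sup_le hBM hAM
  rw [h.symm.S2 (syl_ne_bot B q hqB) (le_normalizer_syl B q), top_le_iff] at h1
  exact h.kill hM1 ((syl_isPGroup A p).to_le hMp) h1

/-- `⟨H, B_q⟩ = G` for every nontrivial normal subgroup `H` of `A` inside `A_p`. -/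
theorem common (h : MinCE A B) {p q : ℕ} [hp : Fact p.Prime] [hq : Fact q.Prime]
    {H : Subgroup G} (hH : H ≠ ⊥) (hHp : H ≤ syl A p)
    (hHn : A ≤ Subgroup.normalizer (H : Set G)) (hqB : q ∣ Nat.card B) :
    H ⊔ syl B q = ⊤ := by
  have _ := h.nilA
  have _ := h.nilB
  apply h.common_core hH hHp hHn hqB
  intro M hM1 hMp _ hBM
  obtain ⟨r, hr, hrp, hrA⟩ := h.exists_prime_ne p
  have _ : Fact r.Prime := ⟨hr⟩
  have h1 : syl A r ⊔ syl B q ≤ Subgroup.normalizer (M : Set G) :=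
    sup_le (syl_le_normalizer_of_le A r hrp hMp) hBM
  rw [h.S3 hrA hqB, top_le_iff] at h1
  exact h.kill hM1 ((syl_isPGroup A p).to_le hMp) h1

end MinCE

end Cfsg.Agent.Lib.Helper71
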