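import Mathlib
import Cfsg.Agent.Lib.Helper71.W51Steps

/-!
Wielandt's theorem (coprime case): centralizers of central elements of `A`, normalizers of the
Sylow subgroups of `A`, overgroups of `A`.
-/

set_option autoImplicit false

namespace Cfsg.Agent.Lib.Helper71

open Pointwise

variable {G : Type*} [Group G]

theorem exists_prime_order_pow [Finite G] {x : G} (hx : x ≠ 1) :
    ∃ (s k : ℕ), s.Prime ∧ orderOf (x ^ k) = s := by
  have h1 : orderOf x ≠ 1 := fun e => hx (orderOf_eq_one_iff.mp e)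
  obtain ⟨s, hs, hsd⟩ := Nat.exists_prime_and_dvd h1
  exact ⟨s, orderOf x / s, hs, orderOf_pow_orderOf_div (orderOf_pos x).ne' hsd⟩

theorem zpowers_le_centralizer_of_commute {a z : G} (h : a * z = z * a) :
    a ∈ Subgroup.centralizer ((Subgroup.zpowers z : Subgroup G) : Set G) := by
  rw [Subgroup.mem_centralizer_iff]
  intro m hm
  obtain ⟨n, rfl⟩ := Subgroup.mem_zpowers_iff.mp hm
  have : Commute z a := h.symm
  exact (this.zpow_left n).eq

theorem exists_central_mem [Finite G] {A M : Subgroup G} [Group.IsNilpotent A] (hMA : M ≤ A)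
    (hM1 : M ≠ ⊥) (hn : A ≤ Subgroup.normalizer (M : Set G)) :
    ∃ z ∈ M, (∀ a ∈ A, a * z = z * a) ∧ z ≠ 1 := by
  have h1 : (M.subgroupOf A).Normal := (Subgroup.normal_subgroupOf_iff_le_normalizer hMA).mpr hn
  have h2 : M.subgroupOf A ≠ ⊥ := by
    intro e
    apply hM1
    rw [eq_bot_iff]
    intro x hx
    have : (⟨x, hMA hx⟩ : A) ∈ M.subgroupOf A := Subgroup.mem_subgroupOf.mpr hx
    rw [e, Subgroup.mem_bot] at this
    rw [Subgroup.mem_bot]
    exact congrArg Subtype.val this
  have h3 := Cfsg.Agent.S0065.result (G := A) (M.subgroupOf A) h2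
  obtain ⟨w, hw1⟩ := (Subgroup.ne_bot_iff_exists_ne_one).mp h3
  have hw := Subgroup.mem_inf.mp w.2
  refine ⟨((w : A) : G), Subgroup.mem_subgroupOf.mp hw.1, ?_, ?_⟩
  · intro a ha
    have h4 := Subgroup.mem_center_iff.mp hw.2 ⟨a, ha⟩
    exact congrArg Subtype.val h4
  · intro e
    apply hw1
    exact Subtype.ext (Subtype.ext e)

namespace MinCE

variable [Finite G] {A B : Subgroup G}

/-- (α): the centralizer of a nontrivial central element of `A` is `A`. -/
theorem alpha (h : MinCE A B) {z : G} (hzA : z ∈ A) (hzc : ∀ a ∈ A, a * z = z * a) (hz1 : z ≠ 1)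
    {g : G} (hg : g * z = z * g) : g ∈ A := by
  have _ := h.nilA
  have _ := h.nilB
  obtain ⟨a, ha, b, hb, rfl⟩ := h.fact g
  suffices hb1 : b = 1 by rw [hb1, mul_one]; exact ha
  have hbz : b * z = z * b := by
    have h1 := hzc a ha
    have h2 : a * (b * z) = a * (z * b) := by
      rw [← mul_assoc, hg, ← mul_assoc, ← h1, mul_assoc]
    exact mul_left_cancel h2
  by_contra hb1
  obtain ⟨s, k, hs, hbo⟩ := exists_prime_order_pow hb1
  obtain ⟨p, j, hp, hzo⟩ := exists_prime_order_pow hz1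
  have _ : Fact s.Prime := ⟨hs⟩
  have _ : Fact p.Prime := ⟨hp⟩
  have hb'B : b ^ k ∈ B := pow_mem hb k
  have hz'A : z ^ j ∈ A := pow_mem hzA j
  have hcomm : Commute (b ^ k) (z ^ j) := (Commute.pow_pow (show Commute b z from hbz) k j)
  have hz'c : ∀ a ∈ A, a * z ^ j = z ^ j * a := fun a ha =>
    ((show Commute a z from hzc a ha).pow_right j).eq
  have hz'1 : z ^ j ≠ 1 := by
    intro e
    rw [e, orderOf_one] at hzo
    exact hp.one_lt.ne' hzo.symm
  have hb'1 : b ^ k ≠ 1 := by
    intro e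
    rw [e, orderOf_one] at hbo
    exact hs.one_lt.ne' hbo.symm
  have hH1 : Subgroup.zpowers (z ^ j) ≠ ⊥ := by
    rw [Ne, Subgroup.zpowers_eq_bot]; exact hz'1
  have hHp : Subgroup.zpowers (z ^ j) ≤ syl A p := by
    rw [Subgroup.zpowers_le]
    apply mem_syl_of_orderOf A p hz'A (k := 1)
    rw [pow_one, ← hzo]; exact pow_orderOf_eq_one _
  have hHn : A ≤ Subgroup.normalizer ((Subgroup.zpowers (z ^ j) : Subgroup G) : Set G) :=
    fun a ha => Subgroup.centralizer_le_normalizer _ (zpowers_le_centralizer_of_commute (hz'c a ha))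
  have hsB : s ∣ Nat.card B := by
    rw [← hbo]
    exact (Subgroup.orderOf_dvd_natCard B hb'B)
  obtain ⟨q, hq, hqs, hqB⟩ := h.symm.exists_prime_ne s
  have _ : Fact q.Prime := ⟨hq⟩
  have hcommon := h.common hH1 hHp hHn hqB
  have hb'syl : b ^ k ∈ syl B s := by
    apply mem_syl_of_orderOf B s hb'B (k := 1)
    rw [pow_one, ← hbo]; exact pow_orderOf_eq_one _
  have h1 : Subgroup.zpowers (z ^ j) ⊔ syl B q ≤ Subgroup.centralizer ({b ^ k} : Set G) := by
    apply sup_le
    · rw [Subgroup.zpowers_le, Subgroup.mem_centralizer_iff]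
      intro y hy
      rw [Set.mem_singleton_iff] at hy
      subst hy
      exact hcomm.eq
    · intro x hx
      rw [Subgroup.mem_centralizer_iff]
      intro y hy
      rw [Set.mem_singleton_iff] at hy
      subst hy
      exact (syl_commute B q hqs hx hb'syl).symm
  rw [hcommon] at h1
  apply hb'1
  apply h.center_eq
  intro g
  have := h1 (Subgroup.mem_top g)
  rw [Subgroup.mem_centralizer_iff] at this
  exact (this _ rfl).symm

/-- (γ): if `g z g⁻¹ ∈ A_t` for a nontrivial central element `z` of `A`, then `g` normalizes `A_r`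
for `r ≠ t`. -/
theorem gamma (h : MinCE A B) {z g : G} (hzA : z ∈ A) (hzc : ∀ a ∈ A, a * z = z * a)
    (hz1 : z ≠ 1) {t r : ℕ} [Fact t.Prime] [Fact r.Prime] (htr : r ≠ t)
    (hgz : g * z * g⁻¹ ∈ syl A t) : g ∈ Subgroup.normalizer ((syl A r : Subgroup G) : Set G) := by
  have _ := h.nilA
  have h1 : cj g⁻¹ (syl A r) ≤ syl A r := by
    apply le_syl A r
    · intro y hy
      rw [mem_cj, inv_inv] at hy
      -- hy : g * y * g⁻¹ ∈ syl A r
      have h2 := syl_commute A r htr hy hgz
      apply h.alpha hzA hzc hz1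
      have h3 : g⁻¹ * (g * y * g⁻¹ * (g * z * g⁻¹)) * g = y * z := by group
      have h4 : g⁻¹ * (g * z * g⁻¹ * (g * y * g⁻¹)) * g = z * y := by group
      rw [← h3, ← h4, h2]
    · exact (syl_isPGroup A r).map _
  have h2 : cj g⁻¹ (syl A r) = syl A r :=
    Subgroup.eq_of_le_of_card_ge h1 (by rw [card_cj])
  have h3 := cj_eq_self_iff.mp h2
  have := inv_mem h3
  rwa [inv_inv] at this

/-- Step 5: `N_G(A_r) ≤ N_G(A)`. -/
theorem normalizer_syl_le (h : MinCE A B) {r : ℕ} [Fact r.Prime] (hrA : r ∣ Nat.card A) :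
    Subgroup.normalizer ((syl A r : Subgroup G) : Set G) ≤ Subgroup.normalizer (A : Set G) := by
  have _ := h.nilA
  intro g hg
  obtain ⟨z, hzM, hzc, hz1⟩ := exists_central_mem (syl_le A r) (syl_ne_bot A r hrA)
    (le_normalizer_syl A r)
  have hgz : g * z * g⁻¹ ∈ syl A r := by
    rw [Subgroup.mem_normalizer_iff] at hg
    exact (hg z).mp hzM
  have h1 : ∀ t : ℕ, t.Prime → cj g (syl A t) = syl A t := by
    intro t ht
    have _ : Fact t.Prime := ⟨ht⟩
    rw [cj_eq_self_iff]
    by_cases htr : t = r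
    · subst htr; exact hg
    · exact h.gamma (syl_le A r hzM) hzc hz1 htr hgz
  have h2 : A ≤ cj g A := by
    apply le_of_syl_le A
    intro t ht _
    rw [← h1 t ht]
    exact cj_mono g (syl_le A t)
  have h3 : A = cj g A := Subgroup.eq_of_le_of_card_ge h2 (by rw [card_cj])
  rw [← cj_eq_self_iff]
  exact h3.symm

/-- (γ'): if `g z g⁻¹ ∈ A_t` for a nontrivial central element `z` of `A`, then `g` normalizes `A`. -/
theorem gamma' (h : MinCE A B) {z g : G} (hzA : z ∈ A) (hzc : ∀ a ∈ A, a * z = z * a)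
    (hz1 : z ≠ 1) {t : ℕ} [Fact t.Prime] (hgz : g * z * g⁻¹ ∈ syl A t) :
    g ∈ Subgroup.normalizer (A : Set G) := by
  obtain ⟨r, hr, hrt, hrA⟩ := h.exists_prime_ne t
  have _ : Fact r.Prime := ⟨hr⟩
  exact h.normalizer_syl_le hrA (h.gamma hzA hzc hz1 hrt hgz)

/-- (β): every proper subgroup containing `A` normalizes `A`. -/
theorem beta (h : MinCE A B) {X : Subgroup G} (hAX : A ≤ X) (hX : X ≠ ⊤) :
    X ≤ Subgroup.normalizer (A : Set G) := by
  have _ := h.nilA
  have _ := h.nilB
  have hfX := h.fzd_of_le hAX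
  have hsX := h.ih X hX hfX
  have hX1 : X ≠ ⊥ := fun e => h.A_ne_bot (eq_bot_iff.mpr (e ▸ hAX))
  obtain ⟨t, M, ht, hMX, hM1, hMt, hXM⟩ := exists_normal_pSubgroup_rel X hsX hX1
  have _ : Fact t.Prime := ⟨ht⟩
  have hcardX := h.card_fzd hfX
  rw [inf_of_le_left hAX] at hcardX
  by_cases htA : t ∣ Nat.card A
  · have hMA : M ≤ A := by
      apply pSubgroup_le_of_card hMt hMX hXM hAX hcardX
      intro hd
      exact h.not_dvd_card_B ht htA (hd.trans (Subgroup.card_dvd_of_le inf_le_left))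
    have hMsyl : M ≤ syl A t := le_syl A t hMA hMt
    obtain ⟨z, hzM, hzc, hz1⟩ := exists_central_mem hMA hM1 (hAX.trans hXM)
    intro g hg
    apply h.gamma' (hMA hzM) hzc hz1 (t := t)
    apply hMsyl
    have := hXM hg
    rw [Subgroup.mem_normalizer_iff] at this
    exact (this z).mp hzM
  · exfalso
    have hMB : M ≤ B ⊓ X := by
      apply pSubgroup_le_of_card hMt hMX hXM inf_le_right (k := Nat.card A)
        (by rw [hcardX, mul_comm]) htA
    obtain ⟨w, hwB, hwc, hw1⟩ := exists_central_mem (le_refl B) h.symm.A_ne_bot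
      Subgroup.le_normalizer
    have hK1 : Subgroup.zpowers w ≠ ⊥ := by
      rw [Ne, Subgroup.zpowers_eq_bot]; exact hw1
    have hKn : B ≤ Subgroup.normalizer ((Subgroup.zpowers w : Subgroup G) : Set G) :=
      fun b hb => Subgroup.centralizer_le_normalizer _
        (zpowers_le_centralizer_of_commute (hwc b hb))
    have hKM : Subgroup.zpowers w ≤ Subgroup.normalizer (M : Set G) := by
      rw [Subgroup.zpowers_le]
      apply Subgroup.centralizer_le_normalizer
      rw [Subgroup.mem_centralizer_iff]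
      intro m hm
      exact hwc m (hMB hm).1
    have h1 : Subgroup.zpowers w ⊔ A ≤ Subgroup.normalizer (M : Set G) :=
      sup_le hKM (hAX.trans hXM)
    rw [h.symm.S2 hK1 hKn, top_le_iff] at h1
    exact h.kill hM1 hMt h1

end MinCE

end Cfsg.Agent.Lib.Helper71
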