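import Mathlib
import Cfsg.Agent.Lib.Helper71.W51Steps2
import Cfsg.Agent.S0023

/-!
Wielandt's theorem (coprime case): centralizers of elements of prime order of `A`.
-/

set_option autoImplicit false

namespace Cfsg.Agent.Lib.Helper71

open Pointwise

variable {G : Type*} [Group G]

theorem exists_pow_eq_one_of_mem {p : ℕ} {S : Subgroup G} (hS : IsPGroup p S) {z : G}
    (hz : z ∈ S) : ∃ k : ℕ, z ^ (p ^ k) = 1 := by
  obtain ⟨k, hk⟩ := hS ⟨z, hz⟩
  exact ⟨k, by simpa using congrArg Subtype.val hk⟩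

/-- Sylow's theorem: a `s`-subgroup lies in a conjugate of any subgroup `S` which is an `s`-group of
index prime to `s`. -/
theorem exists_le_cj_of_isPGroup [Finite G] {s : ℕ} [Fact s.Prime] {S Ks : Subgroup G}
    (hS : IsPGroup s S) (hSi : ¬ s ∣ S.index) (hK : IsPGroup s Ks) : ∃ g : G, Ks ≤ cj g S := by
  obtain ⟨Q', hQ'⟩ := hK.exists_le_sylow
  obtain ⟨g, hg⟩ := MulAction.exists_smul_eq G (hS.toSylow hSi) Q'
  refine ⟨g, ?_⟩
  have h1 : (Q' : Subgroup G) = MulAut.conj g • S := by
    rw [← hg, Sylow.coe_subgroup_smul, IsPGroup.toSylow_coe]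
  rw [h1] at hQ'
  exact hQ'

/-- Normalizers grow in `p`-groups. -/
theorem exists_mem_normalizer_not_mem_of_lt [Finite G] {p : ℕ} [Fact p.Prime] {D P : Subgroup G}
    (hP : IsPGroup p P) (hDP : D < P) :
    ∃ u ∈ P, u ∉ D ∧ u ∈ Subgroup.normalizer (D : Set G) := by
  have _ := hP.isNilpotent
  have hnc : NormalizerCondition P := Group.normalizerCondition_of_isNilpotent
  have h1 : D.subgroupOf P < ⊤ := by
    rw [lt_top_iff_ne_top]
    intro e
    rw [Subgroup.subgroupOf_eq_top] at e
    exact (not_le_of_gt hDP) e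
  have h2 := hnc _ h1
  obtain ⟨u, hu, hu'⟩ := SetLike.exists_of_lt h2
  refine ⟨u, u.2, fun hd => hu' (Subgroup.mem_subgroupOf.mpr hd), ?_⟩
  have h3 := mem_normalizer_map_subtype_of_mem hu
  rwa [Subgroup.subgroupOf_map_subtype, inf_of_le_left hDP.le] at h3

/-- If the normalizer in `C` of the Sylow `p`-subgroup of the nilpotent subgroup `H` lies in `H`,
that Sylow subgroup is a Sylow subgroup of `C`. -/
theorem syl_relIndex_of_normalizer [Finite G] {p : ℕ} [Fact p.Prime] {C H : Subgroup G}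
    [Group.IsNilpotent H] (hHC : H ≤ C)
    (hnorm : ∀ u ∈ C, u ∈ Subgroup.normalizer ((syl H p : Subgroup G) : Set G) → u ∈ H) :
    ¬ p ∣ (syl H p).relIndex C := by
  have hDC : syl H p ≤ C := (syl_le H p).trans hHC
  have h1 : IsPGroup p ((syl H p).subgroupOf C) :=
    (syl_isPGroup H p).comap_of_injective C.subtype C.subtype_injective
  obtain ⟨P, hP⟩ := h1.exists_le_sylow
  have hDP : syl H p ≤ (P : Subgroup C).map C.subtype := by
    intro x hx
    exact ⟨⟨x, hDC hx⟩, hP (Subgroup.mem_subgroupOf.mpr hx), rfl⟩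
  have hPp : IsPGroup p ((P : Subgroup C).map C.subtype) := P.isPGroup'.map _
  rcases eq_or_lt_of_le hDP with heq | hlt
  · rw [heq, Subgroup.relIndex, Subgroup.subgroupOf,
      Subgroup.comap_map_eq_self_of_injective C.subtype_injective]
    exact P.not_dvd_index
  · exfalso
    obtain ⟨u, huP, huD, hun⟩ := exists_mem_normalizer_not_mem_of_lt hPp hlt
    have huC : u ∈ C := Subgroup.map_subtype_le _ huP
    have huH := hnorm u huC hun
    obtain ⟨k, hk⟩ := exists_pow_eq_one_of_mem hPp huP
    exact huD (mem_syl_of_orderOf H p huH hk)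

namespace MinCE

variable [Finite G] {A B : Subgroup G}

/-- Step 7: the centralizer of an element of prime order of `N_A(B)` normalizes `A`. -/
theorem S7 (h : MinCE A B) {a : G} (haA : a ∈ A) (haN : a ∈ Subgroup.normalizer (B : Set G))
    {p : ℕ} (hp : p.Prime) (hao : orderOf a = p) :
    Subgroup.centralizer ({a} : Set G) ≤ Subgroup.normalizer (A : Set G) := by
  have _ := h.nilA
  have _ := h.nilB
  have _ : Fact p.Prime := ⟨hp⟩
  have ha1 : a ≠ 1 := by
    intro e
    rw [e, orderOf_one] at hao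
    exact hp.one_lt.ne' hao.symm
  have hmemC : ∀ {g : G}, g ∈ Subgroup.centralizer ({a} : Set G) ↔ a * g = g * a := by
    intro g
    rw [Subgroup.mem_centralizer_iff]
    constructor
    · intro hg; exact hg a rfl
    · intro hg y hy
      rw [Set.mem_singleton_iff] at hy
      subst hy; exact hg
  -- C is factorized
  have hfC : Fzd A B (Subgroup.centralizer ({a} : Set G)) := by
    intro g hg
    obtain ⟨a', ha', b, hb, rfl⟩ := h.fact g
    have hg' := hmemC.mp hg
    have h1 : b * a * b⁻¹ = a'⁻¹ * a * a' := by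
      have : a * (a' * b) * b⁻¹ = a' * b * a * b⁻¹ := by rw [hg']
      calc b * a * b⁻¹ = a'⁻¹ * (a' * b * a * b⁻¹) := by group
        _ = a'⁻¹ * (a * (a' * b) * b⁻¹) := by rw [this]
        _ = a'⁻¹ * a * a' := by group
    have h2 : b * a * b⁻¹ * a⁻¹ ∈ A ⊓ B := by
      refine Subgroup.mem_inf.mpr ⟨?_, ?_⟩
      · rw [h1]
        exact mul_mem (mul_mem (mul_mem (inv_mem ha') haA) ha') (inv_mem haA)
      · rw [Subgroup.mem_normalizer_iff] at haN
        have h3 : a * b⁻¹ * a⁻¹ ∈ B := (haN b⁻¹).mp (inv_mem hb)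
        have : b * a * b⁻¹ * a⁻¹ = b * (a * b⁻¹ * a⁻¹) := by group
        rw [this]
        exact mul_mem hb h3
    rw [h.inf_eq_bot, Subgroup.mem_bot] at h2
    have hba : a * b = b * a := by
      have : b * a = (b * a * b⁻¹ * a⁻¹) * (a * b) := by group
      rw [this, h2, one_mul]
    have hbC : b ∈ Subgroup.centralizer ({a} : Set G) := hmemC.mpr hba
    have ha'C : a' ∈ Subgroup.centralizer ({a} : Set G) := by
      have : a' = (a' * b) * b⁻¹ := by group
      rw [this]
      exact mul_mem hg (inv_mem hbC)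
    exact ⟨a', Subgroup.mem_inf.mpr ⟨ha', ha'C⟩, b, Subgroup.mem_inf.mpr ⟨hb, hbC⟩, rfl⟩
  have hC : Subgroup.centralizer ({a} : Set G) ≠ ⊤ := by
    intro e
    apply ha1
    apply h.center_eq
    intro g
    have : g ∈ Subgroup.centralizer ({a} : Set G) := e ▸ Subgroup.mem_top g
    exact (hmemC.mp this).symm
  have hsC := h.ih _ hC hfC
  have hcardC := h.card_fzd hfC
  set C := Subgroup.centralizer ({a} : Set G) with hCdef
  obtain ⟨r, hr, hrp, hrA⟩ := h.exists_prime_ne p
  have _ : Fact r.Prime := ⟨hr⟩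
  have hasyl : a ∈ syl A p := by
    apply mem_syl_of_orderOf A p haA (k := 1)
    rw [pow_one, ← hao]; exact pow_orderOf_eq_one _
  have hsylC : ∀ t : ℕ, [Fact t.Prime] → t ≠ p → syl A t ≤ C := by
    intro t _ htp x hx
    exact hmemC.mpr (syl_commute A t htp hx hasyl).symm
  have hRC : syl A r ≤ C := hsylC r hrp
  have hBdvd : Nat.card (B ⊓ C : Subgroup G) ∣ Nat.card B := Subgroup.card_dvd_of_le inf_le_left
  have hAdvd : Nat.card (A ⊓ C : Subgroup G) ∣ Nat.card A := Subgroup.card_dvd_of_le inf_le_left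
  -- normal t-subgroups of C
  have hleA : ∀ (t : ℕ) [Fact t.Prime] (M : Subgroup G), t ∣ Nat.card A → M ≤ C → IsPGroup t M →
      C ≤ Subgroup.normalizer (M : Set G) → M ≤ syl A t := by
    intro t _ M htA hMC hMt hCM
    have hMA : M ≤ A ⊓ C := by
      apply pSubgroup_le_of_card hMt hMC hCM inf_le_right hcardC
      intro hd
      exact h.not_dvd_card_B Fact.out htA (hd.trans hBdvd)
    exact le_syl A t (hMA.trans inf_le_left) hMt
  have hbot : ∀ (t : ℕ) [Fact t.Prime] (M : Subgroup G), ¬ t ∣ Nat.card A → M ≤ C →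
      IsPGroup t M → C ≤ Subgroup.normalizer (M : Set G) → M = ⊥ := by
    intro t _ M htA hMC hMt hCM
    by_contra hM1
    have hMB : M ≤ B ⊓ C := by
      apply pSubgroup_le_of_card hMt hMC hCM inf_le_right (k := Nat.card (A ⊓ C : Subgroup G))
        (by rw [hcardC, mul_comm])
      intro hd
      exact htA (hd.trans hAdvd)
    have hMsyl : M ≤ syl B t := le_syl B t (hMB.trans inf_le_left) hMt
    obtain ⟨q, hq, hqt, hqB⟩ := h.symm.exists_prime_ne t
    have _ : Fact q.Prime := ⟨hq⟩
    have h1 : syl A r ⊔ syl B q ≤ Subgroup.normalizer (M : Set G) :=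
      sup_le (hRC.trans hCM) (syl_le_normalizer_of_le B q hqt hMsyl)
    rw [h.S3 hrA hqB, top_le_iff] at h1
    exact h.kill hM1 hMt h1
  obtain ⟨M, hM1, hMC, hMr, hCM⟩ := exists_normal_rSubgroup_rel (X := C) (R := syl A r) hsC hRC
    (syl_ne_bot A r hrA) (syl_isPGroup A r) (by
      intro t ht htr M hMC hMt hCM
      have _ : Fact t.Prime := ⟨ht⟩
      by_cases htA : t ∣ Nat.card A
      · have hMs := hleA t M htA hMC hMt hCM
        intro x hx
        rw [Subgroup.mem_centralizer_iff]
        intro m hm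
        exact (syl_commute A r (Ne.symm htr) hx (hMs hm)).symm
      · rw [hbot t M htA hMC hMt hCM]
        intro x _
        rw [Subgroup.mem_centralizer_iff]
        intro m hm
        rw [Subgroup.coe_bot, Set.mem_singleton_iff] at hm
        rw [hm, one_mul, mul_one])
  have hMs : M ≤ syl A r := hleA r M hrA hMC hMr hCM
  have hAM : A ≤ Subgroup.normalizer (M : Set G) := by
    apply le_of_syl_le A
    intro t ht _
    have _ : Fact t.Prime := ⟨ht⟩
    by_cases htr : t = r
    · subst htr; exact hRC.trans hCM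
    · exact syl_le_normalizer_of_le A t htr hMs
  have hX : Subgroup.normalizer (M : Set G) ≠ ⊤ := fun e => h.kill hM1 hMr e
  exact hCM.trans (h.beta hAM hX)

end MinCE

end Cfsg.Agent.Lib.Helper71
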