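import Mathlib
import Cfsg.Agent.Lib.Helper71.W51Steps3

/-!
Wielandt's theorem (coprime case): Step 8, the centralizer of an element of prime order of `A`
normalizes `A`; and `A` is a TI-subgroup.
-/

set_option autoImplicit false

namespace Cfsg.Agent.Lib.Helper71

open Pointwise

variable {G : Type*} [Group G]

theorem orderOf_conj' (y x : G) : orderOf (y * x * y⁻¹) = orderOf x := by
  have := orderOf_injective (MulAut.conj y).toMonoidHom (MulAut.conj y).injective x
  simpa using this

theorem cj_top (a : G) : cj a (⊤ : Subgroup G) = ⊤ :=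
  eq_top_iff.mpr (fun _ _ => mem_cj.mpr (Subgroup.mem_top _))

theorem mem_centralizer_singleton {x g : G} :
    g ∈ Subgroup.centralizer ({x} : Set G) ↔ x * g = g * x := by
  rw [Subgroup.mem_centralizer_iff]
  constructor
  · intro hg; exact hg x rfl
  · intro hg y hy
    rw [Set.mem_singleton_iff] at hy
    subst hy; exact hg

theorem conj_mem_centralizer_singleton {x g : G} (y : G)
    (hg : g ∈ Subgroup.centralizer ({x} : Set G)) :
    y * g * y⁻¹ ∈ Subgroup.centralizer ({y * x * y⁻¹} : Set G) := by
  rw [mem_centralizer_singleton] at hg ⊢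
  calc y * x * y⁻¹ * (y * g * y⁻¹) = y * (x * g) * y⁻¹ := by group
    _ = y * (g * x) * y⁻¹ := by rw [hg]
    _ = y * g * y⁻¹ * (y * x * y⁻¹) := by group

namespace MinCE

variable [Finite G] {A B : Subgroup G}

/-- Step 8: the centralizer of an element of prime order of `A` normalizes `A`. -/
theorem S8 (h : MinCE A B) {x : G} (hxA : x ∈ A) {p : ℕ} (hp : p.Prime) (hxo : orderOf x = p) :
    Subgroup.centralizer ({x} : Set G) ≤ Subgroup.normalizer (A : Set G) := by
  have _ := h.nilA
  have _ := h.nilB
  have _ : Fact p.Prime := ⟨hp⟩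
  by_cases hcase : ∃ y ∈ Subgroup.normalizer (A : Set G),
      y * x * y⁻¹ ∈ Subgroup.normalizer (B : Set G)
  · obtain ⟨y, hy, hyx⟩ := hcase
    have hx'A : y * x * y⁻¹ ∈ A := ((Subgroup.mem_normalizer_iff.mp hy) x).mp hxA
    have hx'o : orderOf (y * x * y⁻¹) = p := by rw [orderOf_conj', hxo]
    have h7 := h.S7 hx'A hyx hp hx'o
    intro g hg
    have h8 := h7 (conj_mem_centralizer_singleton y hg)
    have : g = y⁻¹ * (y * g * y⁻¹) * y := by group
    rw [this]
    exact mul_mem (mul_mem (inv_mem hy) h8) hy
  · push Not at hcase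
    have hAN1 : A ≤ Subgroup.normalizer (A : Set G) := Subgroup.le_normalizer
    have hfN1 := h.fzd_of_le hAN1
    have hcardN1 := h.card_fzd hfN1
    rw [inf_of_le_left hAN1] at hcardN1
    have hB0dvd : Nat.card (B ⊓ Subgroup.normalizer (A : Set G) : Subgroup G) ∣ Nat.card B :=
      Subgroup.card_dvd_of_le inf_le_left
    have hcopAB0 : (Nat.card A).Coprime
        (Nat.card (B ⊓ Subgroup.normalizer (A : Set G) : Subgroup G)) :=
      Nat.Coprime.coprime_dvd_right hB0dvd h.cop
    have hrel : A.relIndex (Subgroup.normalizer (A : Set G)) =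
        Nat.card (B ⊓ Subgroup.normalizer (A : Set G) : Subgroup G) :=
      relIndex_eq_of_card hAN1 hcardN1
    -- (a) elements of C ∩ N1 lie in A
    have hclaimA : ∀ u : G, u ∈ Subgroup.centralizer ({x} : Set G) →
        u ∈ Subgroup.normalizer (A : Set G) → u ∈ A := by
      intro u huC huN
      have hv1 : u ^ Nat.card A = 1 := by
        by_contra hv
        obtain ⟨s, k, hs, hvo⟩ := exists_prime_order_pow hv
        have hv'N : (u ^ Nat.card A) ^ k ∈ Subgroup.normalizer (A : Set G) :=
          pow_mem (pow_mem huN _) _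
        have hv'C : (u ^ Nat.card A) ^ k ∈ Subgroup.centralizer ({x} : Set G) :=
          pow_mem (pow_mem huC _) _
        have hsB0 : s ∣ Nat.card (B ⊓ Subgroup.normalizer (A : Set G) : Subgroup G) := by
          rw [← hvo]
          apply orderOf_dvd_of_pow_eq_one
          have h1 : u ^ Nat.card (Subgroup.normalizer (A : Set G)) = 1 :=
            orderOf_dvd_iff_pow_eq_one.mp (Subgroup.orderOf_dvd_natCard _ huN)
          rw [← pow_mul, ← pow_mul]
          have : Nat.card A * (k * Nat.card (B ⊓ Subgroup.normalizer (A : Set G) : Subgroup G)) =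
              Nat.card (Subgroup.normalizer (A : Set G)) * k := by
            rw [hcardN1]; ring
          rw [this, pow_mul, h1, one_pow]
        have hcop : (Nat.card A).Coprime (orderOf ((u ^ Nat.card A) ^ k)) := by
          rw [hvo]; exact Nat.Coprime.coprime_dvd_right hsB0 hcopAB0
        obtain ⟨y, hyA, hyb⟩ := conj_into_complement hAN1 inf_le_right le_rfl
          (inferInstance : Group.IsSolvable A) hcardN1 hcopAB0
          (fun g hg => by
            obtain ⟨b, hb, a, ha, e⟩ := hfN1.symm g hg
            exact ⟨b, hb, a, ha.1, e⟩) hv'N hcop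
        have hbo : orderOf (y * (u ^ Nat.card A) ^ k * y⁻¹) = s := by rw [orderOf_conj', hvo]
        have h7 := h.symm.S7 (Subgroup.mem_inf.mp hyb).1 (Subgroup.mem_inf.mp hyb).2 hs hbo
        have h8 : y * x * y⁻¹ ∈
            Subgroup.centralizer ({y * (u ^ Nat.card A) ^ k * y⁻¹} : Set G) := by
          apply conj_mem_centralizer_singleton
          rw [mem_centralizer_singleton]
          exact (mem_centralizer_singleton.mp hv'C).symm
        exact hcase y (hAN1 hyA) (h7 h8)
      have hord : orderOf u ∣ Nat.card A := orderOf_dvd_of_pow_eq_one hv1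
      apply mem_of_coprime_relIndex hAN1 le_rfl huN
      rw [hrel]
      exact (Nat.Coprime.coprime_dvd_left hord hcopAB0).symm
    -- (b) H = A ⊓ C
    have hnilH : Group.IsNilpotent (A ⊓ Subgroup.centralizer ({x} : Set G) : Subgroup G) :=
      isNilpotent_of_le inf_le_left
    obtain ⟨r, hr, hrp, hrA⟩ := h.exists_prime_ne p
    have _ : Fact r.Prime := ⟨hr⟩
    have hxsyl : x ∈ syl A p := by
      apply mem_syl_of_orderOf A p hxA (k := 1)
      rw [pow_one, ← hxo]; exact pow_orderOf_eq_one _
    have hsylH : ∀ t : ℕ, [Fact t.Prime] → t ≠ p →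
        syl A t ≤ A ⊓ Subgroup.centralizer ({x} : Set G) := by
      intro t _ htp y hy
      exact Subgroup.mem_inf.mpr ⟨syl_le A t hy,
        mem_centralizer_singleton.mpr (syl_commute A t htp hy hxsyl).symm⟩
    have hxH : x ∈ A ⊓ Subgroup.centralizer ({x} : Set G) :=
      Subgroup.mem_inf.mpr ⟨hxA, mem_centralizer_singleton.mpr rfl⟩
    have hpH : p ∣ Nat.card (A ⊓ Subgroup.centralizer ({x} : Set G) : Subgroup G) :=
      hxo ▸ Subgroup.orderOf_dvd_natCard _ hxH
    have hrH : r ∣ Nat.card (A ⊓ Subgroup.centralizer ({x} : Set G) : Subgroup G) :=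
      (dvd_card_of_isPGroup_ne_bot r (syl_isPGroup A r) (syl_ne_bot A r hrA)).trans
        (Subgroup.card_dvd_of_le (hsylH r hrp))
    have hnotp : ∀ t : ℕ, t.Prime →
        ¬ IsPGroup t (A ⊓ Subgroup.centralizer ({x} : Set G) : Subgroup G) := by
      intro t ht hHt
      have _ : Fact t.Prime := ⟨ht⟩
      obtain ⟨n, hn⟩ := (IsPGroup.iff_card).mp hHt
      rw [hn] at hpH hrH
      have e1 := (Nat.prime_dvd_prime_iff_eq hp ht).mp (hp.dvd_of_dvd_pow hpH)
      have e2 := (Nat.prime_dvd_prime_iff_eq hr ht).mp (hr.dvd_of_dvd_pow hrH)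
      exact hrp (e2.trans e1.symm)
    -- (c)
    have hnorm : ∀ t : ℕ, t.Prime →
        t ∣ Nat.card (A ⊓ Subgroup.centralizer ({x} : Set G) : Subgroup G) →
        ∀ u ∈ Subgroup.centralizer ({x} : Set G),
        u ∈ Subgroup.normalizer
          ((syl (A ⊓ Subgroup.centralizer ({x} : Set G)) t : Subgroup G) : Set G) →
        u ∈ A ⊓ Subgroup.centralizer ({x} : Set G) := by
      intro t ht htH u huC hun
      have _ : Fact t.Prime := ⟨ht⟩
      have htA : t ∣ Nat.card A := htH.trans (Subgroup.card_dvd_of_le inf_le_left)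
      suffices huN : u ∈ Subgroup.normalizer (A : Set G) from
        Subgroup.mem_inf.mpr ⟨hclaimA u huC huN, huC⟩
      have hle : syl (A ⊓ Subgroup.centralizer ({x} : Set G)) t ≤ syl A t :=
        le_syl A t ((syl_le _ t).trans inf_le_left) (syl_isPGroup _ t)
      by_cases htp : t = p
      · subst htp
        obtain ⟨z, hzM, hzc, hz1⟩ := exists_central_mem (syl_le A t) (syl_ne_bot A t htA)
          (le_normalizer_syl A t)
        have hzA := syl_le A t hzM
        have hzH : z ∈ A ⊓ Subgroup.centralizer ({x} : Set G) :=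
          Subgroup.mem_inf.mpr ⟨hzA, mem_centralizer_singleton.mpr (hzc x hxA)⟩
        have hzsH : z ∈ syl (A ⊓ Subgroup.centralizer ({x} : Set G)) t := by
          obtain ⟨k, hk⟩ := exists_pow_eq_one_of_mem (syl_isPGroup A t) hzM
          exact mem_syl_of_orderOf _ t hzH hk
        have h1 : u * z * u⁻¹ ∈ syl (A ⊓ Subgroup.centralizer ({x} : Set G)) t :=
          ((Subgroup.mem_normalizer_iff.mp hun) z).mp hzsH
        exact h.gamma' hzA hzc hz1 (hle h1)
      · have h1 : syl (A ⊓ Subgroup.centralizer ({x} : Set G)) t = syl A t :=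
          le_antisymm hle (le_syl _ t (hsylH t htp) (syl_isPGroup A t))
        rw [h1] at hun
        exact h.normalizer_syl_le htA hun
    -- (d)
    obtain ⟨K, hKC, hCK, hKH, hcardK⟩ := normal_complement_rel
      (C := Subgroup.centralizer ({x} : Set G)) (H := A ⊓ Subgroup.centralizer ({x} : Set G))
      inf_le_right hnotp hnorm
    -- (e)
    have hK : K = ⊥ := by
      by_contra hK1
      have he1 : ∀ t : ℕ, t.Prime → t ∣ Nat.card A → ¬ t ∣ Nat.card K := by
        intro t ht htA htK
        have _ : Fact t.Prime := ⟨ht⟩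
        have htH : t ∣ Nat.card (A ⊓ Subgroup.centralizer ({x} : Set G) : Subgroup G) := by
          by_cases htp : t = p
          · rw [htp]; exact hpH
          · exact (dvd_card_of_isPGroup_ne_bot t (syl_isPGroup A t) (syl_ne_bot A t htA)).trans
              (Subgroup.card_dvd_of_le (hsylH t htp))
        have h1 := syl_relIndex_of_normalizer (p := t) (C := Subgroup.centralizer ({x} : Set G))
          (H := A ⊓ Subgroup.centralizer ({x} : Set G)) inf_le_right (hnorm t ht htH)
        have h2 : (A ⊓ Subgroup.centralizer ({x} : Set G)).relIndex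
            (Subgroup.centralizer ({x} : Set G)) = Nat.card K :=
          relIndex_eq_of_card inf_le_right (by rw [← hcardK, mul_comm])
        apply h1
        rw [← Subgroup.relIndex_mul_relIndex _ _ _ (syl_le _ t) inf_le_right, h2]
        exact htK.mul_left _
      have hK1' : Nat.card K ≠ 1 := fun e => hK1 (Subgroup.card_eq_one.mp e)
      obtain ⟨s, hs, hsK⟩ := Nat.exists_prime_and_dvd hK1'
      have _ : Fact s.Prime := ⟨hs⟩
      have hsA : ¬ s ∣ Nat.card A := fun hsA => he1 s hs hsA hsK
      have hsB : s ∣ Nat.card B := by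
        have : s ∣ Nat.card G := hsK.trans ((Subgroup.card_dvd_of_le hKC).trans
          (Subgroup.card_subgroup_dvd_card _))
        rw [h.card_eq] at this
        exact (hs.dvd_mul.mp this).resolve_left hsA
      have hRC : syl A r ≤ Subgroup.centralizer ({x} : Set G) := (hsylH r hrp).trans inf_le_right
      have hcopRK : (Nat.card (syl A r)).Coprime (Nat.card K) :=
        coprime_card_of_isPGroup r (syl_isPGroup A r) (he1 r hr hrA)
      have hsolR : Group.IsSolvable (syl A r) := by
        have := (syl_isPGroup A r).isNilpotent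
        infer_instance
      obtain ⟨P, hP⟩ := Cfsg.Agent.S0023.result (syl A r) K (hRC.trans hCK) hcopRK (Or.inl hsolR) s
      have hKs1 : (P : Subgroup K).map K.subtype ≠ ⊥ := by
        intro e
        have h1 : Nat.card ((P : Subgroup K).map K.subtype : Subgroup G) = 1 := by
          rw [e, Subgroup.card_bot]
        rw [Subgroup.card_map_of_injective K.subtype_injective, P.card_eq_multiplicity] at h1
        have hpos : 0 < (Nat.card K).factorization s :=
          hs.factorization_pos_of_dvd Nat.card_pos.ne' hsK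
        have := Nat.one_lt_pow hpos.ne' hs.one_lt
        omega
      have hKss : IsPGroup s ((P : Subgroup K).map K.subtype : Subgroup G) := P.isPGroup'.map _
      obtain ⟨g, hg⟩ := exists_le_cj_of_isPGroup (syl_isPGroup B s) (h.symm.sylA_index hsB) hKss
      obtain ⟨t, ht, hts, htB⟩ := h.symm.exists_prime_ne s
      have _ : Fact t.Prime := ⟨ht⟩
      have hcent : cj g (syl B t) ≤
          Subgroup.normalizer (((P : Subgroup K).map K.subtype : Subgroup G) : Set G) := by
        intro y hy
        apply Subgroup.centralizer_le_normalizer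
        rw [Subgroup.mem_centralizer_iff]
        intro m hm
        have hm' := hg hm
        rw [mem_cj] at hy hm'
        have h1 := syl_commute B t hts hy hm'
        calc m * y = g * ((g⁻¹ * m * g) * (g⁻¹ * y * g)) * g⁻¹ := by group
          _ = g * ((g⁻¹ * y * g) * (g⁻¹ * m * g)) * g⁻¹ := by rw [h1]
          _ = y * m := by group
      have htop : syl A r ⊔ cj g (syl B t) = ⊤ := by
        obtain ⟨a, ha, b, hb, rfl⟩ := h.fact g
        rw [cj_mul, cj_eq_self_iff.mpr (le_normalizer_syl B t hb)]
        have h1 : cj a (syl A r) = syl A r := cj_eq_self_iff.mpr (le_normalizer_syl A r ha)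
        rw [← h1, ← cj_sup, h.S3 hrA htB, cj_top]
      have h1 : syl A r ⊔ cj g (syl B t) ≤
          Subgroup.normalizer (((P : Subgroup K).map K.subtype : Subgroup G) : Set G) :=
        sup_le hP hcent
      rw [htop, top_le_iff] at h1
      exact h.kill hKs1 hKss h1
    -- (f)
    rw [hK, Subgroup.card_bot, one_mul] at hcardK
    have hHC : A ⊓ Subgroup.centralizer ({x} : Set G) = Subgroup.centralizer ({x} : Set G) :=
      Subgroup.eq_of_le_of_card_ge inf_le_right hcardK.ge
    intro g hg
    rw [← hHC] at hg
    exact hAN1 (Subgroup.mem_inf.mp hg).1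

end MinCE

end Cfsg.Agent.Lib.Helper71
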