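import Mathlib
import Cfsg.Agent.Lib.Helper71.W51Steps4

/-!
Wielandt's theorem (coprime case): `A` and `B` are TI-subgroups, and the final count.
-/

set_option autoImplicit false

namespace Cfsg.Agent.Lib.Helper71

open Pointwise

variable {G : Type*} [Group G]

theorem conj_out_injective (N : Subgroup G) (S : Set G)
    (hS : ∀ g : G, ∀ s ∈ S, g * s * g⁻¹ ∈ S → g ∈ N) :
    Function.Injective
      (fun x : (G ⧸ N) × S => (x.1.out : G) * (x.2 : G) * (x.1.out : G)⁻¹) := by
  rintro ⟨q, s, hs⟩ ⟨q', s', hs'⟩ hx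
  simp only at hx
  have h1 : (q'.out⁻¹ * q.out) * s * (q'.out⁻¹ * q.out)⁻¹ = s' := by
    have : s' = q'.out⁻¹ * (q'.out * s' * q'.out⁻¹) * q'.out := by group
    rw [this, ← hx]; group
  have h2 : q'.out⁻¹ * q.out ∈ N := hS _ s hs (h1 ▸ hs')
  have h3 : q' = q := by
    rw [← QuotientGroup.out_eq' q', ← QuotientGroup.out_eq' q]
    exact QuotientGroup.eq.mpr h2
  subst h3
  have h4 : s = s' := by simpa using h1
  subst h4
  rfl

theorem count_arith {n m a b b0 s w t t0 : ℕ} (ha : 0 < a) (h1 : n * (a * b0) = a * b)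
    (h2 : s + w = a * b0) (h3 : w ≤ m * t0 + 1) (h4 : t0 + 1 = b0) (h5 : t + 1 = b)
    (h6 : n * s + (m * t + 1) ≤ a * b) : m * n + 1 ≤ m + n := by
  have e1 : n * b0 = b := by
    apply Nat.eq_of_mul_eq_mul_left ha
    rw [← h1]; ring
  have e2 : n * s + n * w = a * b := by
    rw [← h1, ← h2]; ring
  have e3 : n * w ≤ n * (m * t0 + 1) := Nat.mul_le_mul_left n h3
  have e4 : m * t + m = m * (n * (t0 + 1)) := by
    rw [h4, e1, ← h5]; ring
  have e5 : n * (m * t0 + 1) = m * n * t0 + n := by ring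
  have e6 : m * (n * (t0 + 1)) = m * n * t0 + m * n := by ring
  rw [e5] at e3
  rw [e6] at e4
  omega

namespace MinCE

variable [Finite G] {A B : Subgroup G}

theorem card_N1 (h : MinCE A B) : Nat.card (Subgroup.normalizer (A : Set G)) =
    Nat.card A * Nat.card (B ⊓ Subgroup.normalizer (A : Set G) : Subgroup G) := by
  have hAN1 : A ≤ Subgroup.normalizer (A : Set G) := Subgroup.le_normalizer
  have := h.card_fzd (h.fzd_of_le hAN1)
  rwa [inf_of_le_left hAN1] at this

theorem cop_B0 (h : MinCE A B) : (Nat.card A).Coprime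
    (Nat.card (B ⊓ Subgroup.normalizer (A : Set G) : Subgroup G)) :=
  Nat.Coprime.coprime_dvd_right (Subgroup.card_dvd_of_le inf_le_left) h.cop

theorem mem_A_of_mem_N1 (h : MinCE A B) {u : G} (hu : u ∈ Subgroup.normalizer (A : Set G))
    (ho : orderOf u ∣ Nat.card A) : u ∈ A := by
  have hAN1 : A ≤ Subgroup.normalizer (A : Set G) := Subgroup.le_normalizer
  apply mem_of_coprime_relIndex hAN1 le_rfl hu
  rw [relIndex_eq_of_card hAN1 h.card_N1]
  exact (Nat.Coprime.coprime_dvd_left ho h.cop_B0).symm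

/-- Step 9: `A` is a TI-subgroup. -/
theorem TI (h : MinCE A B) {g x : G} (hx1 : x ≠ 1) (hxA : x ∈ A) (hxg : x ∈ cj g A) :
    g ∈ Subgroup.normalizer (A : Set G) := by
  have _ := h.nilA
  obtain ⟨p, k, hp, hxo⟩ := exists_prime_order_pow hx1
  have hx'A : x ^ k ∈ A := pow_mem hxA k
  have hx'g : x ^ k ∈ cj g A := pow_mem hxg k
  obtain ⟨z, hzA, hzc, hz1⟩ := exists_central_mem (le_refl A) h.A_ne_bot Subgroup.le_normalizer
  obtain ⟨q, j, hq, hzo⟩ := exists_prime_order_pow hz1
  have hz'A : z ^ j ∈ A := pow_mem hzA j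
  have hz'c : ∀ a ∈ A, a * z ^ j = z ^ j * a := fun a ha =>
    ((show Commute a z from hzc a ha).pow_right j).eq
  have hzgo : orderOf (g * z ^ j * g⁻¹) = q := by rw [orderOf_conj', hzo]
  have hzgc : ∀ y ∈ cj g A, y * (g * z ^ j * g⁻¹) = (g * z ^ j * g⁻¹) * y := by
    intro y hy
    rw [mem_cj] at hy
    have := hz'c _ hy
    calc y * (g * z ^ j * g⁻¹) = g * ((g⁻¹ * y * g) * z ^ j) * g⁻¹ := by group
      _ = g * (z ^ j * (g⁻¹ * y * g)) * g⁻¹ := by rw [this]
      _ = g * z ^ j * g⁻¹ * y := by group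
  have h8 := h.S8 hx'A hp hxo
  have hzgN : g * z ^ j * g⁻¹ ∈ Subgroup.normalizer (A : Set G) :=
    h8 (mem_centralizer_singleton.mpr (hzgc _ hx'g))
  have hqA : q ∣ Nat.card A := hzo ▸ Subgroup.orderOf_dvd_natCard A hz'A
  have hzgA : g * z ^ j * g⁻¹ ∈ A := h.mem_A_of_mem_N1 hzgN (hzgo ▸ hqA)
  have h8' := h.S8 hzgA hq hzgo
  have hcjN : cj g A ≤ Subgroup.normalizer (A : Set G) :=
    fun y hy => h8' (mem_centralizer_singleton.mpr (hzgc y hy).symm)
  have hcjA : cj g A ≤ A := by
    intro y hy
    apply h.mem_A_of_mem_N1 (hcjN hy)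
    have := Subgroup.orderOf_dvd_natCard (cj g A) hy
    rwa [card_cj] at this
  have : cj g A = A := Subgroup.eq_of_le_of_card_ge hcjA (by rw [card_cj])
  exact cj_eq_self_iff.mp this

theorem conj_TI (h : MinCE A B) {g b : G} (hb1 : b ≠ 1) (hbA : b ∈ A) (hbg : g * b * g⁻¹ ∈ A) :
    g ∈ Subgroup.normalizer (A : Set G) := by
  have h1 : b ∈ cj g⁻¹ A := by
    rw [mem_cj, inv_inv]; exact hbg
  have := inv_mem (h.TI hb1 hbA h1)
  rwa [inv_inv] at this

/-- Step 10: the final count. -/
theorem false (h : MinCE A B) : False := by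
  classical
  have _ := h.nilA
  have _ := h.nilB
  have hcN1 := h.card_N1
  have hcN2 := h.symm.card_N1
  have hG := h.card_eq
  have hi1 := Subgroup.index_mul_card (Subgroup.normalizer (A : Set G))
  have hi2 := Subgroup.index_mul_card (Subgroup.normalizer (B : Set G))
  have hAN1 : A ≤ Subgroup.normalizer (A : Set G) := Subgroup.le_normalizer
  have hBN2 : B ≤ Subgroup.normalizer (B : Set G) := Subgroup.le_normalizer
  -- the sets
  set W : Set G := {u | u ∈ Subgroup.normalizer (A : Set G) ∧ (Nat.card A).Coprime (orderOf u)}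
    with hW
  set S : Set G := ((Subgroup.normalizer (A : Set G) : Subgroup G) : Set G) \ W with hS
  set T : Set G := (B : Set G) \ {1} with hT
  set T0 : Set G := ((B ⊓ Subgroup.normalizer (A : Set G) : Subgroup G) : Set G) \ {1} with hT0
  have hSW : S.ncard + W.ncard = Nat.card (Subgroup.normalizer (A : Set G)) :=
    Set.ncard_sdiff_add_ncard_of_subset (fun u hu => hu.1)
  have hTc : T.ncard + 1 = Nat.card B :=
    Set.ncard_sdiff_singleton_add_one (one_mem B)
  have hT0c : T0.ncard + 1 = Nat.card (B ⊓ Subgroup.normalizer (A : Set G) : Subgroup G) :=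
    Set.ncard_sdiff_singleton_add_one (one_mem _)
  -- conjugation properties
  have hSconj : ∀ g : G, ∀ s ∈ S, g * s * g⁻¹ ∈ S → g ∈ Subgroup.normalizer (A : Set G) := by
    intro g s hs hgs
    have hsN : s ∈ Subgroup.normalizer (A : Set G) := hs.1
    have hsW : ¬ (Nat.card A).Coprime (orderOf s) := fun hc => hs.2 ⟨hsN, hc⟩
    obtain ⟨p, hp, hpA, hps⟩ := Nat.Prime.not_coprime_iff_dvd.mp hsW
    have hxo : orderOf (s ^ (orderOf s / p)) = p :=
      orderOf_pow_orderOf_div (orderOf_pos s).ne' hps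
    have hxN : s ^ (orderOf s / p) ∈ Subgroup.normalizer (A : Set G) := pow_mem hsN _
    have hxA : s ^ (orderOf s / p) ∈ A := h.mem_A_of_mem_N1 hxN (by rw [hxo]; exact hpA)
    have hx1 : s ^ (orderOf s / p) ≠ 1 := by
      intro e
      rw [e, orderOf_one] at hxo
      exact hp.one_lt.ne' hxo.symm
    have hgx : g * s ^ (orderOf s / p) * g⁻¹ ∈ A := by
      apply h.mem_A_of_mem_N1
      · rw [← conj_pow]; exact pow_mem hgs.1 _
      · rw [orderOf_conj', hxo]; exact hpA
    exact h.conj_TI hx1 hxA hgx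
  have hTconj : ∀ g : G, ∀ b ∈ T, g * b * g⁻¹ ∈ T → g ∈ Subgroup.normalizer (B : Set G) := by
    intro g b hb hgb
    exact h.symm.conj_TI (fun e => hb.2 e) hb.1 hgb.1
  -- the big injection
  let F : ((G ⧸ Subgroup.normalizer (A : Set G)) × S) ⊕
      (((G ⧸ Subgroup.normalizer (B : Set G)) × T) ⊕ Unit) → G := fun x =>
    match x with
    | Sum.inl x => (x.1.out : G) * (x.2 : G) * (x.1.out : G)⁻¹
    | Sum.inr (Sum.inl y) => (y.1.out : G) * (y.2 : G) * (y.1.out : G)⁻¹
    | Sum.inr (Sum.inr _) => 1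
  have hFS : ∀ x : (G ⧸ Subgroup.normalizer (A : Set G)) × S,
      ¬ (Nat.card A).Coprime (orderOf ((x.1.out : G) * (x.2 : G) * (x.1.out : G)⁻¹)) := by
    intro x
    rw [orderOf_conj']
    intro hc
    exact x.2.2.2 ⟨x.2.2.1, hc⟩
  have hFT : ∀ y : (G ⧸ Subgroup.normalizer (B : Set G)) × T,
      (Nat.card A).Coprime (orderOf ((y.1.out : G) * (y.2 : G) * (y.1.out : G)⁻¹)) ∧
      (y.1.out : G) * (y.2 : G) * (y.1.out : G)⁻¹ ≠ 1 := by
    intro y
    refine ⟨?_, ?_⟩
    · rw [orderOf_conj']
      exact Nat.Coprime.coprime_dvd_right (Subgroup.orderOf_dvd_natCard B y.2.2.1) h.cop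
    · intro e
      apply y.2.2.2
      have : (y.2 : G) = (y.1.out : G)⁻¹ * ((y.1.out : G) * (y.2 : G) * (y.1.out : G)⁻¹) *
          (y.1.out : G) := by group
      rw [this, e]
      simp
  have hFinj : Function.Injective F := by
    intro x x' hxx
    rcases x with x | y | u
    · rcases x' with x' | y' | u'
      · exact congrArg Sum.inl (conj_out_injective _ S hSconj hxx)
      · exfalso
        have h1 := hFS x
        have h2 := (hFT y').1
        simp only [F] at hxx
        rw [hxx] at h1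
        exact h1 h2
      · exfalso
        have h1 := hFS x
        simp only [F] at hxx
        rw [hxx, orderOf_one] at h1
        exact h1 (Nat.coprime_one_right _)
    · rcases x' with x' | y' | u'
      · exfalso
        have h1 := hFS x'
        have h2 := (hFT y).1
        simp only [F] at hxx
        rw [← hxx] at h1
        exact h1 h2
      · exact congrArg (Sum.inr ∘ Sum.inl) (conj_out_injective _ T hTconj hxx)
      · exfalso
        simp only [F] at hxx
        exact (hFT y).2 hxx
    · rcases x' with x' | y' | u'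
      · exfalso
        have h1 := hFS x'
        simp only [F] at hxx
        rw [← hxx, orderOf_one] at h1
        exact h1 (Nat.coprime_one_right _)
      · exfalso
        simp only [F] at hxx
        exact (hFT y').2 hxx.symm
      · rfl
  have hcount := Nat.card_le_card_of_injective F hFinj
  have hU : Nat.card Unit = 1 := Nat.card_unique
  rw [Nat.card_sum, Nat.card_sum, Nat.card_prod, Nat.card_prod, hU,
    Nat.card_coe_set_eq, Nat.card_coe_set_eq] at hcount
  -- bound on W
  have hm : ((A ⊓ Subgroup.normalizer (B : Set G)).subgroupOf A).index =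
      (Subgroup.normalizer (B : Set G)).index := by
    apply relIndex_eq_of_card (inf_le_left)
    have h1 : (Subgroup.normalizer (B : Set G)).index *
        (Nat.card B * Nat.card (A ⊓ Subgroup.normalizer (B : Set G) : Subgroup G)) =
        Nat.card A * Nat.card B := by rw [← hcN2, hi2, hG]
    have hB : 0 < Nat.card B := Nat.card_pos
    apply Nat.eq_of_mul_eq_mul_right hB
    rw [← h1]; ring
  have hWle : W.ncard ≤ (Subgroup.normalizer (B : Set G)).index * T0.ncard + 1 := by
    let f'' : (A ⧸ (A ⊓ Subgroup.normalizer (B : Set G)).subgroupOf A) × T0 → G := fun x =>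
      ((x.1.out : A) : G) * (x.2 : G) * ((x.1.out : A) : G)⁻¹
    have hsub : W ⊆ insert 1 (Set.range f'') := by
      intro u hu
      by_cases hu1 : u = 1
      · exact Set.mem_insert_iff.mpr (Or.inl hu1)
      · apply Set.mem_insert_of_mem
        obtain ⟨y, hyA, hyb⟩ := conj_into_complement hAN1 inf_le_right le_rfl
          (inferInstance : Group.IsSolvable A) hcN1 h.cop_B0
          (fun g hg => by
            obtain ⟨b, hb, a, ha, e⟩ := (h.fzd_of_le hAN1).symm g hg
            exact ⟨b, hb, a, ha.1, e⟩) hu.1 hu.2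
        obtain ⟨a0, ha0⟩ := QuotientGroup.mk_out_eq_mul
          ((A ⊓ Subgroup.normalizer (B : Set G)).subgroupOf A) (⟨y⁻¹, inv_mem hyA⟩ : A)
        have ha0' : ((a0 : A) : G) ∈ A ⊓ Subgroup.normalizer (B : Set G) :=
          Subgroup.mem_subgroupOf.mp a0.2
        have ha0N2 : (((a0 : A) : G))⁻¹ ∈ Subgroup.normalizer (B : Set G) :=
          inv_mem (Subgroup.mem_inf.mp ha0').2
        have hb' : (((a0 : A) : G))⁻¹ * (y * u * y⁻¹) * ((a0 : A) : G) ∈ T0 := by
          refine ⟨Subgroup.mem_inf.mpr ⟨?_, ?_⟩, ?_⟩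
          · have := ((Subgroup.mem_normalizer_iff.mp ha0N2) (y * u * y⁻¹)).mp
              (Subgroup.mem_inf.mp hyb).1
            rwa [inv_inv] at this
          · exact mul_mem (mul_mem (inv_mem (hAN1 (Subgroup.mem_inf.mp ha0').1))
              (Subgroup.mem_inf.mp hyb).2) (hAN1 (Subgroup.mem_inf.mp ha0').1)
          · intro e
            rw [Set.mem_singleton_iff] at e
            apply hu1
            have : u = y⁻¹ * (((a0 : A) : G) * ((((a0 : A) : G))⁻¹ * (y * u * y⁻¹) *
                ((a0 : A) : G)) * (((a0 : A) : G))⁻¹) * y := by group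
            rw [this, e]
            group
        refine ⟨(((⟨y⁻¹, inv_mem hyA⟩ : A) :
          A ⧸ (A ⊓ Subgroup.normalizer (B : Set G)).subgroupOf A), ⟨_, hb'⟩), ?_⟩
        simp only [f'']
        rw [ha0]
        simp only [Subgroup.coe_mul]
        group
    calc W.ncard ≤ (insert 1 (Set.range f'')).ncard := Set.ncard_le_ncard hsub
      _ ≤ (Set.range f'').ncard + 1 := Set.ncard_insert_le _ _
      _ ≤ Nat.card ((A ⧸ (A ⊓ Subgroup.normalizer (B : Set G)).subgroupOf A) × T0) + 1 := by
        apply Nat.add_le_add_right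
        rw [← Set.image_univ, ← Set.ncard_univ]
        exact Set.ncard_image_le
      _ = (Subgroup.normalizer (B : Set G)).index * T0.ncard + 1 := by
        rw [Nat.card_prod, Nat.card_coe_set_eq, ← hm]
        rfl
  have hApos : 0 < Nat.card A := Nat.card_pos
  have hkey := count_arith (n := (Subgroup.normalizer (A : Set G)).index)
    (m := (Subgroup.normalizer (B : Set G)).index) hApos
    (by rw [← hcN1, hi1, hG]) (by rw [hSW, hcN1]) hWle hT0c hTc
    (by rw [← hG]; exact hcount)
  have hn1 : (Subgroup.normalizer (A : Set G)).index ≠ 0 := Subgroup.index_ne_zero_of_finite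
  have hm1 : (Subgroup.normalizer (B : Set G)).index ≠ 0 := Subgroup.index_ne_zero_of_finite
  have hor : (Subgroup.normalizer (A : Set G)).index = 1 ∨
      (Subgroup.normalizer (B : Set G)).index = 1 := by
    by_contra hcon
    push Not at hcon
    have h2n : 2 ≤ (Subgroup.normalizer (A : Set G)).index := by omega
    have h2m : 2 ≤ (Subgroup.normalizer (B : Set G)).index := by omega
    have e1 := Nat.mul_le_mul_left (Subgroup.normalizer (B : Set G)).index h2n
    have e2 := Nat.mul_le_mul_right (Subgroup.normalizer (A : Set G)).index h2m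
    omega
  rcases hor with h1 | h1
  · rw [Subgroup.index_eq_one] at h1
    exact h.A_ne_top (h.eq_top_of_normal h1 h.A_ne_bot)
  · rw [Subgroup.index_eq_one] at h1
    exact h.symm.A_ne_top (h.eq_top_of_normal h1 h.symm.A_ne_bot)

end MinCE

end Cfsg.Agent.Lib.Helper71
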