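import Mathlib
import Cfsg.Prelude.Def_GeometricClasses
import Cfsg.Agent.Lib.Helper94.BHRSP.Sp4Model
import Cfsg.Agent.Lib.Helper94.BHRSP.Sp4Kit
import Cfsg.Agent.Lib.Helper49.U92Transport
import Cfsg.Agent.Lib.Helper15.BhrE4Group

/-!
# Project BHRSP phase 2 (helper94), module [3B-R0-STR] (helper71, hedge of helper21's row)

`Rc P = P (Q_8 ⊗ O_2) P⁻¹ ≤ GL_4(3)` is a `2`-group of symplectic type and exponent `4`.

* `IsPGroup 2` from `x ^ 4 = 1` (no cardinality needed), exponent `4` via `i0 = 1 ⊗ J₂`;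
* characteristic abelian subgroups lie in `{1, -1}`: variant of helper15's transvection lemma
  (`Cfsg.Agent.Lib.Helper15.BhrE4.transvHom`) with the hypothesis "an element commuting with every `u` of square `c` is
  `1` or `c`", checked on `u = A₂ ⊗ 1, B₂ ⊗ 1, 1 ⊗ J₂, A₂ ⊗ T₂`;
* transport to `Rc P` by helper49's `isSymplecticTypeGroup_map`.
-/

set_option autoImplicit false

namespace Cfsg.Agent.Lib.Helper71.BhrSp4R0Str

open Cfsg Cfsg.Geo Cfsg.Agent.Lib.Helper94.BHRSP.Sp4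
open scoped MatrixGroups Matrix

/-! ## abstract group lemmas -/

section abstractGroup

variable {G : Type*} [Group G]

open Cfsg.Agent.Lib.Helper15.BhrE4 in
/-- variant of helper15's `le_center_of_characteristic`: if any two elements commute up to the central involution `c`
and an element commuting with every `u` of square `c` is `1` or `c`, then every characteristic commutative subgroup
lies in `{1, c}`. -/
theorem subset_pair_of_characteristic [Finite G] (c : G) (hc : ∀ x, c * x = x * c) (hcc : c * c = 1)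
    (hcomm : ∀ x y : G, x * y = y * x ∨ x * y = c * (y * x))
    (hgen : ∀ a : G, (∀ u : G, u * u = c → a * u = u * a) → a = 1 ∨ a = c)
    (A : Subgroup G) (hA : A.Characteristic) (hAc : ∀ x ∈ A, ∀ y ∈ A, x * y = y * x) :
    ∀ a ∈ A, a = 1 ∨ a = c := by
  classical
  intro a ha
  apply hgen
  intro u hu
  by_contra hau
  have hinj := transvHom_injective c u hc hcc hu hcomm
  let φ : G ≃* G := MulEquiv.ofBijective (transvHom c u hc hcc hu hcomm)
    ⟨hinj, Finite.surjective_of_injective hinj⟩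
  have hfix := hA.fixed φ
  have hφa : φ a ∈ A := by
    have : a ∈ A.comap φ.toMonoidHom := by rw [hfix]; exact ha
    exact this
  have hφa' : φ a = a * u := by
    show transvMap u a = a * u
    unfold transvMap
    rw [if_neg hau]
  rw [hφa'] at hφa
  have h2 := hAc a ha (a * u) hφa
  apply hau
  have h3 : a * (a * u) = a * (u * a) := by rw [h2, mul_assoc]
  exact mul_left_cancel h3

/-- a subgroup inside `{1, c}` is cyclic. -/
theorem isCyclic_of_subset_pair (c : G) (A : Subgroup G) (h : ∀ a ∈ A, a = 1 ∨ a = c) : IsCyclic A := by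
  by_cases hcA : c ∈ A
  · refine ⟨⟨⟨c, hcA⟩, fun x => ?_⟩⟩
    rcases h x.1 x.2 with h1 | h1
    · exact ⟨0, by apply Subtype.ext; simp [h1]⟩
    · exact ⟨1, by apply Subtype.ext; simp [h1]⟩
  · refine ⟨⟨1, fun x => ?_⟩⟩
    rcases h x.1 x.2 with h1 | h1
    · exact ⟨0, by apply Subtype.ext; simp [h1]⟩
    · exact absurd (h1 ▸ x.2) hcA

end abstractGroup

/-! ## matrices -/

variable {F : Type*} [Field F]

/-- an invertible matrix of square `± 1` is not its own negative (`2 ≠ 0`). -/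
theorem ne_neg_of_sq {n : Type*} [Fintype n] [DecidableEq n] [Nonempty n] (h2 : (2 : F) ≠ 0) (X : Matrix n n F)
    (hX : X * X = 1 ∨ X * X = -1) : X ≠ -X := by
  intro h
  have h0 : (2 : F) • X = 0 := by
    rw [two_smul]
    nth_rewrite 2 [h]
    exact add_neg_cancel X
  have hX0 : X = 0 := by
    rcases smul_eq_zero.mp h0 with h' | h'
    · exact absurd h' h2
    · exact h'
  rw [hX0, Matrix.mul_zero] at hX
  rcases hX with h' | h'
  · exact one_ne_zero h'.symm
  · exact (neg_ne_zero.mpr one_ne_zero) h'.symm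

theorem q8_comm_or (h3 : (3 : F) = 0) (M N : Matrix (Fin 2) (Fin 2) F) (hM : IsQ8Mat M) (hN : IsQ8Mat N) :
    M * N = N * M ∨ M * N = -(N * M) := by
  unfold IsQ8Mat at hM hN
  rcases hM with rfl | rfl | rfl | rfl | rfl | rfl | rfl | rfl <;>
  rcases hN with rfl | rfl | rfl | rfl | rfl | rfl | rfl | rfl <;>
  simp [A2_mul_A2, A2_mul_B2, B2_mul_A2, B2_mul_B2 h3, C2_mul_C2 h3, B2_mul_C2 h3, C2_mul_B2 h3, C2_mul_A2, A2_mul_C2]

theorem o2_comm_or (M N : Matrix (Fin 2) (Fin 2) F) (hM : IsO2Mat M) (hN : IsO2Mat N) :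
    M * N = N * M ∨ M * N = -(N * M) := by
  unfold IsO2Mat at hM hN
  rcases hM with rfl | rfl | rfl | rfl | rfl | rfl | rfl | rfl <;>
  rcases hN with rfl | rfl | rfl | rfl | rfl | rfl | rfl | rfl <;>
  simp [J2_mul_J2, J2_mul_T2, T2_mul_J2', T2_mul_T2', S2_mul_S2, T2_mul_S2, S2_mul_T2, S2_mul_J2, J2_mul_S2]

theorem tens_comm_or (h3 : (3 : F) = 0) (q q' d d' : Matrix (Fin 2) (Fin 2) F) (hq : IsQ8Mat q) (hq' : IsQ8Mat q')
    (hd : IsO2Mat d) (hd' : IsO2Mat d') :
    tens q d * tens q' d' = tens q' d' * tens q d ∨ tens q d * tens q' d' = -(tens q' d' * tens q d) := by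
  rw [tens_mul, tens_mul]
  rcases q8_comm_or h3 q q' hq hq' with h | h <;> rcases o2_comm_or d d' hd hd' with h' | h' <;> rw [h, h']
  · left; rfl
  · right; rw [tens_neg_right]
  · right; rw [tens_neg_left]
  · left; rw [tens_neg_left, tens_neg_right, neg_neg]

theorem tens_sq (h3 : (3 : F) = 0) (q d : Matrix (Fin 2) (Fin 2) F) (hq : IsQ8Mat q) (hd : IsO2Mat d) :
    tens q d * tens q d = 1 ∨ tens q d * tens q d = -1 := by
  rw [tens_mul]
  rcases isQ8Mat_sq h3 q hq with h | h <;> rcases isO2Mat_sq d hd with h' | h' <;> rw [h, h']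
  · left; exact tens_one
  · right; rw [tens_neg_right, tens_one]
  · right; rw [tens_neg_left, tens_one]
  · left; rw [tens_neg_left, tens_neg_right, neg_neg, tens_one]

/-- cancel the left factor. -/
theorem tens_cancel_left (h2 : (2 : F) ≠ 0) (h3 : (3 : F) = 0) (q d d' : Matrix (Fin 2) (Fin 2) F) (hq : IsQ8Mat q)
    (hd' : IsO2Mat d') (h : tens q d = tens q d') (hor : d = d' ∨ d = -d') : d = d' := by
  rcases hor with h' | h'
  · exact h'
  · exfalso
    rw [h', tens_neg_right] at h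
    exact ne_neg_of_sq h2 _ (tens_sq h3 q d' hq hd') h.symm

/-- cancel the right factor. -/
theorem tens_cancel_right (h2 : (2 : F) ≠ 0) (h3 : (3 : F) = 0) (q q' d : Matrix (Fin 2) (Fin 2) F) (hq' : IsQ8Mat q')
    (hd : IsO2Mat d) (h : tens q d = tens q' d) (hor : q = q' ∨ q = -q') : q = q' := by
  rcases hor with h' | h'
  · exact h'
  · exfalso
    rw [h', tens_neg_left] at h
    exact ne_neg_of_sq h2 _ (tens_sq h3 q' d hq' hd) h.symm

theorem q8_center (h2 : (2 : F) ≠ 0) (h3 : (3 : F) = 0) (q : Matrix (Fin 2) (Fin 2) F) (hq : IsQ8Mat q)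
    (hA : q * A2 = A2 * q) (hB : q * B2 = B2 * q) : q = 1 ∨ q = -1 := by
  have hCn : (C2 : Matrix (Fin 2) (Fin 2) F) ≠ -C2 := ne_neg_of_sq h2 _ (Or.inr (C2_mul_C2 h3))
  have hBn : (B2 : Matrix (Fin 2) (Fin 2) F) ≠ -B2 := ne_neg_of_sq h2 _ (Or.inr (B2_mul_B2 h3))
  unfold IsQ8Mat at hq
  rcases hq with rfl | rfl | rfl | rfl | rfl | rfl | rfl | rfl
  · left; rfl
  · right; rfl
  · rw [A2_mul_B2, B2_mul_A2] at hB
    exact absurd hB hCn
  · rw [neg_mul, mul_neg, A2_mul_B2, B2_mul_A2, neg_neg] at hB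
    exact absurd hB.symm hCn
  · rw [B2_mul_A2, A2_mul_B2] at hA
    exact absurd hA.symm hCn
  · rw [neg_mul, mul_neg, B2_mul_A2, A2_mul_B2, neg_neg] at hA
    exact absurd hA hCn
  · rw [C2_mul_A2, A2_mul_C2] at hA
    exact absurd hA hBn
  · rw [neg_mul, mul_neg, C2_mul_A2, A2_mul_C2, neg_neg] at hA
    exact absurd hA.symm hBn

theorem o2_center (h2 : (2 : F) ≠ 0) (d : Matrix (Fin 2) (Fin 2) F) (hd : IsO2Mat d)
    (hJ : d * J2 = J2 * d) (hT : d * T2 = T2 * d) : d = 1 ∨ d = -1 := by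
  have hSn : (S2 : Matrix (Fin 2) (Fin 2) F) ≠ -S2 := ne_neg_of_sq h2 _ (Or.inl S2_mul_S2)
  have hTn : (T2 : Matrix (Fin 2) (Fin 2) F) ≠ -T2 := ne_neg_of_sq h2 _ (Or.inl T2_mul_T2')
  unfold IsO2Mat at hd
  rcases hd with rfl | rfl | rfl | rfl | rfl | rfl | rfl | rfl
  · left; rfl
  · right; rfl
  · rw [J2_mul_T2, T2_mul_J2'] at hT
    exact absurd hT hSn
  · rw [neg_mul, mul_neg, J2_mul_T2, T2_mul_J2', neg_neg] at hT
    exact absurd hT.symm hSn
  · rw [T2_mul_J2', J2_mul_T2] at hJ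
    exact absurd hJ.symm hSn
  · rw [neg_mul, mul_neg, T2_mul_J2', J2_mul_T2, neg_neg] at hJ
    exact absurd hJ hSn
  · rw [S2_mul_J2, J2_mul_S2] at hJ
    exact absurd hJ hTn
  · rw [neg_mul, mul_neg, S2_mul_J2, J2_mul_S2, neg_neg] at hJ
    exact absurd hJ.symm hTn

theorem isQ8Mat_one : IsQ8Mat (1 : Matrix (Fin 2) (Fin 2) F) := Or.inl rfl
theorem isQ8Mat_A2 : IsQ8Mat (A2 : Matrix (Fin 2) (Fin 2) F) := Or.inr (Or.inr (Or.inl rfl))
theorem isQ8Mat_B2 : IsQ8Mat (B2 : Matrix (Fin 2) (Fin 2) F) := Or.inr (Or.inr (Or.inr (Or.inr (Or.inl rfl))))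
theorem isO2Mat_one : IsO2Mat (1 : Matrix (Fin 2) (Fin 2) F) := Or.inl rfl
theorem isO2Mat_J2 : IsO2Mat (J2 : Matrix (Fin 2) (Fin 2) F) := Or.inr (Or.inr (Or.inl rfl))
theorem isO2Mat_T2 : IsO2Mat (T2 : Matrix (Fin 2) (Fin 2) F) := Or.inr (Or.inr (Or.inr (Or.inr (Or.inl rfl))))

/-- a product `q ⊗ d` commuting with `A₂ ⊗ 1`, `B₂ ⊗ 1`, `1 ⊗ J₂`, `A₂ ⊗ T₂` is `± 1`. -/
theorem tens_center (h2 : (2 : F) ≠ 0) (h3 : (3 : F) = 0) (q d : Matrix (Fin 2) (Fin 2) F) (hq : IsQ8Mat q)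
    (hd : IsO2Mat d)
    (hA : tens q d * tens A2 1 = tens A2 1 * tens q d) (hB : tens q d * tens B2 1 = tens B2 1 * tens q d)
    (hJ : tens q d * tens 1 J2 = tens 1 J2 * tens q d) (hT : tens q d * tens A2 T2 = tens A2 T2 * tens q d) :
    tens q d = 1 ∨ tens q d = -1 := by
  rw [tens_mul, tens_mul, Matrix.mul_one, Matrix.one_mul] at hA hB
  rw [tens_mul, tens_mul, Matrix.mul_one, Matrix.one_mul] at hJ
  rw [tens_mul, tens_mul] at hT
  have hqA : q * A2 = A2 * q :=
    tens_cancel_right h2 h3 _ _ d (isQ8Mat_mul h3 _ _ isQ8Mat_A2 hq) hd hA (q8_comm_or h3 q A2 hq isQ8Mat_A2)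
  have hqB : q * B2 = B2 * q :=
    tens_cancel_right h2 h3 _ _ d (isQ8Mat_mul h3 _ _ isQ8Mat_B2 hq) hd hB (q8_comm_or h3 q B2 hq isQ8Mat_B2)
  have hdJ : d * J2 = J2 * d :=
    tens_cancel_left h2 h3 q _ _ hq (isO2Mat_mul _ _ isO2Mat_J2 hd) hJ (o2_comm_or d J2 hd isO2Mat_J2)
  rw [hqA] at hT
  have hdT : d * T2 = T2 * d :=
    tens_cancel_left h2 h3 (A2 * q) _ _ (isQ8Mat_mul h3 _ _ isQ8Mat_A2 hq) (isO2Mat_mul _ _ isO2Mat_T2 hd) hT
      (o2_comm_or d T2 hd isO2Mat_T2)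
  rcases q8_center h2 h3 q hq hqA hqB with rfl | rfl <;> rcases o2_center h2 d hd hdJ hdT with rfl | rfl
  · left; exact tens_one
  · right; rw [tens_neg_right, tens_one]
  · right; rw [tens_neg_left, tens_one]
  · left; rw [tens_neg_left, tens_neg_right, neg_neg, tens_one]

/-! ## the group `R0` -/

section group

variable [Fintype F]

abbrev M4 (F : Type*) [Field F] := Matrix (Fin 2 ⊕ Fin 2) (Fin 2 ⊕ Fin 2) F

/-- the matrix of an element of `R0`. -/
def mat (x : (R0 : Subgroup (GL (Fin 2 ⊕ Fin 2) F))) : M4 F := ((x : GL (Fin 2 ⊕ Fin 2) F) : M4 F)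

theorem mat_mul (x y : (R0 : Subgroup (GL (Fin 2 ⊕ Fin 2) F))) : mat (x * y) = mat x * mat y := by
  unfold mat
  rw [Subgroup.coe_mul, Units.val_mul]

theorem mat_one : mat (1 : (R0 : Subgroup (GL (Fin 2 ⊕ Fin 2) F))) = 1 := by
  unfold mat
  rw [Subgroup.coe_one, Units.val_one]

theorem mat_injective (x y : (R0 : Subgroup (GL (Fin 2 ⊕ Fin 2) F))) (h : mat x = mat y) : x = y :=
  Subtype.ext (Units.ext h)

theorem exists_tens (hq : Fintype.card F = 3) (x : (R0 : Subgroup (GL (Fin 2 ⊕ Fin 2) F))) :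
    ∃ q d : Matrix (Fin 2) (Fin 2) F, IsQ8Mat q ∧ IsO2Mat d ∧ mat x = tens q d := by
  obtain ⟨q, hq', d, hd, hx⟩ := (mem_R0_iff (x : GL (Fin 2 ⊕ Fin 2) F)).mp x.2
  refine ⟨q, d, (mem_Q8_iff hq q).mp hq', (mem_O2_iff' hq d).mp hd, ?_⟩
  unfold mat
  rw [hx, tensGL_val]

/-- an element of `R0` from a pair of enumerated matrices. -/
theorem exists_of_tens (hq : Fintype.card F = 3) (q d : GL (Fin 2) F) (hq' : IsQ8Mat (q : Matrix (Fin 2) (Fin 2) F))
    (hd : IsO2Mat (d : Matrix (Fin 2) (Fin 2) F)) :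
    ∃ x : (R0 : Subgroup (GL (Fin 2 ⊕ Fin 2) F)), mat x =
      tens (q : Matrix (Fin 2) (Fin 2) F) (d : Matrix (Fin 2) (Fin 2) F) :=
  ⟨⟨tensGL q d, (mem_R0_iff _).mpr ⟨q, (mem_Q8_iff hq q).mpr hq', d, (mem_O2_iff' hq d).mpr hd, rfl⟩⟩, rfl⟩

/-- the central involution `-1`. -/
theorem exists_c (hq : Fintype.card F = 3) : ∃ c : (R0 : Subgroup (GL (Fin 2 ⊕ Fin 2) F)), mat c = -1 := by
  obtain ⟨x, hx⟩ := exists_of_tens hq (-1 : GL (Fin 2) F) 1
    (by rw [Units.val_neg, Units.val_one]; exact Or.inr (Or.inl rfl)) (by rw [Units.val_one]; exact Or.inl rfl)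
  refine ⟨x, ?_⟩
  rw [hx, Units.val_neg, Units.val_one, tens_neg_left, tens_one]

theorem isSymplecticTypeGroup_R0 (hq : Fintype.card F = 3) :
    IsSymplecticTypeGroup 2 (R0 : Subgroup (GL (Fin 2 ⊕ Fin 2) F)) := by
  have h3 : (3 : F) = 0 := three_eq_zero hq
  have h2 : (2 : F) ≠ 0 := two_ne_zero3 hq
  obtain ⟨c, hcm⟩ := exists_c hq
  have hc1 : c ≠ 1 := by
    intro h
    have h1 : (-1 : M4 F) = 1 := by rw [← hcm, h, mat_one]
    exact ne_neg_of_sq h2 (1 : M4 F) (Or.inl (Matrix.mul_one 1)) h1.symm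
  have hc : ∀ x, c * x = x * c := by
    intro x
    apply mat_injective
    rw [mat_mul, mat_mul, hcm, neg_mul, mul_neg, Matrix.one_mul, Matrix.mul_one]
  have hcc : c * c = 1 := by
    apply mat_injective
    rw [mat_mul, hcm, mat_one, neg_mul, mul_neg, Matrix.one_mul, neg_neg]
  have hcomm : ∀ x y : (R0 : Subgroup (GL (Fin 2 ⊕ Fin 2) F)), x * y = y * x ∨ x * y = c * (y * x) := by
    intro x y
    obtain ⟨q, d, hq', hd, hx⟩ := exists_tens hq x
    obtain ⟨q', d', hq'', hd', hy⟩ := exists_tens hq y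
    rcases tens_comm_or h3 q q' d d' hq' hq'' hd hd' with h | h
    · left
      apply mat_injective
      rw [mat_mul, mat_mul, hx, hy, h]
    · right
      apply mat_injective
      rw [mat_mul, mat_mul, mat_mul, hcm, hx, hy, h, neg_mul, Matrix.one_mul]
  have hsq : ∀ x : (R0 : Subgroup (GL (Fin 2 ⊕ Fin 2) F)), x * x = 1 ∨ x * x = c := by
    intro x
    obtain ⟨q, d, hq', hd, hx⟩ := exists_tens hq x
    rcases tens_sq h3 q d hq' hd with h | h
    · left
      apply mat_injective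
      rw [mat_mul, mat_one, hx, h]
    · right
      apply mat_injective
      rw [mat_mul, hcm, hx, h]
  have hpow4 : ∀ x : (R0 : Subgroup (GL (Fin 2 ⊕ Fin 2) F)), x ^ 4 = 1 := by
    intro x
    have h4 : x ^ 4 = (x * x) * (x * x) := by
      rw [pow_succ, pow_succ, pow_succ, pow_one, mul_assoc]
    rw [h4]
    rcases hsq x with h | h <;> rw [h]
    · exact mul_one 1
    · exact hcc
  -- the four test elements
  obtain ⟨uA, huA⟩ := exists_of_tens hq (A2gl : GL (Fin 2) F) 1 (by rw [A2gl_val]; exact isQ8Mat_A2)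
    (by rw [Units.val_one]; exact isO2Mat_one)
  obtain ⟨uB, huB⟩ := exists_of_tens hq (B2gl h3 : GL (Fin 2) F) 1 (by rw [B2gl_val]; exact isQ8Mat_B2)
    (by rw [Units.val_one]; exact isO2Mat_one)
  obtain ⟨uJ, huJ⟩ := exists_of_tens hq (1 : GL (Fin 2) F) J2gl (by rw [Units.val_one]; exact isQ8Mat_one)
    (by rw [J2gl_val]; exact isO2Mat_J2)
  obtain ⟨uT, huT⟩ := exists_of_tens hq (A2gl : GL (Fin 2) F) T2gl' (by rw [A2gl_val]; exact isQ8Mat_A2)
    (by rw [T2gl'_val]; exact isO2Mat_T2)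
  rw [A2gl_val, Units.val_one] at huA
  rw [B2gl_val, Units.val_one] at huB
  rw [J2gl_val, Units.val_one] at huJ
  rw [A2gl_val, T2gl'_val] at huT
  have huA2 : uA * uA = c := by
    apply mat_injective
    rw [mat_mul, huA, hcm, tens_mul, A2_mul_A2, Matrix.mul_one, tens_neg_left, tens_one]
  have huB2 : uB * uB = c := by
    apply mat_injective
    rw [mat_mul, huB, hcm, tens_mul, B2_mul_B2 h3, Matrix.mul_one, tens_neg_left, tens_one]
  have huJ2 : uJ * uJ = c := by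
    apply mat_injective
    rw [mat_mul, huJ, hcm, tens_mul, J2_mul_J2, Matrix.mul_one, tens_neg_right, tens_one]
  have huT2 : uT * uT = c := by
    apply mat_injective
    rw [mat_mul, huT, hcm, tens_mul, A2_mul_A2, T2_mul_T2', tens_neg_left, tens_one]
  have hgen : ∀ a : (R0 : Subgroup (GL (Fin 2 ⊕ Fin 2) F)), (∀ u, u * u = c → a * u = u * a) → a = 1 ∨ a = c := by
    intro a ha
    obtain ⟨q, d, hq', hd, hx⟩ := exists_tens hq a
    have e := fun (u : (R0 : Subgroup (GL (Fin 2 ⊕ Fin 2) F))) (hu : u * u = c) => by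
      have := congrArg mat (ha u hu)
      rw [mat_mul, mat_mul, hx] at this
      exact this
    have eA := e uA huA2
    have eB := e uB huB2
    have eJ := e uJ huJ2
    have eT := e uT huT2
    rw [huA] at eA
    rw [huB] at eB
    rw [huJ] at eJ
    rw [huT] at eT
    rcases tens_center h2 h3 q d hq' hd eA eB eJ eT with h | h
    · left
      apply mat_injective
      rw [hx, h, mat_one]
    · right
      apply mat_injective
      rw [hx, h, hcm]
  haveI : Finite (R0 : Subgroup (GL (Fin 2 ⊕ Fin 2) F)) := inferInstance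
  refine ⟨Nat.prime_two, ?_, ?_, ?_⟩
  · intro g
    exact ⟨2, hpow4 g⟩
  · intro A hA hAc
    apply isCyclic_of_subset_pair c A
    refine subset_pair_of_characteristic c hc hcc hcomm hgen A hA ?_
    intro x hx y hy
    have := hAc.is_comm.comm ⟨x, hx⟩ ⟨y, hy⟩
    exact congrArg Subtype.val this
  · have h4 : (2 * Nat.gcd 2 2 : ℕ) = 4 := by norm_num
    rw [h4]
    apply Nat.dvd_antisymm
    · exact Monoid.exponent_dvd_of_forall_pow_eq_one hpow4
    · have h1 : orderOf uJ = 2 ^ (1 + 1) := by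
        apply orderOf_eq_prime_pow
        · rw [pow_one, pow_two, huJ2]
          exact hc1
        · exact hpow4 uJ
      have h5 : orderOf uJ = 4 := by rw [h1]; norm_num
      have h6 := Monoid.order_dvd_exponent uJ
      rwa [h5] at h6

/-- **[3B-R0-STR]** (exact Skel2 statement). -/
theorem isSymplecticTypeGroup_Rc (hq : Fintype.card F = 3) (P : GL (Fin 2 ⊕ Fin 2) F) :
    IsSymplecticTypeGroup 2 (Rc P) :=
  Cfsg.Agent.Lib.Helper99.U92.isSymplecticTypeGroup_map (MulAut.conj P) 2 R0 (isSymplecticTypeGroup_R0 hq)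

end group

end Cfsg.Agent.Lib.Helper71.BhrSp4R0Str
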