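/-
helper71: project CT part 2 (helper60, S3712), module CT2-[SURJ] (hedge): the homomorphism from the Curtis–Tits group
defined by coherent homomorphisms is onto.
-/
import Cfsg.Agent.Lib.Helper60.CtBasic

set_option autoImplicit false

namespace Cfsg.Agent.Lib.Helper71.CT2

open Cfsg.Lie

universe u v w

/-- the fundamental roots and their negatives are in range -/
theorem simple_lt {D : ChevalleyDatum} (hD : D ∈ [chevD4, chevF4, chevE6, chevE7, chevE8]) :
    ∀ i, i < D.rank → D.simple i < D.nroots ∧ D.neg (D.simple i) < D.nroots := by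
  simp only [List.mem_cons, List.not_mem_nil, or_false] at hD
  rcases hD with rfl | rfl | rfl | rfl | rfl <;> decide +kernel

/-- the range of a homomorphism defined on a generated subgroup -/
theorem range_le_of_gens' {B : Type v} {G : Type w} [Group B] [Group G] (H : Subgroup B) (s : Set B)
    (hH : H = Subgroup.closure s) (φ : ↥H →* G) (N : Subgroup G)
    (h : ∀ x (hx : x ∈ H), x ∈ s → φ ⟨x, hx⟩ ∈ N) : φ.range ≤ N := by
  subst hH
  rintro _ ⟨⟨x, hx⟩, rfl⟩
  induction hx using Subgroup.closure_induction with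
  | mem x hxs => exact h x (Subgroup.subset_closure hxs) hxs
  | one => exact (map_one φ).symm ▸ N.one_mem
  | mul x y hx hy ihx ihy =>
    have : (⟨x * y, mul_mem hx hy⟩ : ↥(Subgroup.closure s)) = ⟨x, hx⟩ * ⟨y, hy⟩ := rfl
    rw [this, map_mul]
    exact N.mul_mem ihx ihy
  | inv x hx ihx =>
    have : (⟨x⁻¹, inv_mem hx⟩ : ↥(Subgroup.closure s)) = (⟨x, hx⟩ : ↥(Subgroup.closure s))⁻¹ := rfl
    rw [this, map_inv]
    exact N.inv_mem ihx

end Cfsg.Agent.Lib.Helper71.CT2

namespace Cfsg.Agent.Lib.Helper60.CT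

open Cfsg.Lie Cfsg.Agent.Lib.Helper35.St Cfsg.Agent.Lib.Helper60.St3

universe u v w

variable {D : ChevalleyDatum} {F : Type u} [Field F]

theorem ct_hom_surjective (hD : D ∈ [chevD4, chevF4, chevE6, chevE7, chevE8])
    (θ' : D.SteinbergGroup F →* GL D.Idx F)
    (hθ' : ∀ r, r < D.nroots → ∀ t : F, ((θ' (D.stGen F r t) : GL D.Idx F) : Matrix D.Idx D.Idx F) = D.x F r t)
    {G : Type w} [Group G] (P : ℕ → Subgroup G) (hgen : ⨆ (i : ℕ) (_ : i < D.rank), P i = ⊤)
    (φ : ∀ i : ℕ, ↥(D.rootSubgroup F (D.simple i) ⊔ D.rootSubgroup F (D.neg (D.simple i))) →* G)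
    (hφ : ∀ i < D.rank, (φ i).range = P i)
    (η : D.CurtisTitsGroup F →* G)
    (hη : ∀ k, k < D.rank → ∀ e, (e = D.simple k ∨ e = D.neg (D.simple k)) → ∀ (t : F)
      (h : θ' (D.stGen F e t) ∈ D.rootSubgroup F (D.simple k) ⊔ D.rootSubgroup F (D.neg (D.simple k))),
      η (PresentedGroup.mk (D.curtisTitsRels F) (D.stX e t)) = φ k ⟨θ' (D.stGen F e t), h⟩) :
    Function.Surjective η := by
  rw [← MonoidHom.range_eq_top, eq_top_iff, ← hgen]
  refine iSup₂_le fun i hi => ?_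
  rw [← hφ i hi]
  obtain ⟨hlt, hnlt⟩ := Cfsg.Agent.Lib.Helper71.CT2.simple_lt hD i hi
  have hsup : D.rootSubgroup F (D.simple i) ⊔ D.rootSubgroup F (D.neg (D.simple i)) =
      Subgroup.closure ({g : GL D.Idx F | ∃ t : F, (g : Matrix D.Idx D.Idx F) = D.x F (D.simple i) t} ∪
        {g : GL D.Idx F | ∃ t : F, (g : Matrix D.Idx D.Idx F) = D.x F (D.neg (D.simple i)) t}) := by
    rw [Subgroup.closure_union]
    rfl
  refine Cfsg.Agent.Lib.Helper71.CT2.range_le_of_gens' _ _ hsup (φ i) η.range ?_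
  rintro g hg (⟨t, ht⟩ | ⟨t, ht⟩)
  · have hg' : g = θ' (D.stGen F (D.simple i) t) := Units.ext (by rw [ht, hθ' _ hlt t])
    subst hg'
    exact ⟨_, hη i hi (D.simple i) (Or.inl rfl) t hg⟩
  · have hg' : g = θ' (D.stGen F (D.neg (D.simple i)) t) := Units.ext (by rw [ht, hθ' _ hnlt t])
    subst hg'
    exact ⟨_, hη i hi (D.neg (D.simple i)) (Or.inr rfl) t hg⟩

end Cfsg.Agent.Lib.Helper60.CT
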