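import Cfsg.Agent.Lib.Helper77.DefOneDefs
import Cfsg.Agent.Lib.Helper46.DefOneMJ

/-!
# PROJECT BC (defect one), MODULE (M2)

If an `F[N]`-module `V` (`P ⊴ N` of order `p = char F`, `p ∤ |N : P|`) has semi-invariants
`z₁, z₂` for two different linear characters `μ₁ ≠ μ₂` of `N`, neither of them a `P`-trace, then there
is an `F[N]`-endomorphism `β` of `V` such that `β` and `id` are linearly independent modulo the
`N`-traces `∑ₙ ρ n ∘ γ ∘ ρ n⁻¹`.

Proof: `ν = ρ x - 1` (`x` a generator of `P`) is nilpotent; the projection of `ker ν = V^P` onto its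
`μ₁`-isotypic part (average over a complement `H` of `P`) preserves the filtration
`ker ν ∩ range (ν ^ l)`, hence (Jordan basis, `exists_comm_extension`) extends to an endomorphism of
`V` commuting with `ν`; average it over `H`.
-/

set_option autoImplicit false
set_option linter.unusedSectionVars false

namespace Cfsg.Agent.Lib.Helper71.DefOneM2

open scoped BigOperators
open Cfsg.Agent.Lib.Helper77.DefOne

variable {F : Type*} [Field F] {V : Type*} [AddCommGroup V] [Module F V]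

section Jordan

variable {ι : Type} [Fintype ι] (e : ι → ℕ) (v : ι → V) (ν : V →ₗ[F] V)

/-- the Jordan family -/
def jfam : (Σ i, Fin (e i)) → V := fun x => (ν ^ (x.2 : ℕ)) (v x.1)

variable {e v ν}

theorem nu_jfam_of_lt (x : Σ i, Fin (e i)) (h : (x.2 : ℕ) + 1 < e x.1) :
    ν (jfam e v ν x) = jfam e v ν ⟨x.1, ⟨(x.2 : ℕ) + 1, h⟩⟩ := by
  simp only [jfam]
  rw [pow_succ', Module.End.mul_apply]

theorem nu_jfam_of_eq (hv : ∀ i, (ν ^ e i) (v i) = 0) (x : Σ i, Fin (e i))
    (h : (x.2 : ℕ) + 1 = e x.1) : ν (jfam e v ν x) = 0 := by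
  simp only [jfam]
  rw [← Module.End.mul_apply, ← pow_succ', h, hv]

theorem sigma_fin_ext {x y : Σ i, Fin (e i)} (h1 : x.1 = y.1) (h2 : (x.2 : ℕ) = (y.2 : ℕ)) :
    x = y := by
  obtain ⟨i, j⟩ := x
  obtain ⟨i', j'⟩ := y
  simp only at h1 h2
  subst h1
  have : j = j' := Fin.ext h2
  subst this
  rfl

theorem sigma_fin_ext_iff {x y : Σ i, Fin (e i)} :
    x = y ↔ x.1 = y.1 ∧ (x.2 : ℕ) = (y.2 : ℕ) := by
  constructor
  · rintro rfl
    exact ⟨rfl, rfl⟩
  · rintro ⟨h1, h2⟩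
    exact sigma_fin_ext h1 h2

open Classical in
theorem coord_basis_apply (b : Module.Basis (Σ i, Fin (e i)) F V) (x y : Σ i, Fin (e i)) :
    b.coord y (b x) = if x = y then 1 else 0 := by
  rw [Module.Basis.coord_apply, Module.Basis.repr_self, Finsupp.single_apply]

variable (b : Module.Basis (Σ i, Fin (e i)) F V) (hb : ∀ x, b x = jfam e v ν x)
  (hv : ∀ i, (ν ^ e i) (v i) = 0)

include hb hv

theorem coord_succ_nu (i : ι) (j : ℕ) (h : j + 1 < e i) (w : V) :
    b.coord ⟨i, ⟨j + 1, h⟩⟩ (ν w) = b.coord ⟨i, ⟨j, by omega⟩⟩ w := by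
  classical
  have key : (b.coord ⟨i, ⟨j + 1, h⟩⟩) ∘ₗ ν = b.coord ⟨i, ⟨j, by omega⟩⟩ := by
    apply b.ext
    intro x
    rw [LinearMap.comp_apply, hb x]
    have hx : (x.2 : ℕ) < e x.1 := x.2.2
    by_cases hlt : (x.2 : ℕ) + 1 < e x.1
    · rw [nu_jfam_of_lt x hlt, ← hb, ← hb, coord_basis_apply, coord_basis_apply]
      refine if_congr ?_ rfl rfl
      rw [sigma_fin_ext_iff, sigma_fin_ext_iff]
      simp only [add_left_inj]
    · have heq : (x.2 : ℕ) + 1 = e x.1 := by omega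
      rw [nu_jfam_of_eq hv x heq, map_zero, ← hb, coord_basis_apply, if_neg]
      rw [sigma_fin_ext_iff]
      rintro ⟨h1, h2⟩
      simp only at h1 h2
      have h3 : e x.1 = e i := congrArg e h1
      omega
  rw [← key, LinearMap.comp_apply]

theorem coord_zero_nu (i : ι) (h : 0 < e i) (w : V) :
    b.coord ⟨i, ⟨0, h⟩⟩ (ν w) = 0 := by
  classical
  have key : (b.coord ⟨i, ⟨0, h⟩⟩) ∘ₗ ν = 0 := by
    apply b.ext
    intro x
    rw [LinearMap.comp_apply, hb x, LinearMap.zero_apply]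
    by_cases hlt : (x.2 : ℕ) + 1 < e x.1
    · rw [nu_jfam_of_lt x hlt, ← hb, coord_basis_apply, if_neg]
      rw [sigma_fin_ext_iff]
      rintro ⟨_, h2⟩
      simp only at h2
      omega
    · have hx : (x.2 : ℕ) < e x.1 := x.2.2
      have heq : (x.2 : ℕ) + 1 = e x.1 := by omega
      rw [nu_jfam_of_eq hv x heq, map_zero]
  rw [← LinearMap.comp_apply, key, LinearMap.zero_apply]

/-- coordinates of an element of `ker ν` vanish except at the tops of the chains -/
theorem coord_eq_zero_of_mem_ker {w : V} (hw : ν w = 0) (i : ι) (j : ℕ) (h : j + 1 < e i) :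
    b.coord ⟨i, ⟨j, by omega⟩⟩ w = 0 := by
  rw [← coord_succ_nu b hb hv i j h w, hw, map_zero]

/-- coordinates of an element of `range (ν ^ l)` vanish below level `l` -/
theorem coord_eq_zero_of_mem_range (l : ℕ) (w : V) (i : ι) (j : ℕ) (h : j < e i) (hjl : j < l) :
    b.coord ⟨i, ⟨j, h⟩⟩ ((ν ^ l) w) = 0 := by
  induction l generalizing j w with
  | zero => omega
  | succ l ih =>
    rw [pow_succ', Module.End.mul_apply]
    cases j with
    | zero => exact coord_zero_nu b hb hv i h _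
    | succ j =>
      rw [coord_succ_nu b hb hv i j h]
      exact ih _ j (by omega) (by omega)

omit hb hv in
/-- the top of the `i`-th chain -/
def top (he : ∀ i, 0 < e i) (i : ι) : Σ i, Fin (e i) :=
  ⟨i, ⟨e i - 1, by have := he i; omega⟩⟩

theorem nu_top (he : ∀ i, 0 < e i) (i : ι) : ν (b (top he i)) = 0 := by
  rw [hb]
  apply nu_jfam_of_eq hv
  simp only [top]
  have := he i
  omega

theorem top_mem_range (he : ∀ i, 0 < e i) (i : ι) :
    b (top he i) ∈ LinearMap.range (ν ^ (e i - 1)) := by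
  rw [hb]
  exact ⟨v i, rfl⟩

/-- an element of `ker ν` is a combination of the tops -/
theorem eq_sum_tops_of_mem_ker (he : ∀ i, 0 < e i) {w : V} (hw : ν w = 0) :
    w = ∑ k, b.coord (top he k) w • b (top he k) := by
  classical
  conv_lhs => rw [← b.sum_repr w]
  rw [← Finset.univ_sigma_univ, Finset.sum_sigma]
  refine Finset.sum_congr rfl fun k _ => ?_
  have hk := he k
  rw [Finset.sum_eq_single (⟨e k - 1, by omega⟩ : Fin (e k))]
  · rfl
  · intro j _ hj
    have hj2 : (j : ℕ) + 1 < e k := by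
      have := j.2
      have : (j : ℕ) ≠ e k - 1 := fun h => hj (Fin.ext h)
      omega
    have := coord_eq_zero_of_mem_ker b hb hv hw k (j : ℕ) hj2
    rw [Module.Basis.coord_apply] at this
    rw [show (⟨k, j⟩ : Σ i, Fin (e i)) = ⟨k, ⟨(j : ℕ), by omega⟩⟩ from rfl, this, zero_smul]
  · intro h
    exact absurd (Finset.mem_univ _) h

/-- **Extension lemma.** An endomorphism of `ker ν` preserving the filtration by the `range (ν ^ l)`
extends to an endomorphism of `V` commuting with `ν`. -/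
theorem exists_comm_extension (he : ∀ i, 0 < e i) (β₀ : V →ₗ[F] V)
    (hβ₀ : ∀ (l : ℕ) (q : V), ν q = 0 → q ∈ LinearMap.range (ν ^ l) →
      ν (β₀ q) = 0 ∧ β₀ q ∈ LinearMap.range (ν ^ l)) :
    ∃ β' : V →ₗ[F] V, β' ∘ₗ ν = ν ∘ₗ β' ∧ ∀ q, ν q = 0 → β' q = β₀ q := by
  classical
  -- coefficients
  set c : ι → ι → F := fun k i => b.coord (top he k) (β₀ (b (top he i))) with hc
  have hy : ∀ i, ν (β₀ (b (top he i))) = 0 ∧
      β₀ (b (top he i)) ∈ LinearMap.range (ν ^ (e i - 1)) :=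
    fun i => hβ₀ (e i - 1) _ (nu_top b hb hv he i) (top_mem_range b hb hv he i)
  have hc0 : ∀ k i, e k < e i → c k i = 0 := by
    intro k i hki
    obtain ⟨w, hw⟩ := (hy i).2
    have hk := he k
    show b.coord (top he k) (β₀ (b (top he i))) = 0
    rw [← hw]
    exact coord_eq_zero_of_mem_range b hb hv (e i - 1) w k (e k - 1) (by omega) (by omega)
  set g : (Σ i, Fin (e i)) → V := fun x =>
    ∑ k, if e x.1 ≤ e k then c k x.1 • (ν ^ ((x.2 : ℕ) + (e k - e x.1))) (v k) else 0 with hg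
  refine ⟨b.constr F g, ?_, ?_⟩
  · apply b.ext
    intro x
    rw [LinearMap.comp_apply, LinearMap.comp_apply, Module.Basis.constr_basis]
    have hx : (x.2 : ℕ) < e x.1 := x.2.2
    by_cases hlt : (x.2 : ℕ) + 1 < e x.1
    · rw [hb x, nu_jfam_of_lt x hlt, ← hb, Module.Basis.constr_basis]
      simp only [hg, map_sum]
      refine Finset.sum_congr rfl fun k _ => ?_
      split_ifs with hik
      · rw [map_smul, ← Module.End.mul_apply, ← pow_succ']
        have hexp : (x.2 : ℕ) + 1 + (e k - e x.1) = (x.2 : ℕ) + (e k - e x.1) + 1 := by omega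
        rw [hexp]
      · rw [map_zero]
    · have heq : (x.2 : ℕ) + 1 = e x.1 := by omega
      rw [hb x, nu_jfam_of_eq hv x heq, map_zero]
      simp only [hg, map_sum]
      symm
      refine Finset.sum_eq_zero fun k _ => ?_
      split_ifs with hik
      · rw [map_smul, ← Module.End.mul_apply, ← pow_succ']
        have : (x.2 : ℕ) + (e k - e x.1) + 1 = e k := by omega
        rw [this, hv, smul_zero]
      · rw [map_zero]
  · -- agreement on tops first
    have htop : ∀ i, b.constr F g (b (top he i)) = β₀ (b (top he i)) := by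
      intro i
      rw [Module.Basis.constr_basis, eq_sum_tops_of_mem_ker b hb hv he (hy i).1]
      simp only [hg]
      refine Finset.sum_congr rfl fun k _ => ?_
      have hk := he k
      have hi := he i
      have h1 : b (top he k) = (ν ^ (e k - 1)) (v k) := by rw [hb]; rfl
      split_ifs with hik
      · have hik' : e i ≤ e k := hik
        have h2 : ((top he i).2 : ℕ) + (e k - e (top he i).1) = e k - 1 := by
          show e i - 1 + (e k - e i) = e k - 1
          omega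
        rw [h1, h2]
        rfl
      · have hik' : ¬ e i ≤ e k := hik
        have : c k i = 0 := hc0 k i (by omega)
        show 0 = c k i • b (top he k)
        rw [this, zero_smul]
    intro q hq
    rw [eq_sum_tops_of_mem_ker b hb hv he hq, map_sum, map_sum]
    refine Finset.sum_congr rfl fun k _ => ?_
    rw [map_smul, map_smul, htop]

end Jordan

section Group

variable {p : ℕ} [hp : Fact p.Prime] [CharP F p]
variable {N : Type*} [Group N]

open Polynomial in
theorem sub_one_pow_char {A : Type*} [Ring A] [Algebra F A] (a : A) :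
    (a - 1) ^ p = a ^ p - 1 := by
  have h2 : (X - 1 : F[X]) ^ p = X ^ p - 1 := by
    rw [sub_pow_char, one_pow]
  have := congrArg (Polynomial.aeval (R := F) a) h2
  simpa using this

theorem exists_generator (P : Subgroup N) (hP : Nat.card P = p) :
    ∃ x : N, x ∈ P ∧ x ^ p = 1 ∧ ∀ u ∈ P, ∃ k : ℕ, u = x ^ k := by
  have : Finite P := Nat.finite_of_card_ne_zero (by rw [hP]; exact hp.out.ne_zero)
  have : IsCyclic P := isCyclic_of_prime_card hP
  obtain ⟨g, hg⟩ := IsCyclic.exists_generator (α := P)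
  refine ⟨(g : N), g.2, ?_, ?_⟩
  · have : g ^ Nat.card P = 1 := pow_card_eq_one'
    rw [hP] at this
    have := congrArg (Subtype.val) this
    simpa using this
  · intro u hu
    have h1 : (⟨u, hu⟩ : P) ∈ Subgroup.zpowers g := hg _
    rw [← mem_powers_iff_mem_zpowers] at h1
    obtain ⟨k, hk⟩ := h1
    refine ⟨k, ?_⟩
    have := congrArg (Subtype.val) hk
    simpa using this.symm

/-- a linear character into a field of characteristic `p` is trivial on elements of order `p` -/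
theorem hom_eq_one_of_pow_eq_one (μ : N →* Fˣ) {u : N} (hu : u ^ p = 1) : μ u = 1 := by
  have h1 : (μ u) ^ p = 1 := by rw [← map_pow, hu, map_one]
  have h2 : ((μ u : Fˣ) : F) ^ p = 1 := by
    have := congrArg (fun a : Fˣ => (a : F)) h1
    simpa using this
  have h3 : (((μ u : Fˣ) : F) - 1) ^ p = 0 := by
    rw [sub_pow_char, one_pow, h2, sub_self]
  have h4 : ((μ u : Fˣ) : F) - 1 = 0 := pow_eq_zero_iff (hp.out.ne_zero) |>.mp h3
  exact Units.ext (by simpa using sub_eq_zero.mp h4)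


theorem pow_fixed {x : N} (ρ : Representation F N V) {w : V} (hw : ρ x w = w) (k : ℕ) :
    ρ (x ^ k) w = w := by
  induction k with
  | zero => simp
  | succ k ih => rw [pow_succ, map_mul, Module.End.mul_apply, hw, ih]

/-- `β'` commuting with `ν = ρ x - 1` commutes with `ρ (x ^ k)` -/
theorem comm_pow_of_comm {x : N} (ρ : Representation F N V) (β' : V →ₗ[F] V)
    (h : β' ∘ₗ (ρ x - 1) = (ρ x - 1) ∘ₗ β') (k : ℕ) (w : V) :
    β' (ρ (x ^ k) w) = ρ (x ^ k) (β' w) := by
  have h1 : ∀ w, β' (ρ x w) = ρ x (β' w) := by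
    intro w
    have := LinearMap.congr_fun h w
    simp only [LinearMap.comp_apply, LinearMap.sub_apply, Module.End.one_apply, map_sub] at this
    have h2 : β' (ρ x w) - β' w = ρ x (β' w) - β' w := this
    exact sub_left_injective h2
  induction k generalizing w with
  | zero => simp
  | succ k ih => rw [pow_succ, map_mul, Module.End.mul_apply, Module.End.mul_apply, ih, h1]

end Group

section Main

variable {p : ℕ} [hp : Fact p.Prime] [CharP F p]

/-- **MODULE (M2).** -/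
theorem M2 {N : Type*} [Group N] [Fintype N] [FiniteDimensional F V] (P : Subgroup N) [P.Normal]
    (hP : Nat.card P = p) (hidx : ¬ p ∣ P.index) (ρ : Representation F N V) (μ₁ μ₂ : N →* Fˣ)
    (hμ : μ₁ ≠ μ₂) (z₁ z₂ : V) (h₁ : ∀ n, ρ n z₁ = ((μ₁ n : Fˣ) : F) • z₁)
    (h₂ : ∀ n, ρ n z₂ = ((μ₂ n : Fˣ) : F) • z₂) (hz₁ : z₁ ∉ LinearMap.range (trOne ρ P))
    (hz₂ : z₂ ∉ LinearMap.range (trOne ρ P)) :
    ∃ β : V →ₗ[F] V, (∀ n, ρ n ∘ₗ β = β ∘ₗ ρ n) ∧ ∀ c₁ c₂ : F,
      (∃ γ : V →ₗ[F] V, c₁ • β + c₂ • LinearMap.id = ∑ n : N, ρ n ∘ₗ γ ∘ₗ ρ n⁻¹) →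
        c₁ = 0 ∧ c₂ = 0 := by
  classical
  obtain ⟨x, hxP, hxp, hgen⟩ := exists_generator (p := p) P hP
  -- a complement `H` of `P`
  have hcop : Nat.Coprime (Nat.card P) P.index := by
    rw [hP]; exact (Nat.Prime.coprime_iff_not_dvd hp.out).mpr hidx
  obtain ⟨H, hPH⟩ := Subgroup.exists_right_complement'_of_coprime hcop
  have hHcard : Nat.card H = P.index := (hPH.symm.index_eq_card).symm
  have hcH : ((Nat.card H : ℕ) : F) ≠ 0 := by
    rw [hHcard]; intro h; exact hidx ((CharP.cast_eq_zero_iff F p _).mp h)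
  have hcardH : (Fintype.card H : F) = ((Nat.card H : ℕ) : F) := by
    rw [Nat.card_eq_fintype_card]
  have hdecomp : ∀ n : N, ∃ u ∈ P, ∃ h ∈ H, n = u * h := by
    intro n
    obtain ⟨⟨u, h⟩, huh⟩ := hPH.2 n
    exact ⟨u.1, u.2, h.1, h.2, huh.symm⟩
  set ν : V →ₗ[F] V := ρ x - 1 with hν
  have hνp : ν ^ p = 0 := by
    rw [hν, sub_one_pow_char (F := F), ← map_pow, hxp, map_one, sub_self]
  -- `ker ν` = `P`-fixed vectors
  have hfix : ∀ w, ν w = 0 → ∀ u ∈ P, ρ u w = w := by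
    intro w hw u hu
    obtain ⟨k, rfl⟩ := hgen u hu
    apply pow_fixed
    have : ρ x w - w = 0 := by simpa [hν] using hw
    exact sub_eq_zero.mp this
  have hker : ∀ w, (∀ u ∈ P, ρ u w = w) → ν w = 0 := by
    intro w h
    simp [hν, h x hxP]
  have hρmul : ∀ (a c : N) (w : V), ρ a (ρ c w) = ρ (a * c) w := by
    intro a c w
    rw [map_mul, Module.End.mul_apply]
  -- `N` preserves `ker ν`
  have hNker : ∀ (n : N) w, ν w = 0 → ν (ρ n w) = 0 := by
    intro n w hw
    apply hker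
    intro u hu
    have hu' : n⁻¹ * u * n ∈ P := by
      have := ‹P.Normal›.conj_mem u hu n⁻¹
      simpa using this
    have h3 := hfix w hw _ hu'
    calc ρ u (ρ n w) = ρ (n * (n⁻¹ * u * n)) w := by
          rw [hρmul]; congr 2; group
      _ = ρ n (ρ (n⁻¹ * u * n) w) := by rw [hρmul]
      _ = ρ n w := by rw [h3]
  -- `N` preserves `range (ν ^ l)`
  have hNrange : ∀ (n : N) (l : ℕ) w, ρ n ((ν ^ l) w) ∈ LinearMap.range (ν ^ l) := by
    intro n l w
    have hc : n * x * n⁻¹ ∈ P := ‹P.Normal›.conj_mem x hxP n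
    obtain ⟨k, hk⟩ := hgen _ hc
    set s : V →ₗ[F] V := ∑ i ∈ Finset.range k, (ρ x) ^ i with hs
    have hνs : ρ (n * x * n⁻¹) - 1 = ν * s := by
      rw [hk, map_pow, hν, hs, mul_geom_sum]
    have hcomm : Commute ν s := by
      rw [hν, hs]
      apply Commute.sum_right
      intro i _
      apply Commute.pow_right
      exact (Commute.refl (ρ x)).sub_left (Commute.one_left _)
    have hconj : ∀ w, ρ n (ν w) = (ν * s) (ρ n w) := by
      intro w
      rw [← hνs]
      simp only [hν, LinearMap.sub_apply, Module.End.one_apply, map_sub]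
      congr 1
      rw [hρmul, hρmul]
      congr 2; group
    have hconjl : ∀ (l : ℕ) w, ρ n ((ν ^ l) w) = ((ν * s) ^ l) (ρ n w) := by
      intro l
      induction l with
      | zero => intro w; simp
      | succ l ih =>
        intro w
        have e1 : (ν ^ (l + 1)) w = ν ((ν ^ l) w) := by rw [pow_succ', Module.End.mul_apply]
        have e2 : ((ν * s) ^ (l + 1)) (ρ n w) = (ν * s) (((ν * s) ^ l) (ρ n w)) := by
          rw [pow_succ', Module.End.mul_apply]
        rw [e1, e2, hconj, ih]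
    rw [hconjl, hcomm.mul_pow, Module.End.mul_apply]
    exact ⟨_, rfl⟩
  -- the projection onto the `μ₁`-part
  set β₀ : V →ₗ[F] V :=
    ((Nat.card H : ℕ) : F)⁻¹ • ∑ h : H, (((μ₁ (h : N))⁻¹ : Fˣ) : F) • ρ (h : N) with hβ₀def
  have hβ₀form : ∀ q, β₀ q =
      ((Nat.card H : ℕ) : F)⁻¹ • ∑ h : H, (((μ₁ (h : N))⁻¹ : Fˣ) : F) • ρ (h : N) q := by
    intro q
    simp [hβ₀def, LinearMap.sum_apply]
  have hβ₀ : ∀ (l : ℕ) (q : V), ν q = 0 → q ∈ LinearMap.range (ν ^ l) →
      ν (β₀ q) = 0 ∧ β₀ q ∈ LinearMap.range (ν ^ l) := by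
    intro l q hq hql
    constructor
    · rw [hβ₀form, map_smul, map_sum, Finset.sum_eq_zero, smul_zero]
      intro h _
      rw [map_smul, hNker _ _ hq, smul_zero]
    · rw [hβ₀form]
      apply Submodule.smul_mem
      apply Submodule.sum_mem
      intro h _
      apply Submodule.smul_mem
      obtain ⟨w, rfl⟩ := hql
      exact hNrange _ _ _
  -- Jordan basis and the extension
  obtain ⟨ι, _, e, v, he, hv, hli, hsp⟩ := Cfsg.Agent.Lib.Helper46.DefOneMJ.MJ ν ⟨p, hνp⟩
  let b : Module.Basis (Σ i, Fin (e i)) F V := Module.Basis.mk hli hsp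
  have hb : ∀ y, b y = jfam e v ν y := fun y => by
    simp only [b, Module.Basis.mk_apply, jfam]
  obtain ⟨β', hβ'ν, hβ'0⟩ := exists_comm_extension b hb hv he β₀ hβ₀
  have hβ'P : ∀ u ∈ P, ∀ w, β' (ρ u w) = ρ u (β' w) := by
    intro u hu w
    obtain ⟨k, rfl⟩ := hgen u hu
    exact comm_pow_of_comm ρ β' hβ'ν k w
  -- semi-invariants are `P`-fixed
  have hμP : ∀ (μ : N →* Fˣ), ∀ u ∈ P, μ u = 1 := by
    intro μ u hu
    apply hom_eq_one_of_pow_eq_one (p := p) μ
    have : (⟨u, hu⟩ : P) ^ Nat.card P = 1 := pow_card_eq_one'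
    rw [hP] at this
    have := congrArg Subtype.val this
    simpa using this
  have hz₁ν : ν z₁ = 0 := hker z₁ fun u hu => by rw [h₁, hμP μ₁ u hu]; simp
  have hz₂ν : ν z₂ = 0 := hker z₂ fun u hu => by rw [h₂, hμP μ₂ u hu]; simp
  -- values of `β₀`
  have hβ₀z₁ : β₀ z₁ = z₁ := by
    rw [hβ₀form]
    have : ∀ h : H, (((μ₁ (h : N))⁻¹ : Fˣ) : F) • ρ (h : N) z₁ = z₁ := by
      intro h
      rw [h₁, smul_smul, Units.inv_mul, one_smul]
    simp only [this, Finset.sum_const, Finset.card_univ]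
    rw [← Nat.cast_smul_eq_nsmul F, hcardH, smul_smul, inv_mul_cancel₀ hcH, one_smul]
  have hβ₀z₂ : β₀ z₂ = 0 := by
    rw [hβ₀form]
    have hterm : ∀ h : H, (((μ₁ (h : N))⁻¹ : Fˣ) : F) • ρ (h : N) z₂ =
        (((μ₁ (h : N))⁻¹ * μ₂ (h : N) : Fˣ) : F) • z₂ := by
      intro h
      rw [h₂, smul_smul, Units.val_mul]
    simp only [hterm]
    rw [← Finset.sum_smul]
    -- the character sum vanishes
    have hS : ∑ h : H, (((μ₁ (h : N))⁻¹ * μ₂ (h : N) : Fˣ) : F) = 0 := by
      obtain ⟨h₀, hh₀⟩ : ∃ h₀ : H, μ₁ (h₀ : N) ≠ μ₂ (h₀ : N) := by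
        by_contra hcon
        push Not at hcon
        apply hμ
        ext n
        obtain ⟨u, hu, h, hh, rfl⟩ := hdecomp n
        rw [map_mul, map_mul, hμP μ₁ u hu, hμP μ₂ u hu, hcon ⟨h, hh⟩]
      set S : F := ∑ h : H, (((μ₁ (h : N))⁻¹ * μ₂ (h : N) : Fˣ) : F) with hSdef
      have hmul : (((μ₁ (h₀ : N))⁻¹ * μ₂ (h₀ : N) : Fˣ) : F) * S = S := by
        rw [hSdef, Finset.mul_sum]
        refine Fintype.sum_equiv (Equiv.mulLeft h₀) _ _ ?_
        intro h
        rw [← Units.val_mul]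
        congr 1
        simp only [Equiv.coe_mulLeft, Subgroup.coe_mul, map_mul, mul_inv]
        rw [mul_mul_mul_comm]
      have hne : (((μ₁ (h₀ : N))⁻¹ * μ₂ (h₀ : N) : Fˣ) : F) ≠ 1 := by
        intro h
        apply hh₀
        have h' : (μ₁ (h₀ : N))⁻¹ * μ₂ (h₀ : N) = 1 := Units.ext (by simpa using h)
        rw [inv_mul_eq_one] at h'
        exact h'
      have : ((((μ₁ (h₀ : N))⁻¹ * μ₂ (h₀ : N) : Fˣ) : F) - 1) * S = 0 := by
        rw [sub_mul, hmul, one_mul, sub_self]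
      rcases mul_eq_zero.mp this with h | h
      · exact absurd (sub_eq_zero.mp h) hne
      · exact h
    rw [hS, zero_smul, smul_zero]
  -- the averaged endomorphism
  set β : V →ₗ[F] V :=
    ((Nat.card H : ℕ) : F)⁻¹ • ∑ h : H, ρ (h : N) ∘ₗ β' ∘ₗ ρ ((h : N)⁻¹) with hβdef
  have hβform : ∀ w, β w =
      ((Nat.card H : ℕ) : F)⁻¹ • ∑ h : H, ρ (h : N) (β' (ρ ((h : N)⁻¹) w)) := by
    intro w
    simp [hβdef, LinearMap.sum_apply]
  have hβP : ∀ u ∈ P, ∀ w, ρ u (β w) = β (ρ u w) := by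
    intro u hu w
    rw [hβform, hβform, map_smul, map_sum]
    congr 1
    refine Finset.sum_congr rfl fun h _ => ?_
    have hu' : (h : N)⁻¹ * u * (h : N) ∈ P := by
      have := ‹P.Normal›.conj_mem u hu (h : N)⁻¹
      simpa using this
    have e1 : ρ ((h : N)⁻¹) (ρ u w) = ρ ((h : N)⁻¹ * u * (h : N)) (ρ ((h : N)⁻¹) w) := by
      rw [hρmul, hρmul]; congr 2; group
    rw [e1, hβ'P _ hu', hρmul, hρmul]
    congr 2; group
  have hβH : ∀ h₀ ∈ H, ∀ w, ρ h₀ (β w) = β (ρ h₀ w) := by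
    intro h₀ hh₀ w
    rw [hβform, hβform, map_smul, map_sum]
    congr 1
    refine Fintype.sum_equiv (Equiv.mulLeft (⟨h₀, hh₀⟩ : H)) _ _ ?_
    intro h
    simp only [Equiv.coe_mulLeft, Subgroup.coe_mul]
    rw [hρmul, hρmul]
    congr 3; group
  have hβN : ∀ n, ρ n ∘ₗ β = β ∘ₗ ρ n := by
    intro n
    obtain ⟨u, hu, h, hh, rfl⟩ := hdecomp n
    ext w
    simp only [LinearMap.comp_apply]
    rw [← hρmul, ← hρmul, hβH h hh, hβP u hu]
  have hβz : ∀ (μ : N →* Fˣ) (z : V), (∀ n, ρ n z = ((μ n : Fˣ) : F) • z) → ν z = 0 →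
      β z = ((Nat.card H : ℕ) : F)⁻¹ •
        ∑ h : H, (((μ (h : N))⁻¹ : Fˣ) : F) • ρ (h : N) (β₀ z) := by
    intro μ z hz hzν
    rw [hβform]
    congr 1
    refine Finset.sum_congr rfl fun h _ => ?_
    rw [hz, map_smul, map_smul, hβ'0 z hzν, map_inv]
  have hβz₁ : β z₁ = z₁ := by
    rw [hβz μ₁ z₁ h₁ hz₁ν, hβ₀z₁, ← hβ₀form, hβ₀z₁]
  have hβz₂ : β z₂ = 0 := by
    rw [hβz μ₂ z₂ h₂ hz₂ν, hβ₀z₂]
    simp
  refine ⟨β, hβN, ?_⟩
  -- `N`-traces map `ker ν` into `range (trOne ρ P)`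
  have hT : ∀ (γ : V →ₗ[F] V) (q : V), ν q = 0 →
      (∑ n : N, ρ n ∘ₗ γ ∘ₗ ρ n⁻¹) q ∈ LinearMap.range (trOne ρ P) := by
    intro γ q hq
    refine ⟨∑ h : H, ρ (h : N) (γ (ρ ((h : N)⁻¹) q)), ?_⟩
    rw [trOne_apply, LinearMap.sum_apply]
    rw [Finset.sum_subtype (Finset.univ.filter fun g : N => g ∈ P) (p := fun g => g ∈ P)
      (by intro g; simp)]
    let φ : ↥P × ↥H ≃ N := Equiv.ofBijective _ hPH
    rw [← Equiv.sum_comp φ, Fintype.sum_prod_type]
    refine Finset.sum_congr rfl fun u _ => ?_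
    rw [map_sum]
    refine Finset.sum_congr rfl fun h _ => ?_
    have hφ : φ (u, h) = (u : N) * (h : N) := rfl
    rw [hφ]
    simp only [LinearMap.comp_apply]
    have hu' : (u : N)⁻¹ ∈ P := P.inv_mem u.2
    have e1 : ρ ((u : N) * (h : N))⁻¹ q = ρ ((h : N)⁻¹) q := by
      rw [mul_inv_rev, ← hρmul, hfix q hq _ hu']
    rw [e1, hρmul]
  intro c₁ c₂ hγ
  obtain ⟨γ, hγ⟩ := hγ
  have hR₁ : (c₁ + c₂) • z₁ ∈ LinearMap.range (trOne ρ P) := by
    have := hT γ z₁ hz₁ν
    rw [← hγ] at this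
    simpa [hβz₁, add_smul] using this
  have hR₂ : c₂ • z₂ ∈ LinearMap.range (trOne ρ P) := by
    have := hT γ z₂ hz₂ν
    rw [← hγ] at this
    simpa [hβz₂] using this
  have hc₂ : c₂ = 0 := by
    by_contra hne
    apply hz₂
    have := Submodule.smul_mem _ c₂⁻¹ hR₂
    rwa [smul_smul, inv_mul_cancel₀ hne, one_smul] at this
  have hc₁₂ : c₁ + c₂ = 0 := by
    by_contra hne
    apply hz₁
    have := Submodule.smul_mem _ (c₁ + c₂)⁻¹ hR₁
    rwa [smul_smul, inv_mul_cancel₀ hne, one_smul] at this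
  refine ⟨?_, hc₂⟩
  rw [hc₂, add_zero] at hc₁₂
  exact hc₁₂

end Main

end Cfsg.Agent.Lib.Helper71.DefOneM2
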