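import Mathlib
import Cfsg.Prelude.Def_Solvable

set_option autoImplicit false

namespace Cfsg.Agent.Lib.Helper71

open scoped Pointwise

universe u v

/-- Membership in a conjugate subgroup. -/
theorem mem_conj_smul_iff {G : Type*} [Group G] (H : Subgroup G) (g x : G) :
    x ∈ MulAut.conj g • H ↔ g⁻¹ * x * g ∈ H := by
  rw [Subgroup.mem_pointwise_smul_iff_inv_smul_mem]
  simp [MulAut.smul_def]

/-- Being a Frobenius complement is transported by group isomorphisms. -/
theorem isFrobeniusComplement_map_equiv {G : Type*} {G' : Type*} [Group G] [Group G']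
    (e : G ≃* G') (H : Subgroup G) (hH : Cfsg.IsFrobeniusComplement H) :
    Cfsg.IsFrobeniusComplement (H.map e.toMonoidHom) := by
  obtain ⟨h1, h2, h3⟩ := hH
  refine ⟨?_, ?_, ?_⟩
  · intro h
    apply h1
    rw [Subgroup.map_eq_bot_iff_of_injective _ e.injective] at h
    exact h
  · intro h
    apply h2
    rw [eq_top_iff]
    intro x _
    have : e x ∈ H.map e.toMonoidHom := by rw [h]; trivial
    obtain ⟨y, hy, hxy⟩ := this
    have : y = x := e.injective hxy
    rwa [← this]
  · intro g hg
    rw [eq_bot_iff]
    intro x hx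
    rw [Subgroup.mem_inf, mem_conj_smul_iff] at hx
    obtain ⟨⟨y, hy, rfl⟩, ⟨z, hz, hz'⟩⟩ := hx
    rw [Subgroup.mem_bot]
    have hg' : e.symm g ∉ H := by
      intro hcon
      apply hg
      exact ⟨e.symm g, hcon, by simp⟩
    have hmem : y ∈ H ⊓ MulAut.conj (e.symm g) • H := by
      rw [Subgroup.mem_inf, mem_conj_smul_iff]
      refine ⟨hy, ?_⟩
      have : z = (e.symm g)⁻¹ * y * e.symm g := by
        apply e.injective
        simp only [MulEquiv.coe_toMonoidHom] at hz'
        simp [hz']
      rwa [← this]
    rw [h3 _ hg', Subgroup.mem_bot] at hmem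
    simp [hmem]

/-- A Frobenius complement in a finite group of any universe can be realised in `Type`. -/
theorem exists_frobeniusComplement_type0 {L' : Type u} [Group L'] [Finite L'] (H' : Subgroup L')
    (hH' : Cfsg.IsFrobeniusComplement H') :
    ∃ (L : Type) (_ : Group L) (_ : Finite L) (H : Subgroup L),
      Cfsg.IsFrobeniusComplement H ∧ Nonempty (H' ≃* H) := by
  have : Small.{0} L' := Countable.toSmall L'
  let e' : L' ≃* Shrink.{0} L' := (Shrink.mulEquiv (α := L')).symm
  have hfin : Finite (Shrink.{0} L') := Finite.of_equiv L' e'.toEquiv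
  refine ⟨Shrink.{0} L', inferInstance, hfin, H'.map e'.toMonoidHom,
    isFrobeniusComplement_map_equiv e' H' hH', ⟨?_⟩⟩
  exact (e'.subgroupMap H')

/-- The complement of a semidirect product with a free action is a Frobenius complement. -/
theorem isFrobeniusComplement_inr_range {N : Type u} {K : Type v} [Group N] [Group K]
    [Nontrivial N] [Nontrivial K] (φ : K →* MulAut N)
    (hfree : ∀ k : K, ∀ n : N, φ k n = n → k = 1 ∨ n = 1) :
    Cfsg.IsFrobeniusComplement (SemidirectProduct.inr : K →* N ⋊[φ] K).range := by
  refine ⟨?_, ?_, ?_⟩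
  · intro h
    obtain ⟨k, hk⟩ := exists_ne (1 : K)
    apply hk
    have : (SemidirectProduct.inr k : N ⋊[φ] K) ∈ (SemidirectProduct.inr : K →* N ⋊[φ] K).range :=
      ⟨k, rfl⟩
    rw [h, Subgroup.mem_bot] at this
    have := congrArg SemidirectProduct.right this
    simpa using this
  · intro h
    obtain ⟨n, hn⟩ := exists_ne (1 : N)
    apply hn
    have : (SemidirectProduct.inl n : N ⋊[φ] K) ∈ (SemidirectProduct.inr : K →* N ⋊[φ] K).range := by
      rw [h]; trivial
    obtain ⟨k, hk⟩ := this
    have := congrArg SemidirectProduct.left hk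
    simpa using this.symm
  · intro g hg
    rw [eq_bot_iff]
    intro x hx
    rw [Subgroup.mem_inf, mem_conj_smul_iff] at hx
    obtain ⟨⟨k, rfl⟩, ⟨k', hk'⟩⟩ := hx
    rw [Subgroup.mem_bot]
    have hgl : g.left ≠ 1 := by
      intro hcon
      apply hg
      refine ⟨g.right, ?_⟩
      ext <;> simp [hcon]
    -- compare left components
    have h1 : SemidirectProduct.inr k * g = g * SemidirectProduct.inr k' := by
      rw [hk']; group
    have h2 := congrArg SemidirectProduct.left h1
    simp only [SemidirectProduct.mul_left, SemidirectProduct.left_inr, one_mul, map_one,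
      mul_one] at h2
    rcases hfree k g.left (by simpa using h2) with h | h
    · simp [h]
    · exact absurd h hgl

/-- A finite nontrivial group acting freely by automorphisms on a finite nontrivial additive group
is (isomorphic to) a Frobenius complement in a finite group living in `Type`. -/
theorem exists_frobeniusComplement_of_free_action {K : Type u} {M : Type v} [Group K] [AddGroup M]
    [DistribMulAction K M] [Finite K] [Finite M] [Nontrivial K] [Nontrivial M]
    (hfree : ∀ k : K, ∀ m : M, k • m = m → k = 1 ∨ m = 0) :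
    ∃ (L : Type) (_ : Group L) (_ : Finite L) (H : Subgroup L),
      Cfsg.IsFrobeniusComplement H ∧ Nonempty (K ≃* H) := by
  let φ : K →* MulAut (Multiplicative M) :=
    (MulAutMultiplicative M).symm.toMonoidHom.comp (DistribMulAction.toAddAut K M)
  have hφ : ∀ k n, φ k n = Multiplicative.ofAdd (k • Multiplicative.toAdd n) := fun k n => rfl
  have hF : Cfsg.IsFrobeniusComplement
      (SemidirectProduct.inr : K →* Multiplicative M ⋊[φ] K).range := by
    apply isFrobeniusComplement_inr_range
    intro k n hn
    rcases hfree k (Multiplicative.toAdd n) (by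
      rw [hφ] at hn
      exact congrArg Multiplicative.toAdd hn) with h | h
    · exact Or.inl h
    · right
      exact Multiplicative.toAdd.injective h
  have hfin : Finite (Multiplicative M ⋊[φ] K) :=
    Finite.of_equiv _ (SemidirectProduct.equivProd (φ := φ)).symm
  obtain ⟨L, iG, iF, H, hH, ⟨e⟩⟩ := exists_frobeniusComplement_type0 _ hF
  refine ⟨L, iG, iF, H, hH, ⟨?_⟩⟩
  exact (MonoidHom.ofInjective (SemidirectProduct.inr_injective (φ := φ))).trans e

end Cfsg.Agent.Lib.Helper71
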