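import Mathlib
import Cfsg.Agent.Lib.Helper9.PGroupLemmas
import Cfsg.Agent.Lib.Helper63.PGroupBasic
import Cfsg.Agent.Lib.Helper71.GCChar

/-!
# Group-theoretic lemmas for S4845 (helper71)
-/

set_option autoImplicit false
set_option linter.unusedSectionVars false

namespace Cfsg.Agent.Lib.Helper71

open Cfsg Cfsg.Agent.Lib
open scoped commutatorElement

universe u

section PG

variable {P : Type u} [Group P] [Finite P] {p : ℕ} [hp : Fact p.Prime]

/-- a nontrivial normal subgroup of a `p`-group contains a central subgroup of order `p` -/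
theorem gc_exists_central_order_p (hP : IsPGroup p P) (K : Subgroup P) [K.Normal] (hK : K ≠ ⊥) :
    ∃ N : Subgroup P, N ≤ K ∧ N ≤ Subgroup.center P ∧ Nat.card N = p := by
  obtain ⟨z, hzK, hz1, hzc⟩ := Helper9.exists_ne_one_mem_center_of_normal hP K hK
  set M : Subgroup P := K ⊓ Subgroup.center P with hM
  have hMne : Nontrivial M :=
    ⟨⟨⟨z, Subgroup.mem_inf.mpr ⟨hzK, hzc⟩⟩, 1, fun h => hz1 (congrArg Subtype.val h)⟩⟩
  have hMp : IsPGroup p M := hP.to_subgroup M
  obtain ⟨n, hn0, hn⟩ := hMp.nontrivial_iff_card.mp hMne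
  have hdvd : p ∣ Nat.card M := hn.symm ▸ dvd_pow_self _ (ne_of_gt hn0)
  obtain ⟨x, hx⟩ := exists_prime_orderOf_dvd_card' p hdvd
  refine ⟨Subgroup.zpowers (x : P), ?_, ?_, ?_⟩
  · rw [Subgroup.zpowers_le]; exact (Subgroup.mem_inf.mp x.2).1
  · rw [Subgroup.zpowers_le]; exact (Subgroup.mem_inf.mp x.2).2
  · rw [Nat.card_zpowers, Subgroup.orderOf_coe, hx]

theorem gc_normal_of_le_center (N : Subgroup P) (hN : N ≤ Subgroup.center P) : N.Normal := by
  constructor
  intro n hn g
  have := Subgroup.mem_center_iff.mp (hN hn) g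
  rw [this, mul_inv_cancel_right]
  exact hn

/-- sandwich lemma: between a subgroup of order `p` and one of order `p²` -/
theorem gc_sandwich {N M D : Subgroup P} (hNM : N ≤ M) (hMD : M ≤ D) (hN : Nat.card N = p)
    (hD : Nat.card D = p ^ 2) : M = N ∨ M = D := by
  have h1 : Nat.card N ∣ Nat.card M := Subgroup.card_dvd_of_le hNM
  have h2 : Nat.card M ∣ Nat.card D := Subgroup.card_dvd_of_le hMD
  rw [hN] at h1
  rw [hD] at h2
  obtain ⟨j, hj, hjj⟩ := (Nat.dvd_prime_pow hp.out).mp h2
  have hj' : j = 1 ∨ j = 2 := by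
    have : j ≠ 0 := by
      rintro rfl
      rw [pow_zero] at hjj
      rw [hjj] at h1
      exact hp.out.one_lt.ne' (Nat.dvd_one.mp h1)
    omega
  rcases hj' with rfl | rfl
  · left
    symm
    apply Subgroup.eq_of_le_of_card_ge hNM
    rw [hjj, hN, pow_one]
  · right
    apply Subgroup.eq_of_le_of_card_ge hMD
    rw [hjj, hD]

/-- `|P'| = |(P/N)'| |N|` for `N ≤ P'` -/
theorem gc_card_commutator_quotient (N : Subgroup P) [N.Normal] (hN : N ≤ commutator P) :
    Nat.card (commutator P) = Nat.card (commutator (P ⧸ N)) * Nat.card N := by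
  have hmap : commutator (P ⧸ N) = (commutator P).map (QuotientGroup.mk' N) := by
    rw [commutator_def, commutator_def, Subgroup.map_commutator,
      Subgroup.map_top_of_surjective _ (QuotientGroup.mk'_surjective N)]
  have hcomap : (commutator (P ⧸ N)).comap (QuotientGroup.mk' N) = commutator P := by
    rw [hmap, Subgroup.comap_map_eq, QuotientGroup.ker_mk', sup_of_le_left hN]
  have hidx : (commutator P).index = (commutator (P ⧸ N)).index := by
    rw [← hcomap, Subgroup.index_comap_of_surjective _ (QuotientGroup.mk'_surjective N)]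
  have h1 := (commutator P).card_mul_index
  have h2 := (commutator (P ⧸ N)).card_mul_index
  have h3 := N.card_eq_card_quotient_mul_card_subgroup
  have hpos : 0 < (commutator P).index :=
    Nat.pos_of_ne_zero Subgroup.index_ne_zero_of_finite
  rw [hidx] at h1 hpos
  have : Nat.card (commutator P) * (commutator (P ⧸ N)).index =
      Nat.card (commutator (P ⧸ N)) * Nat.card N * (commutator (P ⧸ N)).index := by
    rw [h1, h3, ← h2]; ring
  exact Nat.eq_of_mul_eq_mul_right hpos this

/-- Lemma T: `⁅a' * x, w⁆ = ⁅x, w⁆` when `a'` commutes with `w` and with `⁅x, w⁆`. -/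
theorem gc_commutator_mul_left_eq (a' x w : P) (h1 : a' * w = w * a')
    (h2 : a' * ⁅x, w⁆ = ⁅x, w⁆ * a') : ⁅a' * x, w⁆ = ⁅x, w⁆ := by
  have key : ⁅a' * x, w⁆ = a' * ⁅x, w⁆ * a'⁻¹ * ⁅a', w⁆ := by
    simp only [commutatorElement_def]; group
  rw [key, commutatorElement_eq_one_iff_mul_comm.mpr h1, mul_one, h2, mul_inv_cancel_right]

/-- In the non-class-2 situation, `P ⧸ N` has an abelian normal subgroup of index dividing `p`. -/
theorem gc_exists_abelian_quotient
    (N : Subgroup P) [N.Normal] (hNc : N ≤ Subgroup.center P) (hN : Nat.card N = p)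
    (hN' : N ≤ commutator P) (hcard : Nat.card (commutator P) = p ^ 2)
    (hcl : ∀ a ∈ commutator P, ∀ g : P, ⁅a, g⁆ ∈ N)
    (hnc : ¬ commutator P ≤ Subgroup.center P) :
    ∃ A : Subgroup (P ⧸ N), A.Normal ∧ (∀ a ∈ A, ∀ b ∈ A, a * b = b * a) ∧ A.index ∣ p := by
  obtain ⟨a, haP, hac⟩ := SetLike.not_le_iff_exists.mp hnc
  have haN : a ∉ N := fun h => hac (hNc h)
  -- `P'` is abelian
  have hab : ∀ b ∈ commutator P, ∀ c ∈ commutator P, b * c = c * b := by
    intro b hb c hc
    have h := (IsPGroup.isMulCommutative_of_card_eq_prime_sq (G := commutator P) hcard).is_comm.comm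
      ⟨b, hb⟩ ⟨c, hc⟩
    exact congrArg Subtype.val h
  -- `N = P' ⊓ Z(P)`
  have hNeq : commutator P ⊓ Subgroup.center P = N := by
    rcases gc_sandwich (le_inf hN' hNc) inf_le_left hN hcard with h | h
    · exact h
    · exfalso
      apply hac
      have : a ∈ commutator P ⊓ Subgroup.center P := by rw [h]; exact haP
      exact (Subgroup.mem_inf.mp this).2
  have hcomm_mem : ∀ x y : P, ⁅x, y⁆ ∈ commutator P := by
    intro x y
    rw [commutator_def]
    exact Subgroup.commutator_mem_commutator (Subgroup.mem_top x) (Subgroup.mem_top y)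
  set C : Subgroup P := Subgroup.centralizer (commutator P : Set P) with hC
  have hCn : C.Normal := Subgroup.normal_centralizer
  have hC_iff : ∀ x : P, x ∈ C ↔ ∀ b ∈ commutator P, b * x = x * b := by
    intro x
    rw [hC, Subgroup.mem_centralizer_iff]
    rfl
  -- Claim 2: the index of `C` divides `p`
  have hidx : C.index ∣ p := by
    have hca : ∀ g : P, ⁅g, a⁆ ∈ N := by
      intro g
      have := hcl a haP g
      rw [← commutatorElement_inv]
      exact N.inv_mem this
    let f : P →* P := MonoidHom.mk' (fun g => ⁅g, a⁆)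
      (fun g h => gc_commutatorElement_mul_left g h a (hNc (hca h)))
    have hrange : f.range ≤ N := by
      rintro _ ⟨g, rfl⟩
      exact hca g
    have hker : f.ker ≤ C := by
      intro x hx
      have hxa : x * a = a * x := commutatorElement_eq_one_iff_mul_comm.mp (MonoidHom.mem_ker.mp hx)
      set M' : Subgroup P := commutator P ⊓ Subgroup.centralizer ({x} : Set P) with hM'
      have hNM' : N ≤ M' := by
        intro n hn
        refine Subgroup.mem_inf.mpr ⟨hN' hn, ?_⟩
        rw [Subgroup.mem_centralizer_iff]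
        intro y hy
        rw [Set.mem_singleton_iff] at hy
        subst hy
        exact Subgroup.mem_center_iff.mp (hNc hn) y
      have haM' : a ∈ M' := by
        refine Subgroup.mem_inf.mpr ⟨haP, ?_⟩
        rw [Subgroup.mem_centralizer_iff]
        intro y hy
        rw [Set.mem_singleton_iff] at hy
        subst hy
        exact hxa
      rcases gc_sandwich hNM' inf_le_left hN hcard with h | h
      · exfalso; apply haN; rw [← h]; exact haM'
      · rw [hC_iff]
        intro b hb
        have : b ∈ M' := by rw [h]; exact hb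
        have h2 := (Subgroup.mem_inf.mp this).2
        rw [Subgroup.mem_centralizer_iff] at h2
        exact (h2 x rfl).symm
    have h1 : C.index ∣ f.ker.index := Subgroup.index_dvd_of_le hker
    rw [Subgroup.index_ker] at h1
    have h2 : Nat.card f.range ∣ Nat.card N := Subgroup.card_dvd_of_le hrange
    rw [hN] at h2
    exact h1.trans h2
  -- Claim 1: commutators of elements of `C` lie in `N`
  have hCC : ∀ x ∈ C, ∀ y ∈ C, ⁅x, y⁆ ∈ N := by
    intro x hx y hy
    rw [← hNeq]
    refine Subgroup.mem_inf.mpr ⟨hcomm_mem x y, ?_⟩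
    rw [Subgroup.mem_center_iff]
    intro g
    have hconj : g * ⁅x, y⁆ * g⁻¹ = ⁅x, y⁆ := by
      have h1 : g * ⁅x, y⁆ * g⁻¹ = ⁅⁅g, x⁆ * x, ⁅g, y⁆ * y⁆ := by
        simp only [commutatorElement_def]; group
      rw [h1]
      have hx' := (hC_iff x).mp hx
      have hy' := (hC_iff y).mp hy
      -- first step
      have s1 : ⁅⁅g, x⁆ * x, ⁅g, y⁆ * y⁆ = ⁅x, ⁅g, y⁆ * y⁆ := by
        apply gc_commutator_mul_left_eq
        · rw [← mul_assoc, hab _ (hcomm_mem g x) _ (hcomm_mem g y), mul_assoc,
            hy' _ (hcomm_mem g x), ← mul_assoc]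
        · exact hab _ (hcomm_mem g x) _ (hcomm_mem _ _)
      have s2 : ⁅⁅g, y⁆ * y, x⁆ = ⁅y, x⁆ := by
        apply gc_commutator_mul_left_eq
        · exact hx' _ (hcomm_mem g y)
        · exact hab _ (hcomm_mem g y) _ (hcomm_mem _ _)
      rw [s1, ← commutatorElement_inv, s2, commutatorElement_inv]
    calc g * ⁅x, y⁆ = g * ⁅x, y⁆ * g⁻¹ * g := by group
      _ = ⁅x, y⁆ * g := by rw [hconj]
  have hNC : N ≤ C := by
    intro n hn
    rw [hC_iff]
    intro b _
    exact Subgroup.mem_center_iff.mp (hNc hn) b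
  refine ⟨C.map (QuotientGroup.mk' N), ?_, ?_, ?_⟩
  · exact hCn.map _ (QuotientGroup.mk'_surjective N)
  · rintro _ ⟨x, hx, rfl⟩ _ ⟨y, hy, rfl⟩
    apply commutatorElement_eq_one_iff_mul_comm.mp
    rw [← map_commutatorElement]
    exact (QuotientGroup.eq_one_iff _).mpr (hCC x hx y hy)
  · rw [Subgroup.index_map_eq _ (QuotientGroup.mk'_surjective N)
      (by rw [QuotientGroup.ker_mk']; exact hNC)]
    exact hidx

/-- the derived subgroup of a quotient is the image of the derived subgroup -/
theorem gc_commutator_quotient_eq_map (N : Subgroup P) [N.Normal] :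
    commutator (P ⧸ N) = (commutator P).map (QuotientGroup.mk' N) := by
  rw [commutator_def, commutator_def, Subgroup.map_commutator,
    Subgroup.map_top_of_surjective _ (QuotientGroup.mk'_surjective N)]

/-- if `P ⧸ N` is commutative then `P' ≤ N` -/
theorem gc_commutator_le_of_quotient_comm (N : Subgroup P) [N.Normal]
    (h : ∀ a b : P ⧸ N, a * b = b * a) : commutator P ≤ N := by
  rw [commutator_def, Subgroup.commutator_le]
  intro g _ k _
  apply (QuotientGroup.eq_one_iff _).mp
  have h1 : ((⁅g, k⁆ : P) : P ⧸ N) = ⁅(g : P ⧸ N), (k : P ⧸ N)⁆ :=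
    map_commutatorElement (QuotientGroup.mk' N) g k
  rw [h1]
  exact commutatorElement_eq_one_iff_mul_comm.mpr (h _ _)

end PG

section Misc

/-- In a finite cyclic group, subgroups of equal order are equal. -/
theorem gc_cyclic_subgroup_unique {Z : Type*} [Group Z] [Finite Z] [IsCyclic Z]
    (U U' : Subgroup Z) (h : Nat.card U = Nat.card U') : U = U' := by
  classical
  have : Fintype Z := Fintype.ofFinite Z
  set n := Nat.card U with hn
  have hn0 : 0 < n := Nat.card_pos
  have hT : ({x : Z | x ^ n = 1} : Set Z).ncard ≤ n := by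
    have h1 := IsCyclic.card_pow_eq_one_le (α := Z) hn0
    rw [Set.ncard_eq_toFinset_card']
    convert h1 using 2
    ext x
    simp
  have key : ∀ W : Subgroup Z, Nat.card W = n → (W : Set Z) = {x : Z | x ^ n = 1} := by
    intro W hW
    apply Set.eq_of_subset_of_ncard_le _ _ (Set.toFinite _)
    · intro x hx
      have := pow_card_eq_one' (G := W) (x := ⟨x, hx⟩)
      rw [hW] at this
      have h2 := congrArg Subtype.val this
      simpa using h2
    · rw [← Nat.card_coe_set_eq (W : Set Z)]
      show _ ≤ Nat.card W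
      rw [hW]; exact hT
  exact SetLike.coe_injective ((key U rfl).trans (key U' h.symm).symm)

/-- a subgroup of prime order meets a subgroup not containing it trivially -/
theorem gc_inf_eq_bot_of_prime_card {G : Type*} [Group G] {p : ℕ} [hp : Fact p.Prime]
    (N K : Subgroup G) (hN : Nat.card N = p) {n : G} (hn : n ∈ N) (hnK : n ∉ K) :
    N ⊓ K = ⊥ := by
  have hfin : Finite N := Nat.finite_of_card_ne_zero (by rw [hN]; exact hp.out.ne_zero)
  have h1 : Nat.card (N ⊓ K : Subgroup G) ∣ Nat.card N := Subgroup.card_dvd_of_le inf_le_left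
  rw [hN] at h1
  rcases (Nat.dvd_prime hp.out).mp h1 with h | h
  · exact Subgroup.card_eq_one.mp h
  · exfalso
    apply hnK
    have : N ⊓ K = N := Subgroup.eq_of_le_of_card_ge inf_le_left (by rw [h, hN])
    have h2 : n ∈ N ⊓ K := by rw [this]; exact hn
    exact (Subgroup.mem_inf.mp h2).2

end Misc

end Cfsg.Agent.Lib.Helper71
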