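import Mathlib
import Cfsg.Agent.Lib.Helper71.GCChar
import Cfsg.Agent.Lib.Helper71.GCGroup

/-!
# S4845, the direction `⇐` (helper71)
-/

set_option autoImplicit false
set_option linter.unusedSectionVars false

namespace Cfsg.Agent.Lib.Helper71

open Cfsg Cfsg.Agent.Lib
open scoped commutatorElement

universe u

section Back

variable {P : Type u} [Group P] [Fintype P] {p : ℕ} [hp : Fact p.Prime]

/-- nonlinear characters are faithful on the centre -/
theorem gc_back_faithful (hP : IsPGroup p P) (hcyc : IsCyclic (Subgroup.center P))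
    (hcard : Nat.card (commutator P) = p) (χ : IrrCharacter P)
    (h1 : charDegree (χ : P → ℂ) ≠ 1) :
    Helper77.irrKer χ ⊓ Subgroup.center P = ⊥ := by
  have hPc : commutator P ≤ Subgroup.center P :=
    Helper63.normal_card_prime_le_center hP (commutator P) hcard
  -- `P' ⊓ ker χ = ⊥`
  obtain ⟨c, hcP, hcK⟩ := SetLike.not_le_iff_exists.mp (gc_not_commutator_le χ h1)
  have hPK : commutator P ⊓ Helper77.irrKer χ = ⊥ :=
    gc_inf_eq_bot_of_prime_card _ _ hcard hcP hcK
  by_contra hne
  set M : Subgroup P := Helper77.irrKer χ ⊓ Subgroup.center P with hM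
  have hMne : Nontrivial M := (Subgroup.nontrivial_iff_ne_bot M).mpr hne
  have hMp : IsPGroup p M := hP.to_subgroup M
  obtain ⟨n, hn0, hn⟩ := hMp.nontrivial_iff_card.mp hMne
  have hdvd : p ∣ Nat.card M := hn.symm ▸ dvd_pow_self _ (ne_of_gt hn0)
  obtain ⟨x, hx⟩ := exists_prime_orderOf_dvd_card' p hdvd
  have hxK : (x : P) ∈ Helper77.irrKer χ := (Subgroup.mem_inf.mp x.2).1
  have hxZ : (x : P) ∈ Subgroup.center P := (Subgroup.mem_inf.mp x.2).2
  have hox : orderOf (x : P) = p := by rw [Subgroup.orderOf_coe, hx]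
  -- two subgroups of order `p` in the cyclic centre
  have hU : Nat.card ((commutator P).subgroupOf (Subgroup.center P)) = p := by
    rw [Nat.card_congr (Subgroup.subgroupOfEquivOfLe hPc).toEquiv, hcard]
  have hU' : Nat.card (Subgroup.zpowers (⟨(x : P), hxZ⟩ : Subgroup.center P)) = p := by
    rw [Nat.card_zpowers, Subgroup.orderOf_mk, hox]
  have heq := gc_cyclic_subgroup_unique _ _ (hU.trans hU'.symm)
  have hxU : (⟨(x : P), hxZ⟩ : Subgroup.center P) ∈
      (commutator P).subgroupOf (Subgroup.center P) := by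
    rw [heq]; exact Subgroup.mem_zpowers _
  rw [Subgroup.mem_subgroupOf] at hxU
  have hx1 : (x : P) ∈ commutator P ⊓ Helper77.irrKer χ := Subgroup.mem_inf.mpr ⟨hxU, hxK⟩
  rw [hPK, Subgroup.mem_bot] at hx1
  rw [hx1, orderOf_one] at hox
  exact hp.out.one_lt.ne hox

/-- nonlinear characters vanish off the centre -/
theorem gc_back_vanish (hP : IsPGroup p P) (hcyc : IsCyclic (Subgroup.center P))
    (hcard : Nat.card (commutator P) = p) (χ : IrrCharacter P)
    (h1 : charDegree (χ : P → ℂ) ≠ 1) {g : P} (hg : g ∉ Subgroup.center P) :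
    (χ : P → ℂ) g = 0 := by
  have hPc : commutator P ≤ Subgroup.center P :=
    Helper63.normal_card_prime_le_center hP (commutator P) hcard
  have hf := gc_back_faithful hP hcyc hcard χ h1
  apply gc_vanish_off_irrCenter χ (hPc.trans (Helper78.center_le_irrCenter χ))
  intro hgZ
  apply hg
  rw [Subgroup.mem_center_iff]
  intro k
  have h2 := (Helper77.mem_irrCenter_iff_commutator χ g).mp hgZ k
  have h3 : ⁅g, k⁆ ∈ commutator P := by
    rw [commutator_def]
    exact Subgroup.commutator_mem_commutator (Subgroup.mem_top g) (Subgroup.mem_top k)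
  have h4 : ⁅g, k⁆ ∈ Helper77.irrKer χ ⊓ Subgroup.center P :=
    Subgroup.mem_inf.mpr ⟨h2, hPc h3⟩
  rw [hf, Subgroup.mem_bot] at h4
  exact (commutatorElement_eq_one_iff_mul_comm.mp h4).symm

/-- the central character of a nonlinear character -/
theorem gc_back_scalar (hP : IsPGroup p P) (hcyc : IsCyclic (Subgroup.center P))
    (hcard : Nat.card (commutator P) = p) (χ : IrrCharacter P)
    (h1 : charDegree (χ : P → ℂ) ≠ 1) :
    ∃ ω : Subgroup.center P →* ℂ, Function.Injective ω ∧
      ∀ z : Subgroup.center P, (χ : P → ℂ) (z : P) = (χ : P → ℂ) 1 * ω z := by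
  have hf := gc_back_faithful hP hcyc hcard χ h1
  refine ⟨(Helper77.irrCenterScalar χ).comp
    (Subgroup.inclusion (Helper78.center_le_irrCenter χ)), ?_, ?_⟩
  · rw [injective_iff_map_eq_one]
    intro z hz
    rw [MonoidHom.comp_apply, Helper77.irrCenterScalar_apply] at hz
    have hne := gc_irr_one_ne_zero χ
    have hz' : (χ : P → ℂ) (z : P) = (χ : P → ℂ) 1 := by
      have : (χ : P → ℂ) ((Subgroup.inclusion (Helper78.center_le_irrCenter χ) z : _) : P) =
          (χ : P → ℂ) 1 := by
        field_simp at hz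
        exact hz
      exact this
    have h2 : (z : P) ∈ Helper77.irrKer χ ⊓ Subgroup.center P :=
      Subgroup.mem_inf.mpr ⟨(Helper77.mem_irrKer χ _).mpr hz', z.2⟩
    rw [hf, Subgroup.mem_bot] at h2
    exact Subtype.ext h2
  · intro z
    have h2 := Helper77.irr_center_mul χ (Subgroup.inclusion (Helper78.center_le_irrCenter χ) z) 1
    rw [mul_one] at h2
    rw [MonoidHom.comp_apply, mul_comm]
    exact h2

/-- the direction `⇐` of S4845 -/
theorem gc_backward (hP : IsPGroup p P) (hcyc : IsCyclic (Subgroup.center P))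
    (hcard : Nat.card (commutator P) = p) : GCHyp P := by
  classical
  intro χ ψ h1 hdeg
  have h1' : charDegree (ψ : P → ℂ) ≠ 1 := hdeg ▸ h1
  have hPc : commutator P ≤ Subgroup.center P :=
    Helper63.normal_card_prime_le_center hP (commutator P) hcard
  obtain ⟨ωχ, hinjχ, hωχ⟩ := gc_back_scalar hP hcyc hcard χ h1
  obtain ⟨ωψ, hinjψ, hωψ⟩ := gc_back_scalar hP hcyc hcard ψ h1'
  obtain ⟨z₀, hz₀⟩ := IsCyclic.exists_generator (α := Subgroup.center P)
  set n := Nat.card (Subgroup.center P) with hn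
  have hord : orderOf z₀ = n := orderOf_eq_card_of_forall_mem_zpowers hz₀
  have hnpos : 0 < n := Nat.card_pos
  have _ : NeZero n := ⟨hnpos.ne'⟩
  have hζ : IsPrimitiveRoot (ωχ z₀) n :=
    IsPrimitiveRoot.iff_orderOf.mpr ((orderOf_injective ωχ hinjχ z₀).trans hord)
  have hξ : IsPrimitiveRoot (ωψ z₀) n :=
    IsPrimitiveRoot.iff_orderOf.mpr ((orderOf_injective ωψ hinjψ z₀).trans hord)
  obtain ⟨i, -, hicop, hi⟩ := hζ.isPrimitiveRoot_iff.mp hξ
  -- `i` is prime to `|P|`
  have hpn : p ∣ n := by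
    rw [← hcard]
    exact Subgroup.card_dvd_of_le hPc
  obtain ⟨m, hm⟩ := IsPGroup.iff_card.mp hP
  have hcop : Nat.Coprime i (Nat.card P) := by
    rw [hm]
    exact Nat.Coprime.pow_right m (Nat.Coprime.coprime_dvd_right hpn hicop)
  have h11 : (ψ : P → ℂ) 1 = (χ : P → ℂ) 1 := by
    rw [gc_irr_one, gc_irr_one, hdeg]
  -- the two central characters are related by the power `i`
  have hpow : ∀ z : Subgroup.center P, ωψ z = ωχ z ^ i := by
    intro z
    have hz : z ∈ Submonoid.powers z₀ := mem_powers_iff_mem_zpowers.mpr (hz₀ z)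
    obtain ⟨t, rfl⟩ := hz
    rw [map_pow, map_pow, ← hi, ← pow_mul, ← pow_mul, mul_comm]
  refine ⟨i, hcop, fun g => ?_⟩
  by_cases hg : g ∈ Subgroup.center P
  · have h2 := hωψ ⟨g, hg⟩
    have h3 := hωχ (⟨g, hg⟩ ^ i)
    rw [Subgroup.coe_pow] at h3
    simp only at h2 h3
    rw [h2, h3, map_pow, hpow, h11]
  · rw [gc_back_vanish hP hcyc hcard ψ h1' hg]
    have hg' : g ^ i ∉ Subgroup.center P := by
      rw [gc_pow_mem_iff _ g hcop]
      exact hg
    rw [gc_back_vanish hP hcyc hcard χ h1 hg']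

end Back

end Cfsg.Agent.Lib.Helper71
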