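import Mathlib
import Cfsg.Agent.Lib.Helper71.GCChar
import Cfsg.Agent.Lib.Helper71.GCGroup
import Cfsg.Agent.Lib.Helper75.Ito
import Cfsg.Agent.Lib.Helper79.Integrality

/-!
# S4845, the direction `⇒` (helper71)
-/

set_option autoImplicit false
set_option linter.unusedSectionVars false

namespace Cfsg.Agent.Lib.Helper71

open Cfsg Cfsg.Agent.Lib
open scoped commutatorElement

universe u

section Fwd

variable {P : Type u} [Group P] [Fintype P] {p : ℕ} [hp : Fact p.Prime]

/-- a character faithful on the centre forces the centre to be cyclic -/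
theorem gc_isCyclic_center_of_faithful (χ : IrrCharacter P)
    (h : Helper77.irrKer χ ⊓ Subgroup.center P = ⊥) : IsCyclic (Subgroup.center P) := by
  have hcyc := Helper77.isCyclic_irrCenter_quotient χ
  let f : Subgroup.center P →*
      Helper77.irrCenter χ ⧸ (Helper77.irrKer χ).subgroupOf (Helper77.irrCenter χ) :=
    (QuotientGroup.mk' _).comp (Subgroup.inclusion (Helper78.center_le_irrCenter χ))
  apply isCyclic_of_injective f
  rw [injective_iff_map_eq_one]
  intro z hz
  have h1 : Subgroup.inclusion (Helper78.center_le_irrCenter χ) z ∈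
      (Helper77.irrKer χ).subgroupOf (Helper77.irrCenter χ) :=
    (QuotientGroup.eq_one_iff _).mp hz
  rw [Subgroup.mem_subgroupOf] at h1
  have h2 : (z : P) ∈ Helper77.irrKer χ ⊓ Subgroup.center P :=
    Subgroup.mem_inf.mpr ⟨h1, z.2⟩
  rw [h, Subgroup.mem_bot] at h2
  exact Subtype.ext h2

theorem gc_commutatorElement_mem (x y : P) : ⁅x, y⁆ ∈ commutator P := by
  rw [commutator_def]
  exact Subgroup.commutator_mem_commutator (Subgroup.mem_top x) (Subgroup.mem_top y)

/-- the case where all nonlinear irreducible characters are faithful -/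
theorem gc_fwd_faithful_case (hP : IsPGroup p P) (hna : ¬ ∀ a b : P, a * b = b * a)
    (hall : ∀ χ : IrrCharacter P, charDegree (χ : P → ℂ) ≠ 1 → Helper77.irrKer χ = ⊥) :
    IsCyclic (Subgroup.center P) ∧ Nat.card (commutator P) = p := by
  classical
  obtain ⟨χ, hχ⟩ : ∃ χ : IrrCharacter P, charDegree (χ : P → ℂ) ≠ 1 := by
    by_contra h
    push Not at h
    exact hna (Helper80.commutative_of_forall_charDegree_eq_one h)
  constructor
  · apply gc_isCyclic_center_of_faithful χ
    rw [hall χ hχ]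
    exact bot_inf_eq _
  · have hne : commutator P ≠ ⊥ := by
      intro h
      apply hna
      intro a b
      have h1 := gc_commutatorElement_mem a b
      rw [h, Subgroup.mem_bot] at h1
      exact commutatorElement_eq_one_iff_mul_comm.mp h1
    obtain ⟨N, hNle, hNc, hN⟩ := gc_exists_central_order_p hP (commutator P) hne
    have hNn : N.Normal := gc_normal_of_le_center N hNc
    have hab : ∀ a b : P ⧸ N, a * b = b * a := by
      by_contra hnab
      have _ : Fintype (P ⧸ N) := Fintype.ofFinite _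
      obtain ⟨χ', hχ'⟩ : ∃ χ' : IrrCharacter (P ⧸ N), charDegree (χ' : P ⧸ N → ℂ) ≠ 1 := by
        by_contra h
        push Not at h
        exact hnab (Helper80.commutative_of_forall_charDegree_eq_one h)
      have h1 : charDegree ((Helper77.inflate N χ' : IrrCharacter P) : P → ℂ) ≠ 1 := by
        rw [Helper80.charDegree_inflate]; exact hχ'
      have h2 := hall _ h1
      have h3 : N ≤ Helper77.irrKer (Helper77.inflate N χ') := fun n hn =>
        (Helper77.mem_irrKer _ n).mpr (Helper77.inflate_apply_of_mem N χ' n hn)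
      rw [h2, le_bot_iff] at h3
      rw [h3, Subgroup.card_bot] at hN
      exact hp.out.one_lt.ne hN
    have : commutator P = N := le_antisymm (gc_commutator_le_of_quotient_comm N hab) hNle
    rw [this, hN]

/-- the inductive step: a nonfaithful nonlinear character leads to a contradiction -/
theorem gc_fwd_contra (hP : IsPGroup p P) (hH : GCHyp P) (N : Subgroup P) [N.Normal]
    (hNc : N ≤ Subgroup.center P) (hN : Nat.card N = p) (χ₀ : IrrCharacter P)
    (h0 : charDegree (χ₀ : P → ℂ) ≠ 1) (hNK : N ≤ Helper77.irrKer χ₀)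
    (hQ : Nat.card (commutator (P ⧸ N)) = p) : False := by
  classical
  have hK0le := hH.irrKer_le_commutator χ₀ h0
  have hN' : N ≤ commutator P := hNK.trans hK0le
  have hcard : Nat.card (commutator P) = p ^ 2 := by
    rw [gc_card_commutator_quotient N hN', hQ, hN, sq]
  have hK0 : Helper77.irrKer χ₀ = N := by
    rcases gc_sandwich hNK hK0le hN hcard with h | h
    · exact h
    · exact absurd (le_of_eq h.symm) (gc_not_commutator_le χ₀ h0)
  have hQc : commutator (P ⧸ N) ≤ Subgroup.center (P ⧸ N) :=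
    Helper63.normal_card_prime_le_center (hP.to_quotient N) _ hQ
  have hmem : ∀ a ∈ commutator P, ((a : P) : P ⧸ N) ∈ commutator (P ⧸ N) := by
    intro a ha
    rw [gc_commutator_quotient_eq_map]
    exact Subgroup.mem_map_of_mem _ ha
  have hcl : ∀ a ∈ commutator P, ∀ g : P, ⁅a, g⁆ ∈ N := by
    intro a ha g
    apply (QuotientGroup.eq_one_iff _).mp
    have h1 : ((⁅a, g⁆ : P) : P ⧸ N) = ⁅(a : P ⧸ N), (g : P ⧸ N)⁆ :=
      map_commutatorElement (QuotientGroup.mk' N) a g
    rw [h1]
    have h3 := Subgroup.mem_center_iff.mp (hQc (hmem a ha)) (g : P ⧸ N)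
    exact commutatorElement_eq_one_iff_mul_comm.mpr h3.symm
  have hZ0 : commutator P ≤ Helper77.irrCenter χ₀ := by
    intro a ha
    rw [Helper77.mem_irrCenter_iff_commutator]
    intro g
    rw [hK0]
    exact hcl a ha g
  have hNexp : ∀ x ∈ N, x ^ p = 1 := by
    intro x hx
    have h1 := pow_card_eq_one' (G := N) (x := ⟨x, hx⟩)
    rw [hN] at h1
    have h2 := congrArg Subtype.val h1
    simpa using h2
  obtain ⟨e₀, he₀, hidx₀⟩ := gc_index_center p χ₀ hZ0 (by rw [hK0]; exact hNc)
    (by rw [hK0]; exact hNexp)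
  -- a character not containing `N` in its kernel
  obtain ⟨n, hnN, hn1⟩ : ∃ n ∈ N, n ≠ 1 := by
    by_contra h
    push Not at h
    have hbot : N = ⊥ := (Subgroup.eq_bot_iff_forall N).mpr h
    rw [hbot, Subgroup.card_bot] at hN
    exact hp.out.one_lt.ne hN
  obtain ⟨χ₁, hχ₁⟩ := gc_exists_irr_not_mem_irrKer hn1
  have h1 : charDegree (χ₁ : P → ℂ) ≠ 1 := by
    intro h
    apply hχ₁
    rw [Helper77.mem_irrKer]
    have h11 : (χ₁ : P → ℂ) 1 = 1 := by rw [gc_irr_one, h]; simp
    rw [Helper77.linear_character_eq_one_of_mem_commutator χ₁ h11 n (hN' hnN), h11]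
  have hK1le := hH.irrKer_le_commutator χ₁ h1
  have hdne : charDegree (χ₀ : P → ℂ) ≠ charDegree (χ₁ : P → ℂ) := by
    intro h
    have h2 := hH.irrKer_eq χ₀ χ₁ h0 h
    apply hχ₁
    rw [h2, hK0]
    exact hnN
  by_cases hcls : commutator P ≤ Subgroup.center P
  · -- class 2
    have hNK1 : N ⊓ Helper77.irrKer χ₁ = ⊥ := gc_inf_eq_bot_of_prime_card N _ hN hnN hχ₁
    have hexp1 : ∀ x ∈ Helper77.irrKer χ₁, x ^ p = 1 := by
      intro x hx
      have h2 := hmem x (hK1le hx)
      have h3 : ((x : P) : P ⧸ N) ^ p = 1 := by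
        have h4 := pow_card_eq_one' (G := commutator (P ⧸ N)) (x := ⟨_, h2⟩)
        rw [hQ] at h4
        have h5 := congrArg Subtype.val h4
        simpa using h5
      have h4 : x ^ p ∈ N := by
        apply (QuotientGroup.eq_one_iff _).mp
        rw [QuotientGroup.mk_pow]
        exact h3
      have h5 : x ^ p ∈ N ⊓ Helper77.irrKer χ₁ :=
        Subgroup.mem_inf.mpr ⟨h4, Subgroup.pow_mem _ hx p⟩
      rw [hNK1, Subgroup.mem_bot] at h5
      exact h5
    obtain ⟨e₁, he₁, hidx₁⟩ := gc_index_center p χ₁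
      (hcls.trans (Helper78.center_le_irrCenter χ₁)) (hK1le.trans hcls) hexp1
    exact hdne (gc_parity hp.out he₀ he₁ (gc_charDegree_pos χ₀) (gc_charDegree_pos χ₁)
      (hidx₀.symm.trans hidx₁))
  · -- not class 2
    obtain ⟨A, hAn, hAab, hAidx⟩ := gc_exists_abelian_quotient N hNc hN hN' hcard hcl hcls
    have hk : ∀ n ∈ N, (χ₀ : P → ℂ) n = (χ₀ : P → ℂ) 1 :=
      fun n hn => (Helper77.mem_irrKer χ₀ n).mp (hNK hn)
    have hdefl := Helper80.charDegree_inflate N (Helper77.deflate N χ₀ hk)
    rw [Helper77.inflate_deflate] at hdefl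
    have hito := Helper75.ito A hAab ((Helper77.deflate N χ₀ hk : IrrCharacter (P ⧸ N)) : P ⧸ N → ℂ)
      (Helper77.deflate N χ₀ hk).2
    rw [← hdefl] at hito
    have hd0 : charDegree (χ₀ : P → ℂ) = p :=
      ((Nat.dvd_prime hp.out).mp (hito.trans hAidx)).resolve_left h0
    obtain ⟨m, hm⟩ := IsPGroup.iff_card.mp hP
    have hd1dvd := Helper79.irr_charDegree_dvd_card χ₁
    rw [hm] at hd1dvd
    obtain ⟨j, hj, hjj⟩ := (Nat.dvd_prime_pow hp.out).mp hd1dvd
    have hj2 : 2 ≤ j := by
      rcases j with _ | _ | j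
      · exact absurd hjj (by simpa using h1)
      · exfalso; apply hdne; rw [hd0, hjj]; simp
      · omega
    have hZ1 : ∀ z ∈ Subgroup.center P, ‖(χ₁ : P → ℂ) z‖ = ‖(χ₁ : P → ℂ) 1‖ :=
      fun z hz => (Helper77.mem_irrCenter χ₁ z).mp (Helper78.center_le_irrCenter χ₁ hz)
    have hb := Helper77.card_mul_sq_le χ₁ (Subgroup.center P) hZ1
    have hnorm : ‖(χ₁ : P → ℂ) 1‖ = (charDegree (χ₁ : P → ℂ) : ℝ) := by
      rw [gc_irr_one]; simp
    rw [hnorm] at hb
    have hb' : Nat.card (Subgroup.center P) * charDegree (χ₁ : P → ℂ) ^ 2 ≤ Nat.card P := by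
      exact_mod_cast hb
    have hci := (Subgroup.center P).card_mul_index
    rw [← hci] at hb'
    have hb'' : charDegree (χ₁ : P → ℂ) ^ 2 ≤ (Subgroup.center P).index :=
      Nat.le_of_mul_le_mul_left hb' Nat.card_pos
    rw [hidx₀, hd0, hjj] at hb''
    have he₀le : e₀ ≤ p := Nat.le_of_dvd hp.out.pos he₀
    have h3 : (p ^ j) ^ 2 ≤ p ^ 3 := by
      calc (p ^ j) ^ 2 ≤ e₀ * p ^ 2 := hb''
        _ ≤ p * p ^ 2 := Nat.mul_le_mul_right _ he₀le
        _ = p ^ 3 := by ring
    rw [← pow_mul] at h3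
    have h4 := (Nat.pow_le_pow_iff_right hp.out.one_lt).mp h3
    omega

end Fwd

/-- the direction `⇒` of S4845, by induction on the order -/
theorem gc_forward (p : ℕ) [hp : Fact p.Prime] : ∀ n : ℕ, ∀ (P : Type u) [Group P] [Finite P],
    Nat.card P = n → IsPGroup p P → (¬ ∀ a b : P, a * b = b * a) → GCHyp P →
    IsCyclic (Subgroup.center P) ∧ Nat.card (commutator P) = p := by
  intro n
  induction n using Nat.strong_induction_on with
  | _ n ih =>
  intro P _ _ hn hP hna hH
  classical
  have _ : Fintype P := Fintype.ofFinite P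
  by_cases hall : ∀ χ : IrrCharacter P, charDegree (χ : P → ℂ) ≠ 1 → Helper77.irrKer χ = ⊥
  · exact gc_fwd_faithful_case hP hna hall
  · exfalso
    push Not at hall
    obtain ⟨χ₀, h0, hK0⟩ := hall
    obtain ⟨N, hNK, hNc, hN⟩ := gc_exists_central_order_p hP (Helper77.irrKer χ₀) hK0
    have hNn : N.Normal := gc_normal_of_le_center N hNc
    have hcardQ : Nat.card (P ⧸ N) < n := by
      have h1 := N.card_eq_card_quotient_mul_card_subgroup
      rw [hn, hN] at h1
      have h2 : 0 < Nat.card (P ⧸ N) := Nat.card_pos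
      have h3 := hp.out.one_lt
      rw [h1]
      nlinarith
    have hQna : ¬ ∀ a b : P ⧸ N, a * b = b * a := by
      intro hab
      exact gc_not_commutator_le χ₀ h0 ((gc_commutator_le_of_quotient_comm N hab).trans hNK)
    obtain ⟨-, hQ⟩ := ih _ hcardQ (P ⧸ N) rfl (hP.to_quotient N) hQna (hH.quotient N)
    exact gc_fwd_contra hP hH N hNc hN χ₀ h0 hNK hQ

end Cfsg.Agent.Lib.Helper71
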