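import Mathlib
import Cfsg.Prelude.Def_HallClasses

set_option autoImplicit false
open Cfsg

namespace Cfsg.Agent.Lib.Helper71.HallAlt

/-- A subgroup of the subgroup `A` is Hall in `A` iff its image in `G` is Hall relative to `A`. -/
theorem isPiHall_iff_isPiHallOf_map {G : Type*} [Group G] (π : Set ℕ) (A : Subgroup G)
    (M : Subgroup A) : IsPiHall π M ↔ IsPiHallOf π (M.map A.subtype) A := by
  have hcard : Nat.card (M.map A.subtype) = Nat.card M :=
    Subgroup.card_map_of_injective A.subtype_injective
  have hidx : (M.map A.subtype).relIndex A = M.index := by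
    unfold Subgroup.relIndex
    rw [Subgroup.subgroupOf, Subgroup.comap_map_eq_self_of_injective A.subtype_injective]
  constructor
  · rintro ⟨h1, h2⟩
    refine ⟨Subgroup.map_subtype_le M, ?_, ?_⟩
    · intro p hp hd; rw [hcard] at hd; exact h1 p hp hd
    · intro p hp hpπ; rw [hidx]; exact h2 p hp hpπ
  · rintro ⟨-, h1, h2⟩
    refine ⟨?_, ?_⟩
    · intro p hp hd; rw [← hcard] at hd; exact h1 p hp hd
    · intro p hp hpπ; rw [← hidx]; exact h2 p hp hpπ

end Cfsg.Agent.Lib.Helper71.HallAlt
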