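import Mathlib
import Cfsg.Prelude.Def_HallClasses
import Cfsg.Agent.Lib.Helper1.HallSymNT2
import Cfsg.Agent.Lib.Helper30.HallSymT15
import Cfsg.Agent.Lib.Helper55.HallSymB
import Cfsg.Agent.Lib.Helper92.HallSymCyc
import Cfsg.Agent.Lib.Helper92.HallSymPrim
import Cfsg.Agent.Lib.Helper92.HallSymT3

set_option autoImplicit false
open Cfsg Equiv

namespace Cfsg.Agent.Lib.Helper71.HallSym

open Cfsg.Agent.Lib.Helper1.HallSym Cfsg.Agent.Lib.Helper30.HallSym Cfsg.Agent.Lib.Helper55.HallSym
  Cfsg.Agent.Lib.Helper92.HallSym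

/-- at most one prime of `π` is `≤ n` -/
def A1 (π : Set ℕ) (n : ℕ) : Prop :=
  ∀ r s : ℕ, r.Prime → s.Prime → r ∈ π → s ∈ π → r ≤ n → s ≤ n → r = s
/-- all primes `≤ n` are in `π` -/
def A2 (π : Set ℕ) (n : ℕ) : Prop := ∀ r : ℕ, r.Prime → r ≤ n → r ∈ π
/-- `n` is prime and the primes of `π` up to `n` are those `< n` -/
def A3 (π : Set ℕ) (n : ℕ) : Prop := n.Prime ∧ ∀ r : ℕ, r.Prime → r ≤ n → (r ∈ π ↔ r < n)
/-- the primes of `π` up to `n` are `2` and `3` -/
def A23 (π : Set ℕ) (n : ℕ) : Prop := ∀ r : ℕ, r.Prime → r ≤ n → (r ∈ π ↔ (r = 2 ∨ r = 3))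

section orb
variable {β : Type} [Fintype β] [DecidableEq β]

open Classical in
/-- the orbit of `a` under `H`, as a finset -/
noncomputable def orb (H : Subgroup (Perm β)) (a : β) : Finset β :=
  Finset.univ.filter (fun b => ∃ h ∈ H, h a = b)

theorem mem_orb {H : Subgroup (Perm β)} {a b : β} : b ∈ orb H a ↔ ∃ h ∈ H, h a = b := by
  classical
  simp [orb]

theorem self_mem_orb (H : Subgroup (Perm β)) (a : β) : a ∈ orb H a :=
  mem_orb.2 ⟨1, H.one_mem, rfl⟩

theorem orb_inv (H : Subgroup (Perm β)) (a : β) : ∀ h ∈ H, ∀ b ∈ orb H a, h b ∈ orb H a := by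
  intro h hh b hb
  obtain ⟨g, hg, rfl⟩ := mem_orb.1 hb
  exact mem_orb.2 ⟨h * g, H.mul_mem hh hg, rfl⟩

theorem orb_trans (H : Subgroup (Perm β)) (a : β) :
    ∀ b ∈ orb H a, ∀ c ∈ orb H a, ∃ h ∈ H, h b = c := by
  intro b hb c hc
  obtain ⟨g, hg, rfl⟩ := mem_orb.1 hb
  obtain ⟨k, hk, rfl⟩ := mem_orb.1 hc
  exact ⟨k * g⁻¹, H.mul_mem hk (H.inv_mem hg), by simp⟩

theorem compl_inv (H : Subgroup (Perm β)) (t : Finset β) (ht : ∀ h ∈ H, ∀ a ∈ t, h a ∈ t) :
    ∀ h ∈ H, ∀ a ∈ tᶜ, h a ∈ tᶜ := by
  intro h hh a ha
  rw [Finset.mem_compl] at ha ⊢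
  intro hc
  apply ha
  have := ht h⁻¹ (H.inv_mem hh) (h a) hc
  simpa using this

theorem card_orb_dvd (H : Subgroup (Perm β)) (a : β) : (orb H a).card ∣ Nat.card H := by
  classical
  have h1 : (orb H a : Set β) = MulAction.orbit H a := by
    ext b
    simp only [Finset.mem_coe, mem_orb, MulAction.mem_orbit_iff]
    constructor
    · rintro ⟨h, hh, rfl⟩; exact ⟨⟨h, hh⟩, rfl⟩
    · rintro ⟨⟨h, hh⟩, rfl⟩; exact ⟨h, hh, rfl⟩
  have h2 : Nat.card (MulAction.orbit H a) = (orb H a).card := by
    rw [← h1]; simp
  rw [← h2]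
  have := MulAction.card_orbit_mul_card_stabilizer_eq_card_group H a
  rw [← Nat.card_eq_fintype_card, ← Nat.card_eq_fintype_card, ← Nat.card_eq_fintype_card] at this
  exact Dvd.intro _ this

omit [DecidableEq β] in
theorem mem_of_top (π : Set ℕ) (H : Subgroup (Perm β)) (hH : IsPiHall π H) (htop : H = ⊤)
    (l : ℕ) (hl : l.Prime) (hln : l ≤ Fintype.card β) : l ∈ π := by
  apply hH.1 l hl
  rw [htop, Subgroup.card_top, Nat.card_perm, Nat.card_eq_fintype_card]
  exact Nat.dvd_factorial hl.pos hln

end orb


/-- The classification of the pairs `(n, π)` such that `S_n` has a Hall `π`-subgroup,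
with the structure needed for the induction. -/
theorem main' (π : Set ℕ) : ∀ n : ℕ, ∀ (β : Type) [Fintype β] [DecidableEq β],
    Fintype.card β = n → ∀ H : Subgroup (Perm β), IsPiHall π H →
    A1 π n ∨ A2 π n ∨ (A3 π n ∧ ∃ y : β, ∀ h ∈ H, h y = y) ∨
      (n = 7 ∧ A23 π 7 ∧ ∃ t : Finset β, t.card = 3 ∧ ∀ h ∈ H, ∀ a ∈ t, h a ∈ t) ∨
      (n = 8 ∧ A23 π 8 ∧ ∀ a b : β, ∃ h ∈ H, h a = b) := by
  intro n
  induction n using Nat.strong_induction_on with
  | _ n ih =>
  intro β _ _ hcard H hH
  by_cases hA1 : A1 π n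
  · exact Or.inl hA1
  by_cases hA2 : A2 π n
  · exact Or.inr (Or.inl hA2)
  right; right
  obtain ⟨r₁, r₂, hr₁, hr₂, hlt, hr₁π, hr₂π, hr₂n⟩ : ∃ r₁ r₂ : ℕ, r₁.Prime ∧ r₂.Prime ∧
      r₁ < r₂ ∧ r₁ ∈ π ∧ r₂ ∈ π ∧ r₂ ≤ n := by
    unfold A1 at hA1; push Not at hA1
    obtain ⟨r, s, hr, hs, hrπ, hsπ, hrn, hsn, hne⟩ := hA1
    rcases lt_or_gt_of_ne hne with h | h
    · exact ⟨r, s, hr, hs, h, hrπ, hsπ, hsn⟩
    · exact ⟨s, r, hs, hr, h, hsπ, hrπ, hrn⟩
  obtain ⟨l, hl, hln, hlπ⟩ : ∃ l : ℕ, l.Prime ∧ l ≤ n ∧ l ∉ π := by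
    unfold A2 at hA2; push Not at hA2; exact hA2
  have hn3 : 3 ≤ n := by have := hr₁.two_le; omega
  have hne : Nonempty β := by
    rw [← Fintype.card_pos_iff]; omega
  by_cases htr : ∀ a b : β, ∃ h ∈ H, h a = b
  · -- transitive case
    obtain ⟨x⟩ := hne
    obtain ⟨⟨H', hH', hres1, hres2⟩, hdiv⟩ := hall_stabilizer π H hH htr x
    have hcard' : Fintype.card {y // y ≠ x} = n - 1 := by
      rw [Fintype.card_subtype_compl, Fintype.card_subtype_eq, hcard]
    rcases ih (n - 1) (by omega) {y // y ≠ x} hcard' H' hH' with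
      h1 | h2 | ⟨h3, y₀, hy₀⟩ | ⟨h7, h23, -⟩ | ⟨h8, h23, htr'⟩
    · -- n is a prime in π
      exfalso
      have hr₂eq : r₂ = n := by
        by_contra hne
        have h' : r₂ ≤ n - 1 := by omega
        have := h1 r₁ r₂ hr₁ hr₂ hr₁π hr₂π (by omega) h'
        omega
      have hprim := isPreprimitive_of_prime_card H htr (by rw [hcard, ← hr₂eq]; exact hr₂)
      have htop := eq_top_of_isPreprimitive π H hH hprim r₁ hr₁ hr₁π (by rw [hcard]; omega)
      exact hlπ (mem_of_top π H hH htop l hl (by rw [hcard]; exact hln))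
    · exfalso
      have hln' : l = n := by
        by_contra hne
        exact hlπ (h2 l hl (by omega))
      exact hlπ (hdiv l hl (by rw [hcard, hln']))
    · exfalso
      obtain ⟨hp, hπp⟩ := h3
      have hr₂p : r₂ < n - 1 := by
        by_contra hcon
        push Not at hcon
        rcases (by omega : r₂ = n - 1 ∨ r₂ = n) with h | h
        · have := (hπp r₂ hr₂ (by omega)).1 hr₂π; omega
        · have h2 : n - 1 = 2 := by
            rcases hp.eq_two_or_odd with h' | h'
            · exact h'
            · have hn' : n.Prime := h ▸ hr₂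
              rcases hn'.eq_two_or_odd with h'' | h''
              · omega
              · omega
          have hr₁2 : r₁ = 2 := by have := hr₁.two_le; omega
          have := (hπp 2 Nat.prime_two (by omega)).1 (hr₁2 ▸ hr₁π); omega
      have h5 : 5 ≤ n - 1 := by
        have := hr₁.two_le
        have h4 : 4 ≤ n - 1 := by omega
        rcases Nat.lt_or_ge (n - 1) 5 with h | h
        · exfalso
          have h4' : n - 1 = 4 := by omega
          rw [h4'] at hp; exact absurd hp (by norm_num)
        · exact h
      have hxy : x ≠ (y₀ : β) := fun h => y₀.2 h.symm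
      have hfix : ∀ h ∈ H, h x = x → h (y₀ : β) = (y₀ : β) := by
        intro h hh hx
        obtain ⟨h', hh', hag⟩ := hres1 h hh hx
        have := hag y₀
        rw [hy₀ h' hh'] at this
        exact this.symm
      have hall : ∀ σ : Perm β, σ x = x → σ (y₀ : β) = (y₀ : β) → σ ∈ H := by
        intro σ hσx hσy
        have hinv : ∀ z : β, σ z ≠ x ↔ z ≠ x := by
          intro z; constructor
          · intro hz hc; apply hz; rw [hc]; exact hσx
          · intro hz hc; apply hz; rw [← hσx] at hc; exact σ.injective hc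
        have hσ'y : σ.subtypePerm hinv y₀ = y₀ := by
          apply Subtype.ext
          rw [Perm.subtypePerm_apply]
          exact hσy
        have hmem := stabilizer_le_of_hall π H' hH' (by
          intro r hr hrlt
          rw [hcard'] at hrlt
          exact (hπp r hr hrlt.le).2 hrlt) y₀ hy₀ (σ.subtypePerm hinv) hσ'y
        obtain ⟨h, hh, hhx, hag⟩ := hres2 _ hmem
        have hhσ : h = σ := by
          ext z
          by_cases hz : z = x
          · rw [hz, hhx, hσx]
          · have := hag ⟨z, hz⟩
            rw [Perm.subtypePerm_apply] at this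
            exact this.symm
        rw [← hhσ]; exact hh
      exact false_of_two_point H htr x y₀ hxy hfix hall (by rw [hcard]; omega)
    · -- n = 8
      right; right
      have hn8 : n = 8 := by omega
      refine ⟨hn8, ?_, htr⟩
      intro r hr hrn
      rcases Nat.lt_or_ge r 8 with h | h
      · exact h23 r hr (by omega)
      · have hr8 : r = 8 := by omega
        rw [hr8] at hr; exact absurd hr (by norm_num)
    · -- n = 9
      exfalso
      have h2' : ∀ a b : β, a ≠ x → b ≠ x → ∃ h ∈ H, h x = x ∧ h a = b := by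
        intro a b ha hb
        obtain ⟨h', hh', hab⟩ := htr' ⟨a, ha⟩ ⟨b, hb⟩
        obtain ⟨h, hh, hhx, hag⟩ := hres2 h' hh'
        refine ⟨h, hh, hhx, ?_⟩
        have := hag ⟨a, ha⟩
        rw [hab] at this
        exact this.symm
      have hprim := isPreprimitive_of_stabilizer_trans H htr x h2'
      have h2π : 2 ∈ π := (h23 2 Nat.prime_two (by norm_num)).2 (Or.inl rfl)
      have htop := eq_top_of_isPreprimitive π H hH hprim 2 Nat.prime_two h2π
        (by rw [hcard]; omega)
      have h5π := mem_of_top π H hH htop 5 (by norm_num) (by rw [hcard]; omega)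
      have := (h23 5 (by norm_num) (by norm_num)).1 h5π
      omega
  · -- intransitive case
    have horb_ne : ∀ a : β, orb H a ≠ Finset.univ := by
      intro a hu
      apply htr
      intro b c
      exact orb_trans H a b (hu ▸ Finset.mem_univ b) c (hu ▸ Finset.mem_univ c)
    have horb_lt : ∀ a : β, (orb H a).card < n := by
      intro a
      rw [← hcard]
      exact (Finset.card_lt_iff_ne_univ _).2 (horb_ne a)
    -- the induction hypothesis for invariant subsets
    have hIH : ∀ t : Finset β, (∀ h ∈ H, ∀ a ∈ t, h a ∈ t) → t.card < n →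
        (A1 π t.card ∨ A2 π t.card ∨ (A3 π t.card ∧ ∃ y ∈ t, ∀ h ∈ H, h y = y) ∨
          (t.card = 7 ∧ A23 π 7) ∨ (t.card = 8 ∧ A23 π 8)) ∧
        ∀ r : ℕ, r.Prime → r ∈ π → ¬ r ∣ n.choose t.card := by
      intro t ht htn
      obtain ⟨⟨H', hH', hres1, hres2⟩, hbin⟩ := hall_restrict π H hH t ht
      refine ⟨?_, by rw [← hcard]; exact hbin⟩
      rcases ih t.card htn {y // y ∈ t} (Fintype.card_coe t) H' hH' with
        h1 | h2 | ⟨h3, y₀, hy₀⟩ | h7 | ⟨h8, h23, _⟩
      · exact Or.inl h1
      · exact Or.inr (Or.inl h2)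
      · refine Or.inr (Or.inr (Or.inl ⟨h3, y₀.1, y₀.2, ?_⟩))
        intro h hh
        obtain ⟨h', hh', hag⟩ := hres1 h hh
        rw [← hag y₀, hy₀ h' hh']
      · exact Or.inr (Or.inr (Or.inr (Or.inl ⟨h7.1, h7.2.1⟩)))
      · exact Or.inr (Or.inr (Or.inr (Or.inr ⟨h8, h23⟩)))
    -- 2 and 3 are in π
    have h23π : 2 ∈ π ∧ 3 ∈ π := by
      obtain ⟨g, hgH, hgc, hgs⟩ :=
        exists_cycle_mem π H hH r₂ hr₂ hr₂π (by rw [hcard]; exact hr₂n)
      obtain ⟨a₀, ha₀⟩ : ∃ a₀, a₀ ∈ g.support := by
        apply Finset.card_pos.1; rw [hgs]; exact hr₂.pos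
      have hsub : g.support ⊆ orb H a₀ := by
        intro b hb
        have hsc : g.SameCycle a₀ b :=
          hgc.sameCycle (Perm.mem_support.1 ha₀) (Perm.mem_support.1 hb)
        obtain ⟨i, hi⟩ := hsc
        exact mem_orb.2 ⟨g ^ i, H.zpow_mem hgH i, hi⟩
      have hle : r₂ ≤ (orb H a₀).card := hgs ▸ Finset.card_le_card hsub
      have hdvd := card_orb_dvd H a₀
      obtain ⟨hcl, -⟩ := hIH (orb H a₀) (orb_inv H a₀) (horb_lt a₀)
      have h3le : 3 ≤ r₂ := by have := hr₁.two_le; omega
      rcases hcl with h1 | h2 | ⟨⟨hp, hπp⟩, -⟩ | ⟨h7, h23⟩ | ⟨h8, h23⟩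
      · exact absurd (h1 r₁ r₂ hr₁ hr₂ hr₁π hr₂π (by omega) hle) (by omega)
      · exact ⟨h2 2 Nat.prime_two (by omega), h2 3 Nat.prime_three (by omega)⟩
      · exfalso
        have h' := hH.1 _ hp hdvd
        have := (hπp _ hp le_rfl).1 h'
        omega
      · exfalso
        have h7π := hH.1 7 (by norm_num) (h7 ▸ hdvd)
        have := (h23 7 (by norm_num) le_rfl).1 h7π
        omega
      · exact ⟨(h23 2 Nat.prime_two (by norm_num)).2 (Or.inl rfl),
          (h23 3 Nat.prime_three (by norm_num)).2 (Or.inr rfl)⟩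
    obtain ⟨h2π, h3π⟩ := h23π
    -- the least prime q not in π
    have hex : ∃ q : ℕ, q.Prime ∧ q ∉ π := ⟨l, hl, hlπ⟩
    classical
    obtain ⟨q, hq, hqmin'⟩ : ∃ q : ℕ, (q.Prime ∧ q ∉ π) ∧ ∀ r : ℕ, r < q → ¬ (r.Prime ∧ r ∉ π) :=
      ⟨Nat.find hex, Nat.find_spec hex, fun r hr => Nat.find_min hex hr⟩
    have hqmin : ∀ r : ℕ, r.Prime → r < q → r ∈ π := by
      intro r hr hrq
      by_contra hc
      exact hqmin' r hrq ⟨hr, hc⟩
    have hqle : ∀ r : ℕ, r.Prime → r ∉ π → q ≤ r := by
      intro r hr hrπ
      by_contra hc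
      exact hrπ (hqmin r hr (by omega))
    have hqn : q ≤ n := (hqle l hl hlπ).trans hln
    have hq5 : 5 ≤ q := by
      have h2 : q ≠ 2 := fun h => hq.2 (h ▸ h2π)
      have h3 : q ≠ 3 := fun h => hq.2 (h ▸ h3π)
      have h4 : q ≠ 4 := fun h => by
        have := hq.1; rw [h] at this; exact absurd this (by norm_num)
      have := hq.1.two_le
      omega
    -- sizes of invariant subsets
    have hcls : ∀ t : Finset β, (∀ h ∈ H, ∀ a ∈ t, h a ∈ t) → t.card < n →
        t.card < q ∨ (t.card = q ∧ ∃ y ∈ t, ∀ h ∈ H, h y = y) ∨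
          (q = 5 ∧ t.card = 7 ∧ 7 ∉ π) ∨ (q = 5 ∧ t.card = 8) := by
      intro t ht htn
      rcases (hIH t ht htn).1 with h1 | h2 | ⟨⟨hp, hπp⟩, hy⟩ | ⟨h7, h23⟩ | ⟨h8, h23⟩
      · left
        by_contra hc; push Not at hc
        have := h1 2 3 Nat.prime_two Nat.prime_three h2π h3π (by omega) (by omega)
        omega
      · left
        by_contra hc; push Not at hc
        exact hq.2 (h2 q hq.1 hc)
      · right; left
        refine ⟨?_, hy⟩
        have hnot : t.card ∉ π := fun h => by
          have := (hπp _ hp le_rfl).1 h; omega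
        rcases lt_trichotomy t.card q with h | h | h
        · exact absurd (hqmin _ hp h) hnot
        · exact h
        · exact absurd ((hπp q hq.1 h.le).2 h) hq.2
      · right; right; left
        have h5 : 5 ∉ π := fun h => by
          have := (h23 5 (by norm_num) (by norm_num)).1 h; omega
        have h7' : 7 ∉ π := fun h => by
          have := (h23 7 (by norm_num) (by norm_num)).1 h; omega
        have : q ≤ 5 := hqle 5 (by norm_num) h5
        exact ⟨by omega, h7, h7'⟩
      · right; right; right
        have h5 : 5 ∉ π := fun h => by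
          have := (h23 5 (by norm_num) (by norm_num)).1 h; omega
        have : q ≤ 5 := hqle 5 (by norm_num) h5
        exact ⟨by omega, h8⟩
    -- sizes of orbits
    have horbsz : ∀ a : β, (orb H a).card < q ∨ (q = 5 ∧ (orb H a).card = 8) := by
      intro a
      have hdvd := card_orb_dvd H a
      rcases hcls (orb H a) (orb_inv H a) (horb_lt a) with h | ⟨h, -⟩ | ⟨-, h7, h7π⟩ | ⟨h5, h8⟩
      · exact Or.inl h
      · exfalso; exact hq.2 (hH.1 q hq.1 (h ▸ hdvd))
      · exfalso; exact h7π (hH.1 7 (by norm_num) (h7 ▸ hdvd))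
      · exact Or.inr ⟨h5, h8⟩
    -- a minimal orbit and its complement
    obtain ⟨a, -, hamin⟩ := Finset.exists_min_image Finset.univ (fun a => (orb H a).card)
      Finset.univ_nonempty
    have hc1 : 1 ≤ (orb H a).card := Finset.card_pos.2 ⟨a, self_mem_orb H a⟩
    have hXinv := compl_inv H (orb H a) (orb_inv H a)
    have hXcard : (orb H a)ᶜ.card = n - (orb H a).card := by rw [Finset.card_compl, hcard]
    have hcn : (orb H a).card < n := horb_lt a
    have hXlt : (orb H a)ᶜ.card < n := by omega
    have hbinO := (hIH (orb H a) (orb_inv H a) hcn).2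
    have horbX : ∀ b ∈ (orb H a)ᶜ, (orb H a).card ≤ (orb H b).card ∧
        (orb H b).card ≤ n - (orb H a).card := by
      intro b hb
      refine ⟨hamin b (Finset.mem_univ b), ?_⟩
      rw [← hXcard]
      apply Finset.card_le_card
      intro d hd
      obtain ⟨h, hh, rfl⟩ := mem_orb.1 hd
      exact hXinv h hh b hb
    obtain ⟨b₀, hb₀⟩ : (orb H a)ᶜ.Nonempty := by
      rw [← Finset.card_pos]; omega
    have hfixa : (orb H a).card = 1 → ∀ h ∈ H, h a = a := by
      intro h1 h hh
      have hmem := orb_inv H a h hh a (self_mem_orb H a)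
      obtain ⟨a', ha'⟩ := Finset.card_eq_one.1 h1
      have h1' : a ∈ orb H a := self_mem_orb H a
      rw [ha', Finset.mem_singleton] at hmem h1'
      rw [hmem, h1']
    generalize hcdef : (orb H a).card = c at *
    rcases hcls (orb H a)ᶜ hXinv hXlt with hm | ⟨hm, y, hyX, hyfix⟩ | ⟨hq5', hm, -⟩ | ⟨hq5', hm⟩
    · -- (a) both parts smaller than q
      rw [hXcard] at hm
      have hcq : c < q := by
        rcases horbsz a with h | ⟨h5, h8⟩
        · rw [hcdef] at h; exact h
        · exfalso
          rw [hcdef] at h8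
          have := horbX b₀ hb₀
          omega
      have key : ∀ r : ℕ, r.Prime → r ≤ max (n - c) c → ¬ r ∣ n.choose c := by
        intro r hr hrle
        apply hbinO r hr
        apply hqmin r hr
        have : max (n - c) c < q := max_lt hm hcq
        omega
      rcases le_total c (n - c) with hle | hle
      · have hnt := nt2 (n - c) c hc1 hle (by
          intro r hr hra
          have hnc : n - c + c = n := by omega
          rw [hnc]
          exact key r hr (le_max_of_le_left hra))
        rcases hnt with ⟨hb1, hprime⟩ | ⟨ha4, hb3⟩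
        · left
          have hnn : n - c + 1 = n := by omega
          rw [hnn] at hprime
          have hnq : n = q := by omega
          refine ⟨⟨hprime, ?_⟩, a, hfixa hb1⟩
          intro r hr hrn
          constructor
          · intro hrπ
            rcases Nat.lt_or_ge r n with h | h
            · exact h
            · exfalso
              have hrq : r = q := by omega
              exact hq.2 (hrq ▸ hrπ)
          · intro hrn'
            exact hqmin r hr (by omega)
        · right; left
          have hn7 : n = 7 := by omega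
          refine ⟨hn7, ?_, ⟨orb H a, by rw [hcdef]; exact hb3, orb_inv H a⟩⟩
          have h5 : 5 ∉ π := fun h => hbinO 5 (by norm_num) h (by rw [hn7, hb3]; decide)
          have h7 : 7 ∉ π := fun h => hbinO 7 (by norm_num) h (by rw [hn7, hb3]; decide)
          intro r hr hr7
          interval_cases r
          · exact absurd hr (by norm_num)
          · exact absurd hr (by norm_num)
          · simp [h2π]
          · simp [h3π]
          · exact absurd hr (by norm_num)
          · simp [h5]
          · exact absurd hr (by norm_num)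
          · simp [h7]
      · have hnt := nt2 c (n - c) (by omega) hle (by
          intro r hr hra
          have hnc : c + (n - c) = n := by omega
          rw [hnc, Nat.choose_symm (by omega : c ≤ n)]
          exact key r hr (le_max_of_le_right hra))
        rcases hnt with ⟨hb1, hprime⟩ | ⟨ha4, hb3⟩
        · left
          have hnn : c + 1 = n := by omega
          rw [hnn] at hprime
          have hnq : n = q := by omega
          have hX1 : (orb H a)ᶜ.card = 1 := by rw [hXcard]; exact hb1
          obtain ⟨y, hy⟩ := Finset.card_eq_one.1 hX1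
          refine ⟨⟨hprime, ?_⟩, y, ?_⟩
          · intro r hr hrn
            constructor
            · intro hrπ
              rcases Nat.lt_or_ge r n with h | h
              · exact h
              · exfalso
                have hrq : r = q := by omega
                exact hq.2 (hrq ▸ hrπ)
            · intro hrn'
              exact hqmin r hr (by omega)
          · intro h hh
            have hyX : y ∈ (orb H a)ᶜ := by rw [hy]; exact Finset.mem_singleton_self y
            have := hXinv h hh y hyX
            rw [hy, Finset.mem_singleton] at this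
            exact this
        · right; left
          have hn7 : n = 7 := by omega
          refine ⟨hn7, ?_, ⟨(orb H a)ᶜ, by rw [hXcard]; exact hb3, hXinv⟩⟩
          have h5 : 5 ∉ π := fun h => hbinO 5 (by norm_num) h (by rw [hn7, ha4]; decide)
          have h7 : 7 ∉ π := fun h => hbinO 7 (by norm_num) h (by rw [hn7, ha4]; decide)
          intro r hr hr7
          interval_cases r
          · exact absurd hr (by norm_num)
          · exact absurd hr (by norm_num)
          · simp [h2π]
          · simp [h3π]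
          · exact absurd hr (by norm_num)
          · simp [h5]
          · exact absurd hr (by norm_num)
          · simp [h7]
    · -- (b) the complement has q points, one of them fixed
      exfalso
      have hy1 : (orb H y).card = 1 := by
        rw [Finset.card_eq_one]
        refine ⟨y, ?_⟩
        ext d
        rw [mem_orb, Finset.mem_singleton]
        constructor
        · rintro ⟨h, hh, rfl⟩; exact hyfix h hh
        · rintro rfl; exact ⟨1, H.one_mem, rfl⟩
      have hc1' : c = 1 := by
        have := (horbX y hyX).1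
        omega
      have hafix := hfixa hc1'
      have hay : a ≠ y := by
        intro h
        rw [Finset.mem_compl] at hyX
        exact hyX (h ▸ self_mem_orb H a)
      have hinv2 : ∀ h ∈ H, ∀ d ∈ ({a, y} : Finset β), h d ∈ ({a, y} : Finset β) := by
        intro h hh d hd
        rw [Finset.mem_insert, Finset.mem_singleton] at hd ⊢
        rcases hd with rfl | rfl
        · exact Or.inl (hafix h hh)
        · exact Or.inr (hyfix h hh)
      have hcard2 : ({a, y} : Finset β).card = 2 := Finset.card_pair hay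
      have hbin2 := (hIH {a, y} hinv2 (by rw [hcard2]; omega)).2
      rw [hcard2] at hbin2
      have hnq1 : n = q + 1 := by rw [hXcard] at hm; omega
      -- a prime factor of (q+1)/2
      have hodd : q % 2 = 1 := by
        rcases hq.1.eq_two_or_odd with h | h
        · omega
        · exact h
      set m := (q + 1) / 2 with hm_def
      have hm2 : 2 * m = q + 1 := by omega
      have hm3 : 3 ≤ m := by omega
      have hpr := Nat.minFac_prime (by omega : m ≠ 1)
      have hle : m.minFac ≤ m := Nat.minFac_le (by omega)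
      have hdvd : m.minFac ∣ m := Nat.minFac_dvd m
      have hmem : m.minFac ∈ π := hqmin _ hpr (by omega)
      apply hbin2 _ hpr hmem
      rw [hnq1, Nat.choose_two_right]
      have : (q + 1) * (q + 1 - 1) / 2 = q * m := by
        have : (q + 1) * (q + 1 - 1) = 2 * (q * m) := by
          rw [Nat.add_sub_cancel, ← hm2]; ring
        rw [this, Nat.mul_div_cancel_left _ (by norm_num)]
      rw [this]
      exact Dvd.dvd.mul_left hdvd q
    · -- (c) q = 5 and the complement has 7 points
      exfalso
      rw [hXcard] at hm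
      have hc4 : c ≤ 4 := by
        rcases horbsz a with h | ⟨h5, h8⟩
        · rw [hcdef] at h; omega
        · exfalso
          rw [hcdef] at h8
          have := horbX b₀ hb₀
          omega
      have hn : n = 7 + c := by omega
      apply hbinO 2 Nat.prime_two h2π
      rw [hn]
      interval_cases c <;> decide
    · -- (d) q = 5 and the complement has 8 points
      exfalso
      rw [hXcard] at hm
      have hc48 : c ≤ 4 ∨ c = 8 := by
        rcases horbsz a with h | ⟨h5, h8⟩
        · rw [hcdef] at h; omega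
        · rw [hcdef] at h8; exact Or.inr h8
      have hn : n = 8 + c := by omega
      apply hbinO 3 Nat.prime_three h3π
      rw [hn]
      rcases hc48 with h | h
      · interval_cases c <;> decide
      · rw [h]; decide

/-- The classification without the structure in degree 7. -/
theorem main (π : Set ℕ) : ∀ n : ℕ, ∀ (β : Type) [Fintype β] [DecidableEq β],
    Fintype.card β = n → ∀ H : Subgroup (Perm β), IsPiHall π H →
    A1 π n ∨ A2 π n ∨ (A3 π n ∧ ∃ y : β, ∀ h ∈ H, h y = y) ∨ (n = 7 ∧ A23 π 7) ∨
      (n = 8 ∧ A23 π 8 ∧ ∀ a b : β, ∃ h ∈ H, h a = b) := by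
  intro n β _ _ hcard H hH
  rcases main' π n β hcard H hH with h | h | h | ⟨h7, h23, -⟩ | h
  · exact Or.inl h
  · exact Or.inr (Or.inl h)
  · exact Or.inr (Or.inr (Or.inl h))
  · exact Or.inr (Or.inr (Or.inr (Or.inl ⟨h7, h23⟩)))
  · exact Or.inr (Or.inr (Or.inr (Or.inr h)))

end Cfsg.Agent.Lib.Helper71.HallSym
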