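import Mathlib
import Cfsg.Prelude.Def_HallClasses
import Cfsg.Agent.Lib.Helper71.HallSymMain
import Cfsg.Agent.Lib.Helper73.HallAltStab
import Cfsg.Agent.Lib.Helper89.HallAltBlk8

set_option autoImplicit false
open Cfsg Equiv

namespace Cfsg.Agent.Lib.Helper71.HallSym

open Cfsg.Agent.Lib.Helper55.HallSym Cfsg.Agent.Lib.Helper92.HallSym
open Cfsg.Agent.Lib.Helper73.HallAlt Cfsg.Agent.Lib.Helper89.HallAlt

theorem swap_preserves {γ : Type} [DecidableEq γ] (t : Finset γ) (a b : γ) (hab : a ∈ t ↔ b ∈ t) :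
    ∀ c ∈ t, swap a b c ∈ t := by
  intro c hc
  by_cases hca : c = a
  · rw [hca, swap_apply_left]; rw [hca] at hc; exact hab.1 hc
  by_cases hcb : c = b
  · rw [hcb, swap_apply_right]; rw [hcb] at hc; exact hab.2 hc
  · rw [swap_apply_of_ne_of_ne hca hcb]; exact hc

theorem exists_two_others {γ : Type} [DecidableEq γ] (s : Finset γ) (z : γ) (hz : z ∈ s)
    (hs : 3 ≤ s.card) : ∃ u v : γ, u ∈ s ∧ v ∈ s ∧ u ≠ z ∧ v ≠ z ∧ u ≠ v := by
  have h2 : 1 < (s.erase z).card := by rw [Finset.card_erase_of_mem hz]; omega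
  obtain ⟨u, hu, v, hv, huv⟩ := Finset.one_lt_card.1 h2
  exact ⟨u, v, Finset.mem_of_mem_erase hu, Finset.mem_of_mem_erase hv,
    Finset.ne_of_mem_erase hu, Finset.ne_of_mem_erase hv, huv⟩

variable {β : Type} [Fintype β] [DecidableEq β]

/-- (H7) a Hall `{2,3}`-subgroup of `S_7` has an invariant subset with 3 elements. -/
theorem hall_seven_invariant (π : Set ℕ) (K : Subgroup (Perm β)) (hcard : Fintype.card β = 7)
    (hK : IsPiHall π K) (h23 : A23 π 7) :
    ∃ t : Finset β, t.card = 3 ∧ ∀ h ∈ K, ∀ a ∈ t, h a ∈ t := by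
  have h2π : 2 ∈ π := (h23 2 Nat.prime_two (by norm_num)).2 (Or.inl rfl)
  have h3π : 3 ∈ π := (h23 3 Nat.prime_three (by norm_num)).2 (Or.inr rfl)
  have h5π : 5 ∉ π := fun h => by
    have := (h23 5 (by norm_num) (by norm_num)).1 h; omega
  rcases main' π 7 β hcard K hK with h1 | h2 | ⟨h3, -⟩ | ⟨-, -, ht⟩ | ⟨h8, -⟩
  · have := h1 2 3 Nat.prime_two Nat.prime_three h2π h3π (by norm_num) (by norm_num)
    omega
  · exact absurd (h2 5 (by norm_num) (by norm_num)) h5π
  · exact absurd ((h3.2 5 (by norm_num) (by norm_num)).2 (by norm_num)) h5π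
  · exact ht
  · omega

/-- a Hall `{2,3}`-subgroup of `S_8` is transitive. -/
theorem hall_eight_transitive (π : Set ℕ) (K : Subgroup (Perm β)) (hcard : Fintype.card β = 8)
    (hK : IsPiHall π K) (h23 : A23 π 8) : ∀ a b : β, ∃ h ∈ K, h a = b := by
  have h2π : 2 ∈ π := (h23 2 Nat.prime_two (by norm_num)).2 (Or.inl rfl)
  have h3π : 3 ∈ π := (h23 3 Nat.prime_three (by norm_num)).2 (Or.inr rfl)
  have h5π : 5 ∉ π := fun h => by
    have := (h23 5 (by norm_num) (by norm_num)).1 h; omega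
  rcases main' π 8 β hcard K hK with h1 | h2 | ⟨h3, -⟩ | ⟨h7, -⟩ | ⟨-, -, htr⟩
  · have := h1 2 3 Nat.prime_two Nat.prime_three h2π h3π (by norm_num) (by norm_num)
    omega
  · exact absurd (h2 5 (by norm_num) (by norm_num)) h5π
  · exact absurd h3.1 (by norm_num)
  · omega
  · exact htr

/-- (H8) a Hall `{2,3}`-subgroup of `S_8` preserves a partition into two sets of 4 elements. -/
theorem hall_eight_partition (π : Set ℕ) (K : Subgroup (Perm β)) (hcard : Fintype.card β = 8)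
    (hK : IsPiHall π K) (h23 : A23 π 8) :
    ∃ B : Finset β, B.card = 4 ∧
      ∀ h ∈ K, B.map h.toEmbedding = B ∨ B.map h.toEmbedding = Bᶜ := by
  have h2π : 2 ∈ π := (h23 2 Nat.prime_two (by norm_num)).2 (Or.inl rfl)
  have h5π : 5 ∉ π := fun h => by
    have := (h23 5 (by norm_num) (by norm_num)).1 h; omega
  have htr := hall_eight_transitive π K hcard hK h23
  have hne : Nonempty β := by rw [← Fintype.card_pos_iff]; omega
  obtain ⟨x⟩ := hne
  obtain ⟨⟨H', hH', hres1, hres2⟩, -⟩ := hall_stabilizer π K hK htr x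
  have hcard' : Fintype.card {y // y ≠ x} = 7 := by
    rw [Fintype.card_subtype_compl, Fintype.card_subtype_eq, hcard]
  have h23' : A23 π 7 := fun r hr hr7 => h23 r hr (by omega)
  obtain ⟨t', ht'c, ht'inv⟩ := hall_seven_invariant π H' hcard' hH' h23'
  have hstab := stab_le_of_hall π H' hH' t' ht'inv (by
    intro r hr hrle
    rw [ht'c, hcard'] at hrle
    have hr4 : r ≤ 4 := by omega
    have hr7 : r ≤ 7 := by omega
    apply (h23' r hr hr7).2
    interval_cases r
    · exact absurd hr (by norm_num)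
    · exact absurd hr (by norm_num)
    · exact Or.inl rfl
    · exact Or.inr rfl
    · exact absurd hr (by norm_num))
  have hfix : ∀ z : β, z ≠ x → ∃ h ∈ K, h x = x ∧ h z ≠ z := by
    intro z hz
    obtain ⟨u, huz, hside⟩ : ∃ u : {y // y ≠ x},
        u ≠ ⟨z, hz⟩ ∧ ((⟨z, hz⟩ : {y // y ≠ x}) ∈ t' ↔ u ∈ t') := by
      by_cases hzt : (⟨z, hz⟩ : {y // y ≠ x}) ∈ t'
      · obtain ⟨u, v, hu, hv, huz, hvz, huv⟩ := exists_two_others t' ⟨z, hz⟩ hzt (by omega)
        exact ⟨u, huz, ⟨fun _ => hu, fun _ => hzt⟩⟩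
      · have hzc : (⟨z, hz⟩ : {y // y ≠ x}) ∈ t'ᶜ := Finset.mem_compl.2 hzt
        have hcc : 3 ≤ t'ᶜ.card := by rw [Finset.card_compl, hcard', ht'c]; omega
        obtain ⟨u, v, hu, hv, huz, hvz, huv⟩ := exists_two_others t'ᶜ ⟨z, hz⟩ hzc hcc
        rw [Finset.mem_compl] at hu
        exact ⟨u, huz, ⟨fun h => absurd h hzt, fun h => absurd h hu⟩⟩
    have hσ' : swap (⟨z, hz⟩ : {y // y ≠ x}) u ∈ H' :=
      hstab _ (swap_preserves t' _ _ hside)
    obtain ⟨h, hh, hhx, hag⟩ := hres2 _ hσ'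
    refine ⟨h, hh, hhx, ?_⟩
    have := hag ⟨z, hz⟩
    rw [swap_apply_left] at this
    intro hc
    apply huz
    apply Subtype.ext
    rw [this, hc]
  have hnp : ¬ MulAction.IsPreprimitive K β := by
    intro hprim
    have htop := eq_top_of_isPreprimitive π K hK hprim 2 Nat.prime_two h2π (by rw [hcard]; omega)
    exact h5π (mem_of_top π K hK htop 5 (by norm_num) (by rw [hcard]; omega))
  exact exists_block_eight K hcard htr hnp x hfix

end Cfsg.Agent.Lib.Helper71.HallSym
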