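import Mathlib
import Cfsg.Prelude.Def_HallClasses
import Cfsg.Agent.Lib.Helper71.HallSymStruct
import Cfsg.Agent.Lib.Helper36.HallAlt
import Cfsg.Agent.Lib.Helper29.HallAltTB
import Cfsg.Agent.Lib.Helper29.HallAltCyc
import Cfsg.Agent.Lib.Helper66.HallAltFix
import Cfsg.Agent.Lib.Helper89.HallAltPD
import Cfsg.Agent.Lib.Helper73.HallAltT3
import Cfsg.Agent.Lib.Helper49.HallAltHalf
import Cfsg.Agent.Lib.Helper1.HallAltW8

set_option autoImplicit false
open Cfsg Equiv

namespace Cfsg.Agent.Lib.Helper71.HallAlt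

open Cfsg.Agent.Lib.Helper71.HallSym
open Cfsg.Agent.Lib.Helper1.HallAlt (wreathEight mem_wreathEight card_wreathEight wreathEight_conj)
open Cfsg.Agent.Lib.Helper30.HallSym Cfsg.Agent.Lib.Helper55.HallSym
open Cfsg.Agent.Lib.Helper36.HallAlt Cfsg.Agent.Lib.Helper29.HallAlt Cfsg.Agent.Lib.Helper66.HallAlt
open Cfsg.Agent.Lib.Helper89.HallAlt Cfsg.Agent.Lib.Helper73.HallAlt Cfsg.Agent.Lib.Helper49.HallAlt

section aux
variable {β : Type} [Fintype β] [DecidableEq β]

theorem top_not_le_alt (h2 : 2 ≤ Fintype.card β) : ¬ (⊤ : Subgroup (Perm β)) ≤ alternatingGroup β := by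
  intro hle
  have : Nontrivial β := (Fintype.one_lt_card_iff_nontrivial).1 (by omega)
  obtain ⟨a, b, hab⟩ := exists_pair_ne β
  have := hle (Subgroup.mem_top (swap a b))
  rw [Equiv.Perm.mem_alternatingGroup, Perm.sign_swap hab] at this
  exact absurd this (by decide)

theorem five_dvd_card_alt (h5 : 5 ≤ Fintype.card β) : 5 ∣ Nat.card (alternatingGroup β) := by
  have : Nontrivial β := (Fintype.one_lt_card_iff_nontrivial).1 (by omega)
  have h := two_mul_nat_card_alternatingGroup (α := β)
  rw [Nat.card_perm, Nat.card_eq_fintype_card (α := β)] at h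
  have h5' : 5 ∣ 2 * Nat.card (alternatingGroup β) := by
    rw [h]; exact Nat.dvd_factorial (by norm_num) h5
  exact (Nat.Coprime.dvd_mul_left (by norm_num : Nat.Coprime 5 2)).1 h5'

theorem relIndex_inf_alt (K : Subgroup (Perm β)) (hK : ¬ K ≤ alternatingGroup β) :
    (K ⊓ alternatingGroup β).relIndex K = 2 := by
  have : Nontrivial β := by
    by_contra hnt
    rw [not_nontrivial_iff_subsingleton] at hnt
    apply hK
    intro k _
    rw [Equiv.Perm.mem_alternatingGroup]
    have : k = 1 := Subsingleton.elim _ _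
    rw [this]; simp
  rw [Subgroup.inf_relIndex_left]
  have hd : (alternatingGroup β).relIndex K ∣ 2 := by
    have := Subgroup.relIndex_dvd_index_of_normal (alternatingGroup β) K
    rwa [alternatingGroup.index_eq_two] at this
  have hne : (alternatingGroup β).relIndex K ≠ 1 := by
    intro h1
    exact hK (Subgroup.relIndex_eq_one.1 h1)
  rcases (Nat.dvd_prime Nat.prime_two).1 hd with h | h
  · exact absurd h hne
  · exact h

end aux

/-- Every Hall `π`-subgroup of `A_n` (`2 ∈ π`, `n ≥ 2`) lies in a `π`-subgroup of `S_n` which is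
not contained in `A_n`. -/
theorem star (π : Set ℕ) (h2π : 2 ∈ π) : ∀ n : ℕ, 2 ≤ n →
    ∀ (β : Type) [Fintype β] [DecidableEq β], Fintype.card β = n →
    ∀ M : Subgroup (Perm β), IsPiHallOf π M (alternatingGroup β) →
    ∃ K : Subgroup (Perm β), M ≤ K ∧ (∀ p : ℕ, p.Prime → p ∣ Nat.card K → p ∈ π) ∧
      ¬ K ≤ alternatingGroup β := by
  intro n
  induction n using Nat.strong_induction_on with
  | _ n ih =>
  intro hn β _ _ hcard M hM
  -- Step 0: `M` is a 2-group
  by_cases hM2 : ∀ p : ℕ, p.Prime → p ∣ Nat.card M → p = 2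
  · obtain ⟨K, hMK, hK2, hKA⟩ := exists_two_overgroup M (hcard ▸ hn) hM2
    exact ⟨K, hMK, fun p hp hd => (hK2 p hp hd) ▸ h2π, hKA⟩
  -- Step 0': all primes up to `n` are in `π`
  by_cases hA2 : A2 π n
  · refine ⟨⊤, le_top, ?_, top_not_le_alt (hcard ▸ hn)⟩
    intro p hp hd
    rw [Subgroup.card_top, Nat.card_perm, Nat.card_eq_fintype_card (α := β), hcard] at hd
    exact hA2 p hp ((Nat.Prime.dvd_factorial hp).1 hd)
  push Not at hM2
  obtain ⟨p₀, hp₀, hp₀d, hp₀2⟩ := hM2
  have hp₀n : p₀ ≤ n := by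
    have h1 : Nat.card M ∣ Nat.card (Perm β) := Subgroup.card_subgroup_dvd_card M
    rw [Nat.card_perm, Nat.card_eq_fintype_card (α := β), hcard] at h1
    exact (Nat.Prime.dvd_factorial hp₀).1 (hp₀d.trans h1)
  have hn3 : 3 ≤ n := by have := hp₀.two_le; omega
  -- Step A: a fixed point
  by_cases hfixpt : ∃ y : β, ∀ h ∈ M, h y = y
  · obtain ⟨y, hy⟩ := hfixpt
    obtain ⟨hM', htransfer⟩ := alt_fixed_point π M hM y hy
    have hcard' : Fintype.card {z // z ≠ y} = n - 1 := by
      rw [Fintype.card_subtype_compl, Fintype.card_subtype_eq, hcard]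
    obtain ⟨K', hMK', hK'π, hK'A⟩ := ih (n - 1) (by omega) (by omega) {z // z ≠ y} hcard' _ hM'
    refine ⟨K'.map Perm.ofSubtype, htransfer K' hMK', ?_, ?_⟩
    · intro p hp hd
      apply hK'π p hp
      rwa [Subgroup.card_map_of_injective Perm.ofSubtype_injective] at hd
    · intro hle
      apply hK'A
      intro k hk
      have := hle (Subgroup.mem_map_of_mem _ hk)
      rw [Equiv.Perm.mem_alternatingGroup] at this ⊢
      rwa [Perm.sign_ofSubtype] at this
  -- Step B: an invariant subset of intermediate size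
  by_cases hmid : ∃ t : Finset β, (∀ h ∈ M, ∀ a ∈ t, h a ∈ t) ∧ 2 ≤ t.card ∧ t.card + 2 ≤ n
  · obtain ⟨t, ht, ht2, htn⟩ := hmid
    obtain ⟨K, hMK, hKπ, hKA, -⟩ := alt_restrict π M hM h2π t ht ht2 (hcard ▸ htn)
    exact ⟨K, hMK, hKπ, hKA⟩
  -- Step C: `M` is transitive
  have htr : ∀ a b : β, ∃ h ∈ M, h a = b := by
    intro a b
    have hO2 : 2 ≤ (orb M a).card := by
      by_contra hlt
      push Not at hlt
      apply hfixpt
      refine ⟨a, fun h hh => ?_⟩
      have h1 : (orb M a).card = 1 := by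
        have := Finset.card_pos.2 ⟨a, self_mem_orb M a⟩; omega
      have hmem := orb_inv M a h hh a (self_mem_orb M a)
      obtain ⟨a', ha'⟩ := Finset.card_eq_one.1 h1
      have h1' : a ∈ orb M a := self_mem_orb M a
      rw [ha', Finset.mem_singleton] at hmem h1'
      rw [hmem, h1']
    have hbig : n < (orb M a).card + 2 := by
      by_contra hle
      push Not at hle
      exact hmid ⟨orb M a, orb_inv M a, hO2, hle⟩
    have hOle : (orb M a).card ≤ n := hcard ▸ Finset.card_le_univ _
    have hne : (orb M a).card ≠ n - 1 := by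
      intro h1
      have hc1 : (orb M a)ᶜ.card = 1 := by rw [Finset.card_compl, hcard, h1]; omega
      obtain ⟨y, hy⟩ := Finset.card_eq_one.1 hc1
      apply hfixpt
      refine ⟨y, fun h hh => ?_⟩
      have hyX : y ∈ (orb M a)ᶜ := by rw [hy]; exact Finset.mem_singleton_self y
      have := compl_inv M (orb M a) (orb_inv M a) h hh y hyX
      rw [hy, Finset.mem_singleton] at this
      exact this
    have huniv : orb M a = Finset.univ := by
      apply Finset.eq_univ_of_card; rw [hcard]; omega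
    have hb : b ∈ orb M a := huniv ▸ Finset.mem_univ b
    exact mem_orb.1 hb
  have hne : Nonempty β := by rw [← Fintype.card_pos_iff]; omega
  obtain ⟨x⟩ := hne
  obtain ⟨hM', hcardM, hdiv⟩ := alt_stabilizer π M hM htr x
  have hcard' : Fintype.card {z // z ≠ x} = n - 1 := by
    rw [Fintype.card_subtype_compl, Fintype.card_subtype_eq, hcard]
  obtain ⟨K', hMK', hK'π, hK'A⟩ := ih (n - 1) (by omega) (by omega) {z // z ≠ x} hcard' _ hM'
  obtain ⟨hK'H, hK'inf⟩ := hall_up π _ K' hM' hMK' hK'π hK'A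
  -- membership in `M` of extensions
  have hmemM : ∀ σ' : Perm {z // z ≠ x}, σ' ∈ K' → Perm.sign σ' = 1 → Perm.ofSubtype σ' ∈ M := by
    intro σ' hσ' hs
    have : σ' ∈ K' ⊓ alternatingGroup {z // z ≠ x} :=
      ⟨hσ', Equiv.Perm.mem_alternatingGroup.2 hs⟩
    rw [hK'inf] at this
    exact this
  -- restriction of elements of `M` fixing `x`
  have hrestr : ∀ h ∈ M, h x = x → ∃ h' ∈ K', ∀ z : {z // z ≠ x}, ((h' z : {z // z ≠ x}) : β) = h z := by
    intro h hh hx
    have hinv : ∀ z : β, h z ≠ x ↔ z ≠ x := by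
      intro z; constructor
      · intro hz hc; apply hz; rw [hc]; exact hx
      · intro hz hc; apply hz; rw [← hx] at hc; exact h.injective hc
    have hof : Perm.ofSubtype (h.subtypePerm (p := fun z => z ≠ x) hinv) = h := by
      apply Perm.ofSubtype_subtypePerm
      intro z hz hc; apply hz; rw [hc]; exact hx
    refine ⟨h.subtypePerm (p := fun z => z ≠ x) hinv, hMK' ?_, fun z => ?_⟩
    · show Perm.ofSubtype (h.subtypePerm (p := fun z => z ≠ x) hinv) ∈ M
      rw [hof]; exact hh
    · rw [Perm.subtypePerm_apply]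
  by_cases hA1 : A1 π (n - 1)
  · -- the point stabilizer is a 2-group
    have hM'2 : ∀ p : ℕ, p.Prime → p ∣ Nat.card (M.comap (Perm.ofSubtype :
        Perm {z // z ≠ x} →* Perm β)) → p = 2 := by
      intro p hp hd
      have hpπ := hM'.2.1 p hp hd
      have hple : p ≤ n - 1 := by
        have h1 : Nat.card (M.comap (Perm.ofSubtype : Perm {z // z ≠ x} →* Perm β)) ∣
            Nat.card (Perm {z // z ≠ x}) := Subgroup.card_subgroup_dvd_card _
        rw [Nat.card_perm, Nat.card_eq_fintype_card (α := {z // z ≠ x}), hcard'] at h1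
        exact (Nat.Prime.dvd_factorial hp).1 (hd.trans h1)
      exact hA1 p 2 hp Nat.prime_two hpπ h2π hple (by omega)
    have hp₀n' : p₀ ∣ n := by
      rw [hcardM, hcard] at hp₀d
      rcases (Nat.Prime.dvd_mul hp₀).1 hp₀d with h | h
      · exact h
      · exact absurd (hM'2 p₀ hp₀ h) hp₀2
    have hp₀π := hdiv p₀ hp₀ (hcard ▸ hp₀n')
    have hp₀eq : p₀ = n := by
      by_contra hne
      have hle : p₀ ≤ n - 1 := by omega
      exact hp₀2 (hA1 p₀ 2 hp₀ Nat.prime_two hp₀π h2π hle (by omega))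
    have hnp : n.Prime := hp₀eq ▸ hp₀
    have hn5 : 5 ≤ n := by
      unfold A2 at hA2
      push Not at hA2
      obtain ⟨l, hl, hln, hlπ⟩ := hA2
      have hl2 : l ≠ 2 := fun h => hlπ (h ▸ h2π)
      have hln' : l ≠ n := fun h => hlπ (h ▸ hp₀eq ▸ hp₀π)
      have := hl.two_le
      have h4 : 4 ≤ n := by omega
      rcases Nat.lt_or_ge n 5 with h | h
      · exfalso
        have h4' : n = 4 := by omega
        rw [h4'] at hnp; exact absurd hnp (by norm_num)
      · exact h
    exfalso
    obtain ⟨k, hk⟩ : ∃ k : ℕ, Nat.card (M.comap (Perm.ofSubtype :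
        Perm {z // z ≠ x} →* Perm β)) = 2 ^ k := by
      have hpos : Nat.card (M.comap (Perm.ofSubtype : Perm {z // z ≠ x} →* Perm β)) ≠ 0 :=
        Nat.card_pos.ne'
      exact ⟨_, Nat.eq_prime_pow_of_unique_prime_dvd hpos (fun {d} hd hdd => hM'2 d hd hdd)⟩
    exact alt_prime_degree_false M hM.1 (hcard ▸ hnp) (hcard ▸ hn5) htr
      ⟨k, by rw [hcardM, hk]⟩ (hM.2.2 2 Nat.prime_two h2π)
  rcases main' π (n - 1) {z // z ≠ x} hcard' K' hK'H with
    h1 | h2 | ⟨h3, y₀, hy₀⟩ | ⟨h7, h23, t', ht'c, ht'inv⟩ | ⟨h8, h23, htr'⟩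
  · exact absurd h1 hA1
  · exfalso
    apply hA2
    intro r hr hrn
    rcases Nat.lt_or_ge r n with h | h
    · exact h2 r hr (by omega)
    · have hrn' : r = n := by omega
      exact hdiv r hr (by rw [hcard, hrn'])
  · -- `n - 1` is prime: impossible
    exfalso
    obtain ⟨hp, hπp⟩ := h3
    have h5 : 5 ≤ n - 1 := by
      unfold A1 at hA1
      push Not at hA1
      obtain ⟨r, s, hr, hs, hrπ, hsπ, hrn, hsn, hne⟩ := hA1
      have hr' := (hπp r hr hrn).1 hrπ
      have hs' := (hπp s hs hsn).1 hsπ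
      have := hr.two_le
      have := hs.two_le
      have h4 : 4 ≤ n - 1 := by omega
      rcases Nat.lt_or_ge (n - 1) 5 with h | h
      · exfalso
        have h4' : n - 1 = 4 := by omega
        rw [h4'] at hp; exact absurd hp (by norm_num)
      · exact h
    have hxy : x ≠ (y₀ : β) := fun h => y₀.2 h.symm
    have hfix : ∀ h ∈ M, h x = x → h (y₀ : β) = (y₀ : β) := by
      intro h hh hx
      obtain ⟨h', hh', hag⟩ := hrestr h hh hx
      have := hag y₀
      rw [hy₀ h' hh'] at this
      exact this.symm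
    have hall : ∀ σ ∈ alternatingGroup β, σ x = x → σ (y₀ : β) = (y₀ : β) → σ ∈ M := by
      intro σ hσA hσx hσy
      have hinv : ∀ z : β, σ z ≠ x ↔ z ≠ x := by
        intro z; constructor
        · intro hz hc; apply hz; rw [hc]; exact hσx
        · intro hz hc; apply hz; rw [← hσx] at hc; exact σ.injective hc
      have hsupp : ∀ z : β, σ z ≠ z → z ≠ x := by
        intro z hz hc; apply hz; rw [hc]; exact hσx
      set σ' : Perm {z // z ≠ x} := σ.subtypePerm (p := fun z => z ≠ x) hinv with hσ'def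
      have hσ'y : σ' y₀ = y₀ := by
        apply Subtype.ext
        rw [hσ'def, Perm.subtypePerm_apply]
        exact hσy
      have hmem := stabilizer_le_of_hall π K' hK'H (by
        intro r hr hrlt
        rw [hcard'] at hrlt
        exact (hπp r hr hrlt.le).2 hrlt) y₀ hy₀ σ' hσ'y
      have hsign : Perm.sign σ' = 1 := by
        rw [hσ'def, Perm.sign_subtypePerm σ hinv hsupp]
        exact Equiv.Perm.mem_alternatingGroup.1 hσA
      have := hmemM _ hmem hsign
      rwa [hσ'def, Perm.ofSubtype_subtypePerm hinv hsupp] at this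
    exact false_of_two_point_alt M htr x y₀ hxy hfix hall (by rw [hcard]; omega)
  · -- `n = 8`
    have hn8 : n = 8 := by omega
    have h3π : 3 ∈ π := (h23 3 Nat.prime_three (by norm_num)).2 (Or.inr rfl)
    have h5π : 5 ∉ π := fun h => by
      have := (h23 5 (by norm_num) (by norm_num)).1 h; omega
    obtain ⟨g, hgM, hg3⟩ := alt_exists_three_cycle π M hM h3π (by rw [hcard]; omega)
    have hnot : ¬ alternatingGroup β ≤ M := by
      intro hle
      have hMA : M = alternatingGroup β := le_antisymm hM.1 hle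
      apply h5π
      apply hM.2.1 5 (by norm_num)
      rw [hMA]
      exact five_dvd_card_alt (by rw [hcard]; omega)
    have hnp : ¬ MulAction.IsPreprimitive M β := by
      intro hprim
      exact hnot (Equiv.Perm.alternatingGroup_le_of_isPreprimitive_of_isThreeCycle_mem hprim hg3 hgM)
    have hstab := stab_le_of_hall π K' hK'H t' ht'inv (by
      intro r hr hrle
      rw [ht'c, hcard'] at hrle
      have hr4 : r ≤ 4 := by omega
      have hr7 : r ≤ 7 := by omega
      apply (h23 r hr hr7).2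
      interval_cases r
      · exact absurd hr (by norm_num)
      · exact absurd hr (by norm_num)
      · exact Or.inl rfl
      · exact Or.inr rfl
      · exact absurd hr (by norm_num))
    have hfix : ∀ z : β, z ≠ x → ∃ h ∈ M, h x = x ∧ h z ≠ z := by
      intro z hz
      -- two other points on the same side of `t'`
      obtain ⟨u, v, huz, hvz, huv, hside_u, hside_v⟩ : ∃ u v : {z // z ≠ x},
          u ≠ ⟨z, hz⟩ ∧ v ≠ ⟨z, hz⟩ ∧ u ≠ v ∧ ((⟨z, hz⟩ : {z // z ≠ x}) ∈ t' ↔ u ∈ t') ∧
          (u ∈ t' ↔ v ∈ t') := by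
        by_cases hzt : (⟨z, hz⟩ : {z // z ≠ x}) ∈ t'
        · obtain ⟨u, v, hu, hv, huz, hvz, huv⟩ := exists_two_others t' ⟨z, hz⟩ hzt (by omega)
          exact ⟨u, v, huz, hvz, huv, ⟨fun _ => hu, fun _ => hzt⟩, ⟨fun _ => hv, fun _ => hu⟩⟩
        · have hzc : (⟨z, hz⟩ : {z // z ≠ x}) ∈ t'ᶜ := Finset.mem_compl.2 hzt
          have hcc : 3 ≤ t'ᶜ.card := by rw [Finset.card_compl, hcard', ht'c]; omega
          obtain ⟨u, v, hu, hv, huz, hvz, huv⟩ := exists_two_others t'ᶜ ⟨z, hz⟩ hzc hcc
          rw [Finset.mem_compl] at hu hv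
          exact ⟨u, v, huz, hvz, huv, ⟨fun h => absurd h hzt, fun h => absurd h hu⟩,
            ⟨fun h => absurd h hu, fun h => absurd h hv⟩⟩
      set σ' : Perm {z // z ≠ x} := swap (⟨z, hz⟩ : {z // z ≠ x}) u * swap u v with hσ'
      have hσ'K : σ' ∈ K' := by
        apply hstab
        intro a ha
        rw [hσ', Perm.mul_apply]
        exact swap_preserves t' _ _ hside_u _ (swap_preserves t' _ _ hside_v a ha)
      have hσ's : Perm.sign σ' = 1 := by
        rw [hσ', Perm.sign_mul, Perm.sign_swap huz.symm, Perm.sign_swap huv]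
        decide
      refine ⟨Perm.ofSubtype σ', hmemM σ' hσ'K hσ's, ?_, ?_⟩
      · exact Perm.ofSubtype_apply_of_not_mem σ' (by simp)
      · have h1 : Perm.ofSubtype σ' z = (σ' ⟨z, hz⟩ : {z // z ≠ x}) :=
          Perm.ofSubtype_apply_of_mem σ' hz
        have h2 : σ' ⟨z, hz⟩ = u := by
          rw [hσ', Perm.mul_apply, swap_apply_of_ne_of_ne huz.symm hvz.symm, swap_apply_left]
        rw [h1, h2]
        intro hc
        exact huz (Subtype.ext hc)
    obtain ⟨B, hB4, hBM⟩ := exists_block_eight M (by rw [hcard, hn8]) htr hnp x hfix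
    have hβ8 : Fintype.card β = 8 := by rw [hcard, hn8]
    obtain ⟨hWcard, hWA⟩ := card_wreathEight hβ8 B hB4
    refine ⟨wreathEight B, ?_, ?_, hWA⟩
    · intro h hh
      exact (mem_wreathEight hβ8 B hB4 h).2 (hBM h hh)
    · intro p hp hd
      rw [hWcard] at hd
      have h1152 : (1152 : ℕ) = 2 ^ 7 * 3 ^ 2 := by norm_num
      rw [h1152] at hd
      rcases (Nat.Prime.dvd_mul hp).1 hd with h | h
      · have := (Nat.prime_dvd_prime_iff_eq hp Nat.prime_two).1 (hp.dvd_of_dvd_pow h)
        exact this ▸ h2π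
      · have := (Nat.prime_dvd_prime_iff_eq hp Nat.prime_three).1 (hp.dvd_of_dvd_pow h)
        exact this ▸ h3π
  · -- `n = 9`: impossible
    exfalso
    have hn9 : n = 9 := by omega
    have h3π : 3 ∈ π := (h23 3 Nat.prime_three (by norm_num)).2 (Or.inr rfl)
    have h5π : 5 ∉ π := fun h => by
      have := (h23 5 (by norm_num) (by norm_num)).1 h; omega
    -- the point stabilizer is transitive on the remaining points
    have hM'tr : ∀ a b : {z // z ≠ x}, ∃ h ∈ M.comap (Perm.ofSubtype :
        Perm {z // z ≠ x} →* Perm β), h a = b := by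
      by_contra hN
      have hidx : (M.comap (Perm.ofSubtype : Perm {z // z ≠ x} →* Perm β)).relIndex K' = 2 := by
        rw [← hK'inf]; exact relIndex_inf_alt K' hK'A
      obtain ⟨t, ht, htc⟩ := exists_invariant_half K' _ hMK' hidx htr' hN
      rw [hcard'] at htc
      have htc4 : t.card = 4 := by omega
      obtain ⟨K'', hMK'', hK''π, hK''A, hK''t⟩ := alt_restrict π _ hM' h2π t ht (by omega)
        (by rw [hcard']; omega)
      obtain ⟨hK''H, -⟩ := hall_up π _ K'' hM' hMK'' hK''π hK''A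
      have h8' : n - 1 = 8 := h8
      rcases main' π (n - 1) {z // z ≠ x} hcard' K'' hK''H with
        h1 | h2 | ⟨h3, -⟩ | ⟨h7, -⟩ | ⟨-, -, htr''⟩
      · have := h1 2 3 Nat.prime_two Nat.prime_three h2π h3π (by omega) (by omega)
        omega
      · exact h5π (h2 5 (by norm_num) (by omega))
      · rw [h8'] at h3; exact absurd h3.1 (by norm_num)
      · omega
      · obtain ⟨a, ha⟩ : t.Nonempty := by rw [← Finset.card_pos]; omega
        obtain ⟨b, hb⟩ : tᶜ.Nonempty := by
          rw [← Finset.card_pos, Finset.card_compl, hcard']; omega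
        obtain ⟨k, hk, hkab⟩ := htr'' a b
        have := hK''t k hk a ha
        rw [hkab] at this
        exact (Finset.mem_compl.1 hb) this
    have h2' : ∀ a b : β, a ≠ x → b ≠ x → ∃ h ∈ M, h x = x ∧ h a = b := by
      intro a b ha hb
      obtain ⟨h', hh', hab⟩ := hM'tr ⟨a, ha⟩ ⟨b, hb⟩
      refine ⟨Perm.ofSubtype h', hh', Perm.ofSubtype_apply_of_not_mem h' (by simp), ?_⟩
      rw [Perm.ofSubtype_apply_of_mem h' ha, hab]
    have hprim := isPreprimitive_of_stabilizer_trans M htr x h2'
    obtain ⟨g, hgM, hg3⟩ := alt_exists_three_cycle π M hM h3π (by rw [hcard]; omega)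
    have hle := Equiv.Perm.alternatingGroup_le_of_isPreprimitive_of_isThreeCycle_mem hprim hg3 hgM
    have hMA : M = alternatingGroup β := le_antisymm hM.1 hle
    apply h5π
    apply hM.2.1 5 (by norm_num)
    rw [hMA]
    exact five_dvd_card_alt (by rw [hcard]; omega)

end Cfsg.Agent.Lib.Helper71.HallAlt
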