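import Mathlib
import Cfsg.Prelude.Def_HallClasses
import Cfsg.Agent.Lib.Helper71.HallSymStruct
import Cfsg.Agent.Lib.Helper49.HallAltConj
import Cfsg.Agent.Lib.Helper1.HallAltW8

set_option autoImplicit false
open Cfsg Equiv

namespace Cfsg.Agent.Lib.Helper71.HallSym

open Cfsg.Agent.Lib.Helper55.HallSym Cfsg.Agent.Lib.Helper92.HallSym
open Cfsg.Agent.Lib.Helper73.HallAlt Cfsg.Agent.Lib.Helper49.HallAlt
open Cfsg.Agent.Lib.Helper1.HallAlt (wreathEight mem_wreathEight card_wreathEight wreathEight_conj)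

variable {β : Type} [Fintype β] [DecidableEq β]

/-- the structural alternatives for a Hall subgroup outside the two standard cases -/
theorem main_cases (π : Set ℕ) (H : Subgroup (Perm β)) (hH : IsPiHall π H)
    (hA1 : ¬ A1 π (Fintype.card β)) (hA2 : ¬ A2 π (Fintype.card β)) :
    (A3 π (Fintype.card β) ∧ ∃ y : β, ∀ h ∈ H, h y = y) ∨
    (Fintype.card β = 7 ∧ A23 π 7 ∧ ∃ t : Finset β, t.card = 3 ∧ ∀ h ∈ H, ∀ a ∈ t, h a ∈ t) ∨
    (Fintype.card β = 8 ∧ A23 π 8) := by
  rcases main' π (Fintype.card β) β rfl H hH with h1 | h2 | h3 | h7 | ⟨h8, h23, -⟩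
  · exact absurd h1 hA1
  · exact absurd h2 hA2
  · exact Or.inl h3
  · exact Or.inr (Or.inl h7)
  · exact Or.inr (Or.inr ⟨h8, h23⟩)

/-- a Hall `{2,3}`-subgroup of `S_8` is the stabilizer of a partition into two 4-sets -/
theorem hall_eight_eq (π : Set ℕ) (K : Subgroup (Perm β)) (hcard : Fintype.card β = 8)
    (hK : IsPiHall π K) (h23 : A23 π 8) :
    ∃ B : Finset β, B.card = 4 ∧ K = wreathEight B := by
  have h2π : 2 ∈ π := (h23 2 Nat.prime_two (by norm_num)).2 (Or.inl rfl)
  have h3π : 3 ∈ π := (h23 3 Nat.prime_three (by norm_num)).2 (Or.inr rfl)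
  obtain ⟨B, hB4, hBK⟩ := hall_eight_partition π K hcard hK h23
  refine ⟨B, hB4, ?_⟩
  apply eq_of_isPiHall_of_le hK
  · intro h hh
    exact (mem_wreathEight hcard B hB4 h).2 (hBK h hh)
  · intro p hp hd
    rw [(card_wreathEight hcard B hB4).1] at hd
    have h1152 : (1152 : ℕ) = 2 ^ 7 * 3 ^ 2 := by norm_num
    rw [h1152] at hd
    rcases (Nat.Prime.dvd_mul hp).1 hd with h | h
    · have := (Nat.prime_dvd_prime_iff_eq hp Nat.prime_two).1 (hp.dvd_of_dvd_pow h)
      exact this ▸ h2π
    · have := (Nat.prime_dvd_prime_iff_eq hp Nat.prime_three).1 (hp.dvd_of_dvd_pow h)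
      exact this ▸ h3π

/-- Any two Hall `π`-subgroups of a symmetric group are conjugate. -/
theorem conj_sym (π : Set ℕ) (H K : Subgroup (Perm β)) (hH : IsPiHall π H) (hK : IsPiHall π K) :
    ∃ g : Perm β, K = H.map (MulAut.conj g).toMonoidHom := by
  by_cases hA1 : A1 π (Fintype.card β)
  · apply conj_of_le_one_prime π H K hH hK
    intro r s hr hs hrπ hsπ hrd hsd
    rw [Nat.card_perm, Nat.card_eq_fintype_card] at hrd hsd
    exact hA1 r s hr hs hrπ hsπ ((Nat.Prime.dvd_factorial hr).1 hrd)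
      ((Nat.Prime.dvd_factorial hs).1 hsd)
  by_cases hA2 : A2 π (Fintype.card β)
  · have htop : ∀ p : ℕ, p.Prime → p ∣ Nat.card (⊤ : Subgroup (Perm β)) → p ∈ π := by
      intro p hp hd
      rw [Subgroup.card_top, Nat.card_perm, Nat.card_eq_fintype_card] at hd
      exact hA2 p hp ((Nat.Prime.dvd_factorial hp).1 hd)
    have h1 := eq_of_isPiHall_of_le hH le_top htop
    have h2 := eq_of_isPiHall_of_le hK le_top htop
    refine ⟨1, ?_⟩
    rw [h1, h2]
    ext x
    simp
  rcases main_cases π H hH hA1 hA2 with ⟨h3, y, hy⟩ | ⟨h7, h23, t, htc, ht⟩ | ⟨h8, h23⟩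
  · -- point stabilizers
    rcases main_cases π K hK hA1 hA2 with ⟨-, y', hy'⟩ | ⟨h7, h23, -⟩ | ⟨h8, -⟩
    · have hπ : ∀ r : ℕ, r.Prime → r < Fintype.card β → r ∈ π :=
        fun r hr hlt => (h3.2 r hr hlt.le).2 hlt
      apply conj_of_stab H K {y} {y'} (by simp)
      · intro h hh a ha
        rw [Finset.mem_singleton] at ha ⊢
        rw [ha]; exact hy h hh
      · intro σ hσ
        apply stabilizer_le_of_hall π H hH hπ y hy σ
        have := hσ y (Finset.mem_singleton_self y)
        rwa [Finset.mem_singleton] at this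
      · intro h hh a ha
        rw [Finset.mem_singleton] at ha ⊢
        rw [ha]; exact hy' h hh
      · intro σ hσ
        apply stabilizer_le_of_hall π K hK hπ y' hy' σ
        have := hσ y' (Finset.mem_singleton_self y')
        rwa [Finset.mem_singleton] at this
    · exfalso
      rw [h7] at h3
      have h5 : (5 : ℕ) ∈ π := (h3.2 5 (by norm_num) (by norm_num)).2 (by norm_num)
      have := (h23 5 (by norm_num) (by norm_num)).1 h5
      omega
    · exfalso
      rw [h8] at h3
      exact absurd h3.1 (by norm_num)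
  · -- stabilizers of 3-sets in degree 7
    rcases main_cases π K hK hA1 hA2 with ⟨h3, -⟩ | ⟨-, -, t', ht'c, ht'⟩ | ⟨h8, -⟩
    · exfalso
      rw [h7] at h3
      have h5 : (5 : ℕ) ∈ π := (h3.2 5 (by norm_num) (by norm_num)).2 (by norm_num)
      have := (h23 5 (by norm_num) (by norm_num)).1 h5
      omega
    · have hπ : ∀ s : Finset β, s.card = 3 → ∀ r : ℕ, r.Prime →
          (r ≤ s.card ∨ r + s.card ≤ Fintype.card β) → r ∈ π := by
        intro s hs r hr hrle
        rw [hs, h7] at hrle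
        have hr4 : r ≤ 4 := by omega
        apply (h23 r hr (by omega)).2
        interval_cases r
        · exact absurd hr (by norm_num)
        · exact absurd hr (by norm_num)
        · exact Or.inl rfl
        · exact Or.inr rfl
        · exact absurd hr (by norm_num)
      exact conj_of_stab H K t t' (by rw [htc, ht'c]) ht
        (stab_le_of_hall π H hH t ht (hπ t htc)) ht'
        (stab_le_of_hall π K hK t' ht' (hπ t' ht'c))
    · omega
  · -- degree 8
    obtain ⟨B, hB4, hHB⟩ := hall_eight_eq π H h8 hH h23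
    obtain ⟨B', hB'4, hKB⟩ := hall_eight_eq π K h8 hK h23
    obtain ⟨g, hg⟩ := wreathEight_conj h8 B B' hB4 hB'4
    exact ⟨g, by rw [hKB, hHB, hg]⟩

end Cfsg.Agent.Lib.Helper71.HallSym
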