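import Mathlib
import Cfsg.Agent.Lib.Helper79.ClassCount

/-!
# Arithmetic for the Klein-four order formula, PSL shape (helper71)

* `kf_invol_parity`: `χ(1) + χ(t) = 2 m` for an involution `t`.
* `kf_arith`: from `g (r+1)² c_P² = 4 r q c_J³` and `q r c_J ∣ g` (with `q = 2r+1`) get `m` with
  `4 c_J = m c_P (q+1)` and `8 g = m³ c_P (q³ - q)`.
-/

set_option autoImplicit false

namespace Cfsg.Agent.Lib.Helper71

theorem kf_mem_zpowers_invol {G : Type*} [Group G] {t : G} (htt : t * t = 1) (g : G) :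
    g ∈ Subgroup.zpowers t ↔ g = 1 ∨ g = t := by
  constructor
  · intro hg
    obtain ⟨k, rfl⟩ := Subgroup.mem_zpowers_iff.mp hg
    have h2 : t ^ (2 : ℤ) = 1 := by
      rw [zpow_ofNat, pow_two]; exact htt
    rcases Int.emod_two_eq_zero_or_one k with h | h
    · left
      have : k = 2 * (k / 2) := by omega
      rw [this, zpow_mul, h2, one_zpow]
    · right
      have : k = 2 * (k / 2) + 1 := by omega
      rw [this, zpow_add, zpow_mul, h2, one_zpow, one_mul, zpow_one]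
  · rintro (rfl | rfl)
    · exact Subgroup.one_mem _
    · exact Subgroup.mem_zpowers _

/-- For an involution `t`, `χ(1) + χ(t) = 2m` with `m` a natural number. -/
theorem kf_invol_parity {G : Type*} [Group G] [Finite G] (χ : Cfsg.IrrCharacter G) {t : G}
    (ht1 : t ≠ 1) (htt : t * t = 1) :
    ∃ m : ℕ, (χ : G → ℂ) 1 + (χ : G → ℂ) t = 2 * (m : ℂ) := by
  classical
  have : Fintype G := Fintype.ofFinite G
  have : Fintype (Subgroup.zpowers t) := Fintype.ofFinite _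
  obtain ⟨m, hm⟩ := Cfsg.Agent.Lib.Helper79.sum_subgroup_irr χ (Subgroup.zpowers t)
  refine ⟨m, ?_⟩
  have hcard : Nat.card (Subgroup.zpowers t) = 2 := by
    rw [Nat.card_zpowers]
    apply orderOf_eq_prime
    · rw [pow_two]; exact htt
    · exact ht1
  rw [hcard] at hm
  have hs : ∑ u : Subgroup.zpowers t, (χ : G → ℂ) (u : G) =
      ∑ g ∈ ({1, t} : Finset G), (χ : G → ℂ) g := by
    rw [Finset.sum_subtype ({1, t} : Finset G) (p := fun g => g ∈ Subgroup.zpowers t)]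
    intro g
    rw [kf_mem_zpowers_invol htt g]
    simp
  rw [hs, Finset.sum_pair (Ne.symm ht1)] at hm
  rw [hm]; push_cast; ring

theorem kf_arith (g cJ cP q r : ℕ) (hq : q = 2 * r + 1) (hr : 0 < r) (hcJ : 0 < cJ)
    (hcP : 0 < cP) (hA : g * (r + 1) ^ 2 * cP ^ 2 = 4 * r * q * cJ ^ 3)
    (hdiv : q * r * cJ ∣ g) :
    ∃ m : ℕ, 4 * cJ = m * cP * (q + 1) ∧ 8 * g = m ^ 3 * cP * (q ^ 3 - q) := by
  obtain ⟨w, hw⟩ := hdiv
  subst hw
  have hqpos : 0 < q := by omega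
  have hpos : 0 < q * r * cJ := Nat.mul_pos (Nat.mul_pos hqpos hr) hcJ
  have h1 : (q * r * cJ) * (w * ((r + 1) * cP) ^ 2) = (q * r * cJ) * ((2 * cJ) ^ 2) := by
    calc (q * r * cJ) * (w * ((r + 1) * cP) ^ 2) = q * r * cJ * w * (r + 1) ^ 2 * cP ^ 2 := by ring
      _ = 4 * r * q * cJ ^ 3 := hA
      _ = (q * r * cJ) * ((2 * cJ) ^ 2) := by ring
  have h2 : w * ((r + 1) * cP) ^ 2 = (2 * cJ) ^ 2 := Nat.eq_of_mul_eq_mul_left hpos h1
  have hsq : ((r + 1) * cP) ^ 2 ∣ (2 * cJ) ^ 2 := ⟨w, by rw [← h2]; ring⟩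
  have hd : (r + 1) * cP ∣ 2 * cJ := (Nat.pow_dvd_pow_iff two_ne_zero).mp hsq
  obtain ⟨m, hm⟩ := hd
  have hbpos : 0 < ((r + 1) * cP) ^ 2 := by positivity
  have hw2 : w = m ^ 2 := by
    have h3 : ((r + 1) * cP) ^ 2 * w = ((r + 1) * cP) ^ 2 * m ^ 2 := by
      calc ((r + 1) * cP) ^ 2 * w = w * ((r + 1) * cP) ^ 2 := by ring
        _ = (2 * cJ) ^ 2 := h2
        _ = ((r + 1) * cP * m) ^ 2 := by rw [hm]
        _ = ((r + 1) * cP) ^ 2 * m ^ 2 := by ring
    exact Nat.eq_of_mul_eq_mul_left hbpos h3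
  have hsub : q ^ 3 - q = 4 * r * (r + 1) * q := by
    apply Nat.sub_eq_of_eq_add
    rw [hq]; ring
  refine ⟨m, ?_, ?_⟩
  · rw [hq]
    calc 4 * cJ = 2 * (2 * cJ) := by ring
      _ = 2 * ((r + 1) * cP * m) := by rw [hm]
      _ = m * cP * (2 * r + 1 + 1) := by ring
  · rw [hsub, hw2]
    calc 8 * (q * r * cJ * m ^ 2) = 4 * r * q * m ^ 2 * (2 * cJ) := by ring
      _ = 4 * r * q * m ^ 2 * ((r + 1) * cP * m) := by rw [hm]
      _ = m ^ 3 * cP * (4 * r * (r + 1) * q) := by ring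

end Cfsg.Agent.Lib.Helper71
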