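import Mathlib
import Cfsg.Agent.Lib.Helper74.OrderFormulaB
import Cfsg.Agent.Lib.Helper74.SingularCount
import Cfsg.Agent.Lib.Helper74.KleinCentral
import Cfsg.Agent.Lib.Helper74.FSCount
import Cfsg.Agent.Lib.Helper74.FSOdd
import Cfsg.Agent.Lib.Helper81.SqrtCount
import Cfsg.Agent.Lib.Helper81.IrrTwist
import Cfsg.Agent.Lib.Helper76.PCore

/-!
# Block-twisted Frobenius–Schur count for Klein four Sylow 2-subgroups (helper71)

* `kf_no_sqrt`: with Klein four Sylow `2`-subgroups, `J * c` (J an involution, `c` of odd order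
  commuting with `J`) is not a square.
* `kf_sum_fs`: `∑_{χ ∈ B₀} conj ν(χ) χ(J) = 0`.
* `conj_mem_principalBlock`: the principal block is closed under complex conjugation.
-/

set_option autoImplicit false

namespace Cfsg.Agent.Lib.Helper71

open Cfsg Cfsg.Agent.Lib.Helper74 Cfsg.Agent.Lib.Helper78 Cfsg.Agent.Lib.Helper81
open scoped ComplexConjugate

section NoSqrt

variable {G : Type*} [Group G] [Finite G]

theorem kf_no_sqrt (P : Sylow 2 G) (hP : IsKleinFour (P : Subgroup G)) (J : G) (hJ1 : J ≠ 1)
    (hJJ : J * J = 1) (c : G) (hc : Commute J c) (hodd : Odd (orderOf c)) (u : G) :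
    u * u ≠ J * c := by
  intro huu
  set n := orderOf c with hn
  have hJn : J ^ n = J := by
    obtain ⟨k, hk⟩ := hodd
    rw [hk, pow_succ, pow_mul, sq, hJJ, one_pow, one_mul]
  have h1 : (u * u) ^ n = J := by
    rw [huu, hc.mul_pow, hJn, hn, pow_orderOf_eq_one, mul_one]
  have h2 : u ^ n * u ^ n = J := by
    rw [← (Commute.refl u).mul_pow, h1]
  set w := u ^ n with hw
  have hw1 : w ≠ 1 := by
    intro h
    rw [h, mul_one] at h2
    exact hJ1 h2.symm
  have hw4 : w ^ 4 = 1 := by
    have : w ^ 4 = (w * w) * (w * w) := by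
      rw [pow_succ, pow_succ, pow_succ, pow_one, mul_assoc]
    rw [this, h2, hJJ]
  have hdvd : orderOf w ∣ 2 ^ 2 := by
    have := orderOf_dvd_of_pow_eq_one hw4
    norm_num
    exact this
  obtain ⟨k, _, hk⟩ := (Nat.dvd_prime_pow Nat.prime_two).mp hdvd
  have := (orderOf_eq_two_of_klein P hP hw1 ⟨k, hk⟩).1
  have hww : w * w = 1 := by
    rw [← sq, ← this, pow_orderOf_eq_one]
  rw [hww] at h2
  exact hJ1 h2.symm

end NoSqrt

section Twist

variable {G : Type*} [Group G] [Fintype G] {M : Ideal AlgInt}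

open scoped Classical in
theorem kf_sum_fs (hM : IsPModular 2 M) (P : Sylow 2 G) (hP : IsKleinFour (P : Subgroup G))
    (J : G) (hJ : J ∈ (P : Subgroup G)) (hJ2 : orderOf J = 2) :
    ∑ χ ∈ Finset.univ.filter (fun χ : IrrCharacter G => χ ∈ principalBlock M G),
      conj (fsIndicator (χ : G → ℂ)) * (χ : G → ℂ) J = 0 := by
  have : Fact (Nat.Prime 2) := ⟨Nat.prime_two⟩
  have hJJ : J * J = 1 := by rw [← sq, ← hJ2, pow_orderOf_eq_one]
  have hJ1 : J ≠ 1 := by
    intro h
    rw [h, orderOf_one] at hJ2
    norm_num at hJ2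
  have hJ2' : ∃ k : ℕ, orderOf J = 2 ^ k := ⟨1, by rw [hJ2, pow_one]⟩
  have : Fintype (Subgroup.centralizer ({J} : Set G)) := Fintype.ofFinite _
  have : Fintype (pPrimeCore 2 (Subgroup.centralizer ({J} : Set G))) := Fintype.ofFinite _
  have hk := exists_index_pPrimeCore_centralizer_of_klein P hP J hJ hJ1
  have h1reg : ¬ 2 ∣ orderOf (1 : Subgroup.centralizer ({J} : Set G)) := by
    rw [orderOf_one]; norm_num
  have hBtw := principal_blockPart_twist_classFunction hM J hJ2'
    (sqrtCount_isClassFunction (G := G)) (1 : Subgroup.centralizer ({J} : Set G)) h1reg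
  have hloc := principal_blockPart_one_of_index (H := Subgroup.centralizer ({J} : Set G)) hM hk
    (fun c => sqrtCount (J * (c : G)))
  rw [hloc] at hBtw
  have hzero : ∀ c : pPrimeCore 2 (Subgroup.centralizer ({J} : Set G)),
      sqrtCount (J * (((c : Subgroup.centralizer ({J} : Set G)) : G))) = 0 := by
    intro c
    unfold sqrtCount
    have hcomm : Commute J (((c : Subgroup.centralizer ({J} : Set G)) : G)) := by
      have := (c : Subgroup.centralizer ({J} : Set G)).2
      exact (Subgroup.mem_centralizer_singleton_iff.mp this).symm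
    have hoddc : Odd (orderOf (((c : Subgroup.centralizer ({J} : Set G)) : G))) := by
      rw [Subgroup.orderOf_coe, Subgroup.orderOf_coe]
      have h1 : orderOf c ∣ Nat.card (pPrimeCore 2 (Subgroup.centralizer ({J} : Set G))) :=
        orderOf_dvd_natCard c
      have h2 : (Nat.card (pPrimeCore 2 (Subgroup.centralizer ({J} : Set G)))).Coprime 2 :=
        Cfsg.Agent.Lib.Helper76.pPrimeCore_coprime 2
      have h3 : (orderOf c).Coprime 2 := Nat.Coprime.coprime_dvd_left h1 h2
      exact Nat.Coprime.odd_of_right h3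
    have hempty : IsEmpty {u : G // u * u = J * (((c : Subgroup.centralizer ({J} : Set G)) : G))} :=
      ⟨fun u => kf_no_sqrt P hP J hJ1 hJJ _ hcomm hoddc u.1 u.2⟩
    simp
  simp only [hzero, Finset.sum_const_zero, mul_zero] at hBtw
  rw [hBtw]
  apply Finset.sum_congr rfl
  intro χ _
  rw [classInner_sqrtCount, Subgroup.coe_one, mul_one]

end Twist

section ConjClosed

variable {G : Type*} [Group G] [Finite G] {M : Ideal AlgInt}

theorem conj_mem_principalBlock (χ : IrrCharacter G) (hχ : χ ∈ principalBlock M G) :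
    (⟨fun g => conj ((χ : G → ℂ) g), isIrrCharacter_conj χ.2⟩ : IrrCharacter G) ∈
      principalBlock M G := by
  have : Fintype G := Fintype.ofFinite G
  intro g
  have h := hχ g⁻¹
  have hcent : Subgroup.centralizer ({g⁻¹} : Set G) = Subgroup.centralizer ({g} : Set G) := by
    ext x
    rw [Subgroup.mem_centralizer_singleton_iff, Subgroup.mem_centralizer_singleton_iff]
    constructor
    · intro hx
      have : x * g = g * x := by
        have h1 : g * (x * g⁻¹) * g = g * (g⁻¹ * x) * g := by rw [hx]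
        simpa [mul_assoc] using h1.symm
      exact this
    · intro hx
      have h1 : g⁻¹ * (x * g) * g⁻¹ = g⁻¹ * (g * x) * g⁻¹ := by rw [hx]
      simpa [mul_assoc] using h1.symm
  have hc := IsIrrCharacter.isCharacter χ.2
  have e1 : centralChar (fun _ : G => (1 : ℂ)) g = centralChar (fun _ : G => (1 : ℂ)) g⁻¹ := by
    unfold centralChar
    rw [hcent]
  have e2 : centralChar (fun g => conj ((χ : G → ℂ) g)) g = centralChar (χ : G → ℂ) g⁻¹ := by
    unfold centralChar
    rw [hcent, IsCharacter.inv hc g]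
    have h1 : conj ((χ : G → ℂ) 1) = (χ : G → ℂ) 1 := by
      have := IsCharacter.inv hc (1 : G)
      rw [inv_one] at this
      exact this.symm
    show _ * conj ((χ : G → ℂ) g) / conj ((χ : G → ℂ) 1) = _
    rw [h1]
  show MemLocalIdeal M (centralChar (fun _ : G => (1 : ℂ)) g -
    centralChar (fun g => conj ((χ : G → ℂ) g)) g)
  rw [e1, e2]
  exact h

end ConjClosed

end Cfsg.Agent.Lib.Helper71
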