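import Mathlib
import Cfsg.Agent.Lib.Helper71.LWDefs
import Cfsg.Agent.Lib.Helper12.LWCa
import Cfsg.Agent.Lib.Helper12.LWCb
import Cfsg.Agent.Lib.Helper3.LWDihedral
import Cfsg.Agent.Lib.Helper98.LWSym
import Cfsg.Agent.Lib.Helper42.LWRes
import Cfsg.Agent.Lib.Helper12.LWCtriv

/-!
# Lemma C for Livingstone–Wagner (helper71)

If a Sylow `2`-subgroup `P ≠ 1` of the `k`-point stabiliser fixes exactly `k` points, then some
`(k+1)`-set has the full symmetric group induced on it.
-/

set_option autoImplicit false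
open Equiv
open Cfsg.Agent.Lib.Helper71.LW
open Cfsg.Agent.Lib.Helper3.LW (swaps_of_involutions)
open Cfsg.Agent.Lib.Helper98.LW (inducesSym_of_swaps)
open Cfsg.Agent.Lib.Helper42.LW (exists_induced)
open Cfsg.Agent.Lib.Helper12.LW (two_elt_trivial exists_Q1 exists_w)

namespace Cfsg.Agent.Lib.Helper71.LW

variable {α : Type*} [Fintype α] [DecidableEq α]

theorem lemmaC (G : Subgroup (Perm α)) (k : ℕ) (hk : 1 ≤ k) (hG : Trans G k) (Γ : Finset α)
    (hΓ : Γ.card = k) (P : Subgroup (Perm α)) (hP : IsSyl2In P (pstab G Γ)) (hP1 : P ≠ ⊥)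
    (hfix : fixPts P = Γ) : ∃ Δ : Finset α, Δ.card = k + 1 ∧ InducesSym G Δ := by
  classical
  obtain ⟨Q, hQG, hQ2, hQcard, hmax, hlt⟩ := exists_Q1 G k hk hG Γ hΓ P hP hP1 hfix
  obtain ⟨B, hB1, hB2⟩ := exists_induced G Q
  -- involutions of `B` with prescribed fixed set
  have hinv : ∀ E' : Finset ↥(fixPts Q), E'.card = k →
      ∃ u ∈ B, u * u = 1 ∧ ∀ x, u x = x ↔ x ∈ E' := by
    intro E' hE'
    have hEcard : (E'.map (Function.Embedding.subtype _)).card = k := by
      rw [Finset.card_map, hE']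
    have hEQ : E'.map (Function.Embedding.subtype _) ⊆ fixPts Q := by
      intro x hx
      rw [Finset.mem_map] at hx
      obtain ⟨y, -, rfl⟩ := hx
      exact y.2
    obtain ⟨w, hwG, hwQ, hwE, hwmove, hww⟩ :=
      exists_w G k hG Γ hΓ P hP Q hQG hQ2 hmax hlt _ hEcard hEQ
    obtain ⟨u, huB, hu⟩ := hB2 w hwG hwQ
    refine ⟨u, huB, ?_, ?_⟩
    · ext x
      simp only [Perm.mul_apply, Perm.one_apply]
      rw [← hu (u x), ← hu x]
      exact hww x x.2
    · intro x
      constructor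
      · intro hux
        by_contra hxE
        have hxE' : (x : α) ∉ E'.map (Function.Embedding.subtype _) := by
          intro h
          rw [Finset.mem_map] at h
          obtain ⟨y, hy, hyx⟩ := h
          have : y = x := Subtype.ext hyx
          exact hxE (this ▸ hy)
        apply hwmove x x.2 hxE'
        rw [hu x, hux]
      · intro hxE
        apply Subtype.ext
        rw [← hu x]
        exact hwE x (Finset.mem_map.2 ⟨x, hxE, rfl⟩)
  -- `2`-elements of `B` fixing `k + 1` points are trivial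
  have htriv : ∀ c ∈ B, c * c = 1 → ∀ Δ' : Finset ↥(fixPts Q), Δ'.card = k + 1 →
      (∀ x ∈ Δ', c x = x) → c = 1 := by
    intro c hcB hcc Δ' hΔ' hcΔ
    obtain ⟨g, hgG, hgQ, hg⟩ := hB1 c hcB
    have hcc' : ∀ z, c (c z) = z := by
      intro z
      have := congrArg (fun f : Perm ↥(fixPts Q) => f z) hcc
      simpa using this
    have hg2 : ∀ y ∈ fixPts Q, g (g y) = y := by
      intro y hy
      have h1 := hg ⟨y, hy⟩
      have h2 := hg (c ⟨y, hy⟩)
      simp only at h1
      rw [h1, h2, hcc']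
    have hΔQ : Δ'.map (Function.Embedding.subtype _) ⊆ fixPts Q := by
      intro x hx
      rw [Finset.mem_map] at hx
      obtain ⟨y, -, rfl⟩ := hx
      exact y.2
    have hgΔ : ∀ x ∈ Δ'.map (Function.Embedding.subtype _), g x = x := by
      intro x hx
      rw [Finset.mem_map] at hx
      obtain ⟨y, hy, rfl⟩ := hx
      show g (y : α) = (y : α)
      rw [hg y, hcΔ y hy]
    have key := two_elt_trivial G k Q hQG hQ2 hmax g hgG hgQ hg2 _
      (by rw [Finset.card_map, hΔ']) hΔQ hgΔ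
    ext x
    simp only [Perm.one_apply]
    rw [← hg x]
    exact key x x.2
  -- a `(k+1)`-subset of the fixed points of `Q`
  obtain ⟨Δ, hΔQ, hΔ⟩ := Finset.exists_subset_card_eq (s := fixPts Q) (n := k + 1) hQcard
  refine ⟨Δ, hΔ, inducesSym_of_swaps G Δ ?_⟩
  intro x hx y hy hxy
  have hE₀card : (((Δ.erase x).erase y).subtype (· ∈ fixPts Q)).card + 1 = k := by
    rw [Finset.card_subtype]
    have hsub : ((Δ.erase x).erase y).filter (· ∈ fixPts Q) = (Δ.erase x).erase y := by
      apply Finset.filter_true_of_mem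
      intro z hz
      exact hΔQ (Finset.mem_of_mem_erase (Finset.mem_of_mem_erase hz))
    rw [hsub, Finset.card_erase_of_mem (Finset.mem_erase.2 ⟨Ne.symm hxy, hy⟩),
      Finset.card_erase_of_mem hx, hΔ]
    omega
  obtain ⟨s, hsB, hsxy, hsyx, hsE⟩ := swaps_of_involutions B k hinv htriv
    (((Δ.erase x).erase y).subtype (· ∈ fixPts Q)) hE₀card ⟨x, hΔQ hx⟩ ⟨y, hΔQ hy⟩
    (by simp) (by simp) (by simpa using hxy)
  obtain ⟨g, hgG, -, hg⟩ := hB1 s hsB
  refine ⟨g, hgG, ?_, ?_, ?_⟩
  · have := hg ⟨x, hΔQ hx⟩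
    simp only at this
    rw [this, hsxy]
  · have := hg ⟨y, hΔQ hy⟩
    simp only at this
    rw [this, hsyx]
  · intro z hz hzx hzy
    have hzE : (⟨z, hΔQ hz⟩ : ↥(fixPts Q)) ∈ ((Δ.erase x).erase y).subtype (· ∈ fixPts Q) := by
      simp [hzx, hzy, hz]
    have := hg ⟨z, hΔQ hz⟩
    simp only at this
    rw [this, hsE _ hzE]

end Cfsg.Agent.Lib.Helper71.LW
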