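import Mathlib
import Cfsg.Agent.Lib.Helper71.LWDefs
import Cfsg.Agent.Lib.Helper71.LWLemmaC
import Cfsg.Agent.Lib.Helper98.LWSym
import Cfsg.Agent.Lib.Helper14.LWTransport
import Cfsg.Agent.Lib.Helper14.LWHom3
import Cfsg.Agent.Lib.Helper77.LWAHall
import Cfsg.Agent.Lib.Helper77.LWASmall
import Cfsg.Agent.Lib.Helper42.LWSyl
import Cfsg.Agent.Lib.Helper14.LWWitt
import Cfsg.Agent.Lib.Helper59.LW71Bridge
import Cfsg.Agent.Lib.Helper59.LW71Last
import Cfsg.Agent.Lib.Helper59.LW71AltSub
import Cfsg.Agent.Lib.Helper3.LWSharp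

/-!
# Livingstone–Wagner: the two inductions (helper71)

* `main747`: a `k`-transitive group, `4 ≤ k < n`, has a `(k+1)`-set on which it induces at least
  the alternating group.
* `lwstar`: a `t`-transitive, `(t+1)`-homogeneous group (`t ≥ 4`) is `(t+1)`-transitive or is the
  alternating group of degree `t + 2`.
-/

set_option autoImplicit false
open Equiv
open Cfsg.Agent.Lib.Helper71.LW
open Cfsg.Agent.Lib.Helper98.LW (trans_of_inducesSym inducesSym_of_alt_of_swap)
open Cfsg.Agent.Lib.Helper14.LW (inducesAlt_map trans_of_sub homog_sub)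
open Cfsg.Agent.Lib.Helper77.LW (sharp_of_odd alt_le_of_small eq_alt_of_card_add_two)
open Cfsg.Agent.Lib.Helper42.LW (exists_isSyl2In_ge exists_involution_of_ne_bot odd_card_of_syl_bot)
open Cfsg.Agent.Lib.Helper14.LW (witt_reduce)
open Cfsg.Agent.Lib.Helper59.LW (trans_iff homog_iff trans_succ_of_card trans_alt inducesAlt_of_alt_sub
  inducesAlt_of_alt_le inducesAlt_univ_of_alt_le)
open Cfsg.Agent.Lib.Helper3.LW (sharp_case)

namespace Cfsg.Agent.Lib.Helper71.LW

universe u

theorem Trans.mono_subgroup {α : Type*} [Fintype α] [DecidableEq α] {H G : Subgroup (Perm α)}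
    (hHG : H ≤ G) {k : ℕ} (h : Trans H k) : Trans G k := by
  intro x y
  obtain ⟨g, hg, hgxy⟩ := h x y
  exact ⟨g, hHG hg, hgxy⟩

theorem exists_card_eq {α : Type*} [Fintype α] [DecidableEq α] (k : ℕ) (hk : k ≤ Fintype.card α) :
    ∃ Γ : Finset α, Γ.card = k := by
  obtain ⟨Γ, -, hΓ⟩ := Finset.exists_subset_card_eq (s := (Finset.univ : Finset α))
    (n := k) (by rw [Finset.card_univ]; exact hk)
  exact ⟨Γ, hΓ⟩

theorem fixPts_card_lt {α : Type*} [Fintype α] [DecidableEq α] {P : Subgroup (Perm α)}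
    (hP : P ≠ ⊥) : (fixPts P).card < Fintype.card α := by
  rw [← Finset.card_univ]
  apply Finset.card_lt_card
  rw [Finset.ssubset_univ_iff]
  intro h
  apply hP
  rw [Subgroup.eq_bot_iff_forall]
  intro g hg
  ext x
  have hx : x ∈ fixPts P := by rw [h]; exact Finset.mem_univ x
  simpa using mem_fixPts.1 hx g hg

theorem subset_fixPts {α : Type*} [Fintype α] [DecidableEq α] {G P : Subgroup (Perm α)}
    {Γ : Finset α} (hP : P ≤ pstab G Γ) : Γ ⊆ fixPts P :=
  fun x hx => mem_fixPts.2 (fun g hg => (hP hg).2 x hx)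

/-- S0747 in elementary form, by induction on the degree. -/
theorem main747 : ∀ (n : ℕ) {α : Type u} [Fintype α] [DecidableEq α], Fintype.card α = n →
    ∀ (G : Subgroup (Perm α)) (k : ℕ), 4 ≤ k → k < n → Trans G k →
    ∃ Δ : Finset α, Δ.card = k + 1 ∧ InducesAlt G Δ := by
  intro n
  induction n using Nat.strong_induction_on with
  | _ n ih =>
  intro α _ _ hcard G k hk hkn hG
  obtain ⟨Γ, hΓ⟩ := exists_card_eq (α := α) k (by omega)
  obtain ⟨P, hP, -⟩ := exists_isSyl2In_ge (pstab G Γ) ⊥ IsPGroup.of_bot bot_le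
  by_cases hP1 : P = ⊥
  · -- the `k`-point stabiliser has odd order
    subst hP1
    have hodd : Odd (Nat.card (pstab G Γ)) := odd_card_of_syl_bot hP
    by_cases hsmall : n ≤ k + 3
    · have halt := alt_le_of_small G k hk (by omega) (by omega) hG Γ hΓ hodd
      obtain ⟨Δ, hΔ⟩ := exists_card_eq (α := α) (k + 1) (by omega)
      refine ⟨Δ, hΔ, ?_⟩
      by_cases hu : Δ = Finset.univ
      · subst hu; exact inducesAlt_univ_of_alt_le G halt
      · exact inducesAlt_of_alt_le G halt Δ hu
    · obtain ⟨hn7, hs⟩ := sharp_of_odd G k hk (by omega) hG Γ hΓ hodd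
      obtain ⟨Δ, hΔ, hS⟩ := sharp_case G k hk hn7 hG hs
      exact ⟨Δ, hΔ, hS.inducesAlt⟩
  · by_cases hfix : fixPts P = Γ
    · obtain ⟨Δ, hΔ, hS⟩ := lemmaC G k (by omega) hG Γ hΓ P hP hP1 hfix
      exact ⟨Δ, hΔ, hS.inducesAlt⟩
    · -- Witt reduction to the fixed points of `P`
      have hΓF : Γ ⊆ fixPts P := subset_fixPts hP.1
      have hlt : k < (fixPts P).card := by
        rw [← hΓ]
        exact Finset.card_lt_card (Finset.ssubset_iff_subset_ne.2 ⟨hΓF, Ne.symm hfix⟩)
      have hFn : (fixPts P).card < n := by rw [← hcard]; exact fixPts_card_lt hP1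
      obtain ⟨B, hB1, hB2⟩ := witt_reduce G k hG Γ hΓ P hP
      have hBt : Trans B k := by
        intro x y
        obtain ⟨g, hg, hgxy⟩ := hG (x.trans (Function.Embedding.subtype _))
          (y.trans (Function.Embedding.subtype _))
        exact hB2 k le_rfl x y ⟨g, hg, hgxy⟩
      obtain ⟨Δ', hΔ', hA⟩ := ih (fixPts P).card hFn (α := ↥(fixPts P)) (by simp) B k hk hlt hBt
      exact ⟨Δ'.map (Function.Embedding.subtype _), by rw [Finset.card_map, hΔ'],
        inducesAlt_map G _ B hB1 Δ' hA⟩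

/-- Livingstone–Wagner, inductive form. -/
theorem lwstar : ∀ (n : ℕ) {α : Type u} [Fintype α] [DecidableEq α], Fintype.card α = n →
    ∀ (G : Subgroup (Perm α)) (t : ℕ), 4 ≤ t → Trans G t → Homog G (t + 1) →
    Trans G (t + 1) ∨ (n = t + 2 ∧ G = alternatingGroup α) := by
  intro n
  induction n using Nat.strong_induction_on with
  | _ n ih =>
  intro α _ _ hcard G t ht hG hh
  by_cases hnt : n < t + 1
  · left
    intro x
    exact absurd (Fintype.card_le_of_embedding x) (by simp; omega)
  obtain ⟨Γ, hΓ⟩ := exists_card_eq (α := α) t (by omega)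
  obtain ⟨P, hP, -⟩ := exists_isSyl2In_ge (pstab G Γ) ⊥ IsPGroup.of_bot bot_le
  by_cases hP1 : P = ⊥
  · subst hP1
    have hodd : Odd (Nat.card (pstab G Γ)) := odd_card_of_syl_bot hP
    by_cases h1 : n = t + 1
    · left; exact trans_succ_of_card G t (by omega) hG
    by_cases h2 : n = t + 2
    · right; exact ⟨h2, eq_alt_of_card_add_two G t ht (by omega) hG Γ hΓ hodd⟩
    by_cases h3 : n = t + 3
    · left
      have halt := alt_le_of_small G t ht (by omega) (by omega) hG Γ hΓ hodd
      exact Trans.mono_subgroup halt (trans_alt (t + 1) (by omega))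
    · left
      obtain ⟨hn7, hs⟩ := sharp_of_odd G t ht (by omega) hG Γ hΓ hodd
      obtain ⟨Δ, hΔ, hS⟩ := sharp_case G t ht hn7 hG hs
      exact trans_of_inducesSym G (t + 1) hh Δ hΔ hS
  · left
    by_cases hfix : fixPts P = Γ
    · obtain ⟨Δ, hΔ, hS⟩ := lemmaC G t (by omega) hG Γ hΓ P hP hP1 hfix
      exact trans_of_inducesSym G (t + 1) hh Δ hΔ hS
    · have hΓF : Γ ⊆ fixPts P := subset_fixPts hP.1
      have hlt : t < (fixPts P).card := by
        rw [← hΓ]
        exact Finset.card_lt_card (Finset.ssubset_iff_subset_ne.2 ⟨hΓF, Ne.symm hfix⟩)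
      have hFn : (fixPts P).card < n := by rw [← hcard]; exact fixPts_card_lt hP1
      obtain ⟨B, hB1, hB2⟩ := witt_reduce G t hG Γ hΓ P hP
      have hBt : Trans B t := by
        intro x y
        obtain ⟨g, hg, hgxy⟩ := hG (x.trans (Function.Embedding.subtype _))
          (y.trans (Function.Embedding.subtype _))
        exact hB2 t le_rfl x y ⟨g, hg, hgxy⟩
      have hBh : Homog B (t + 1) := homog_sub G (t + 1) hh _ B (hB2 (t + 1) (by omega))
      rcases ih (fixPts P).card hFn (α := ↥(fixPts P)) (by simp) B t ht hBt hBh with hB | ⟨hF2, hBalt⟩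
      · exact trans_of_sub G (t + 1) hh (fixPts P) (by omega) B hB1 hB
      · -- `B` is the alternating group on `t + 2` points
        obtain ⟨Δ₀, hΔ₀F, hΔ₀⟩ := Finset.exists_subset_card_eq (s := fixPts P) (n := t + 1)
          (by omega)
        have hne : Δ₀ ≠ fixPts P := by
          intro h; rw [h] at hΔ₀; omega
        have halt : InducesAlt G Δ₀ :=
          inducesAlt_of_alt_sub G (fixPts P) B hB1 (by rw [hBalt]) Δ₀ hΔ₀F hne
        obtain ⟨z, hzP, hz1, hzz⟩ := exists_involution_of_ne_bot hP.2.1 hP1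
        have hzG : z ∈ G := (hP.1 hzP).1
        obtain ⟨b, hb⟩ : ∃ b, z b ≠ b := by
          by_contra hcon
          push Not at hcon
          exact hz1 (Equiv.ext hcon)
        obtain ⟨E', hE'F, hE'⟩ := Finset.exists_subset_card_eq (s := fixPts P) (n := t - 1)
          (by omega)
        have hzE : ∀ x ∈ E', z x = x := fun x hx => mem_fixPts.1 (hE'F hx) z hzP
        have hzzb : z (z b) = b := by
          have := congrArg (fun f : Perm α => f b) hzz
          simpa using this
        have hb1 : b ∉ E' := fun h => hb (hzE b h)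
        have hb2 : z b ∉ E' := by
          intro h
          have := hzE (z b) h
          rw [hzzb] at this
          exact hb this.symm
        have hS : InducesSym G Δ₀ :=
          inducesSym_of_alt_of_swap G (t + 1) hh Δ₀ hΔ₀ halt E' b (z b) hb1 hb2 (Ne.symm hb)
            (by omega) z hzG hzE rfl hzzb
        exact trans_of_inducesSym G (t + 1) hh Δ₀ hΔ₀ hS

end Cfsg.Agent.Lib.Helper71.LW
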