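import Mathlib

/-!
# Marggraf's theorem (S3620): concrete definitions

Everything is phrased with subgroups of `G` and subsets of `Ω` (no subtypes):
* `TransOn K S` : the subgroup `K` moves any point of `S` to any other point of `S`;
* `IsJordan G Γ` : the pointwise stabiliser of `Γᶜ` is transitive on `Γ`;
* `PrimOn K S` : `K` is transitive on `S` and every `K`-block contained in `S` is trivial.
-/

namespace Cfsg.Agent.Lib.Helper71.Marg

open MulAction
open scoped Pointwise

variable {G Ω : Type*} [Group G] [MulAction G Ω]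

/-- `K` moves every point of `S` to every other point of `S`. -/
def TransOn (K : Subgroup G) (S : Set Ω) : Prop :=
  ∀ x ∈ S, ∀ y ∈ S, ∃ k ∈ K, k • x = y

/-- `Γ` is a Jordan set: the pointwise stabiliser of the complement is transitive on `Γ`. -/
def IsJordan (G : Type*) {Ω : Type*} [Group G] [MulAction G Ω] (Γ : Set Ω) : Prop :=
  TransOn (fixingSubgroup G Γᶜ) Γ

/-- `K` acts primitively on `S`. -/
def PrimOn (K : Subgroup G) (S : Set Ω) : Prop :=
  TransOn K S ∧ ∀ B : Set Ω, B ⊆ S → IsBlock K B → B.Subsingleton ∨ B = S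

theorem mem_fixingSubgroup_compl_iff {Γ : Set Ω} {k : G} :
    k ∈ fixingSubgroup G Γᶜ ↔ ∀ x, x ∉ Γ → k • x = x := by
  rw [mem_fixingSubgroup_iff]
  simp

theorem smul_mem_of_mem_fixingSubgroup {X : Set Ω} {k : G} (hk : k ∈ fixingSubgroup G X)
    {x : Ω} (hx : x ∉ X) : k • x ∉ X := by
  intro h
  have h1 : k • (k • x) = k • x := (mem_fixingSubgroup_iff G).mp hk _ h
  have h2 : k • x = x := smul_left_cancel k h1
  exact hx (h2 ▸ h)

theorem smul_mem_of_mem_fixingSubgroup_compl {Γ : Set Ω} {k : G}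
    (hk : k ∈ fixingSubgroup G Γᶜ) {x : Ω} (hx : x ∈ Γ) : k • x ∈ Γ := by
  by_contra h
  exact (smul_mem_of_mem_fixingSubgroup hk (x := x) (by simpa using hx)) (by simpa using h)

theorem fixingSubgroup_le_of_subset {X Y : Set Ω} (h : X ⊆ Y) :
    fixingSubgroup G Y ≤ fixingSubgroup G X := by
  intro k hk
  rw [mem_fixingSubgroup_iff] at hk ⊢
  exact fun x hx => hk x (h hx)

theorem TransOn.mono {K L : Subgroup G} {S : Set Ω} (h : TransOn K S) (hKL : K ≤ L) :
    TransOn L S := by
  intro x hx y hy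
  obtain ⟨k, hk, hxy⟩ := h x hx y hy
  exact ⟨k, hKL hk, hxy⟩

/-- From Mathlib's formulation (as in the frozen statement) to the concrete one. -/
theorem isJordan_of_isPretransitive {Γ : Set Ω}
    (h : IsPretransitive ↥(fixingSubgroup G Γᶜ) ↥(SubMulAction.ofFixingSubgroup G Γᶜ)) :
    IsJordan G Γ := by
  intro x hx y hy
  have hx' : x ∈ SubMulAction.ofFixingSubgroup G Γᶜ := by
    rw [SubMulAction.mem_ofFixingSubgroup_iff]; simpa using hx
  have hy' : y ∈ SubMulAction.ofFixingSubgroup G Γᶜ := by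
    rw [SubMulAction.mem_ofFixingSubgroup_iff]; simpa using hy
  obtain ⟨k, hk⟩ := h.exists_smul_eq ⟨x, hx'⟩ ⟨y, hy'⟩
  exact ⟨(k : G), k.prop, congrArg Subtype.val hk⟩

/-- A primitive action in Mathlib's sense is primitive on `univ` in the concrete sense. -/
theorem primOn_top_univ_of_isPreprimitive (h : IsPreprimitive G Ω) :
    PrimOn (⊤ : Subgroup G) (Set.univ : Set Ω) := by
  refine ⟨?_, ?_⟩
  · intro x _ y _
    obtain ⟨g, hg⟩ := h.toIsPretransitive.exists_smul_eq x y
    exact ⟨g, Subgroup.mem_top g, hg⟩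
  · intro B _ hB
    have hB' : IsBlock G B := by
      intro g₁ g₂ hne
      exact hB (g₁ := ⟨g₁, Subgroup.mem_top _⟩) (g₂ := ⟨g₂, Subgroup.mem_top _⟩) hne
    exact h.isTrivialBlock_of_isBlock hB'

end Cfsg.Agent.Lib.Helper71.Marg
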