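import Cfsg.Agent.Lib.Helper71.MargTA
import Cfsg.Agent.Lib.Helper91.MargT13
import Cfsg.Agent.Lib.Helper22.MargST
import Cfsg.Agent.Lib.Helper22.MargTB
import Cfsg.Agent.Lib.Helper61.MargE

/-!
# Marggraf's theorem (S3620), MODULE L: the level induction, and the primitive case

`Level G Ω k`: `G` is `(k+1)`-homogeneous and the pointwise stabiliser of every `k`-subset `X`
is primitive on `Xᶜ`.  `level_succ` is the induction step (Jordan 13.1 + same type + type A / type B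
impossible), `transOn_of_card_le` the resulting multiple transitivity, and `marggraf_primitive`
the primitive case of Marggraf's theorem (via helper61's 3-cycle endgame).
-/

namespace Cfsg.Agent.Lib.Helper71.Marg

open MulAction
open scoped Pointwise

variable {G Ω : Type*} [Group G] [MulAction G Ω]

/-- `Level G k`: `G` is `(k+1)`-homogeneous, and the pointwise stabiliser of every `k`-subset `X`
is primitive on `Xᶜ`. -/
def Level (G Ω : Type*) [Group G] [MulAction G Ω] (k : ℕ) : Prop :=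
  (∀ Y Y' : Set Ω, Y.ncard = k + 1 → Y'.ncard = k + 1 → ∃ g : G, g • Y = Y') ∧
  ∀ X : Set Ω, X.ncard = k → PrimOn (fixingSubgroup G X) Xᶜ

theorem mem_fixingSubgroup_insert {y : Ω} {X : Set Ω} {k : G} :
    k ∈ fixingSubgroup G (insert y X) ↔ k • y = y ∧ k ∈ fixingSubgroup G X := by
  simp only [mem_fixingSubgroup_iff, Set.mem_insert_iff]
  constructor
  · intro h
    exact ⟨h y (Or.inl rfl), fun x hx => h x (Or.inr hx)⟩
  · rintro ⟨h1, h2⟩ x (rfl | hx)
    · exact h1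
    · exact h2 x hx

theorem compl_insert_eq_diff (y : Ω) (X : Set Ω) : (insert y X)ᶜ = Xᶜ \ {y} := by
  ext z
  simp only [Set.mem_compl_iff, Set.mem_insert_iff, not_or, Set.mem_sdiff, Set.mem_singleton_iff]
  tauto

/-- Step (1): Jordan 13.1 applied at level `k`. -/
theorem transOn_insert_of_level [Finite Ω] {Γ : Set Ω} (hΓ : IsJordan G Γ) (h2 : 1 < Γ.ncard)
    (k : ℕ) (hkd : k + 1 ≤ Γᶜ.ncard) (hlev : Level G Ω k) (X : Set Ω) (hX : X.ncard = k)
    (y : Ω) (hy : y ∉ X) : TransOn (fixingSubgroup G (insert y X)) (insert y X)ᶜ := by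
  obtain ⟨X₀, hX₀Γ, hX₀⟩ := Set.exists_subset_card_eq hkd
  have hins : (insert y X).ncard = k + 1 := by
    rw [Set.ncard_insert_of_notMem hy (Set.toFinite X), hX]
  obtain ⟨g, hg⟩ := hlev.1 X₀ (insert y X) hX₀ hins
  have hsub : insert y X ⊆ (g • Γ)ᶜ := by
    rw [← hg, ← Set.smul_set_compl]
    exact Set.smul_set_mono hX₀Γ
  have hΓX : g • Γ ⊆ Xᶜ := by
    intro z hz hzX
    exact hsub (Set.mem_insert_of_mem y hzX) hz
  refine transOn_insert_of_primOn (hlev.2 X hX) (hΓ.smul g) hΓX ?_ ?_ y hy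
  · rwa [Set.ncard_smul_set]
  · intro h
    have : y ∈ g • Γ := by rw [h]; exact hy
    exact hsub (Set.mem_insert y X) this

theorem transOn_of_ncard_succ [Finite Ω] {Γ : Set Ω} (hΓ : IsJordan G Γ) (h2 : 1 < Γ.ncard)
    (k : ℕ) (hkd : k + 1 ≤ Γᶜ.ncard) (hlev : Level G Ω k) (Z : Set Ω) (hZ : Z.ncard = k + 1) :
    TransOn (fixingSubgroup G Z) Zᶜ := by
  obtain ⟨y, X, hyX, rfl, hX⟩ := (Set.ncard_eq_succ (Set.toFinite Z)).mp hZ
  exact transOn_insert_of_level hΓ h2 k hkd hlev X hX y hyX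

/-- Step (2): `(k+2)`-homogeneity. -/
theorem hom_succ [Finite Ω] {Γ : Set Ω} (hΓ : IsJordan G Γ) (h2 : 1 < Γ.ncard)
    (k : ℕ) (hkd : k + 1 ≤ Γᶜ.ncard) (hlev : Level G Ω k) (Y Y' : Set Ω)
    (hY : Y.ncard = k + 1 + 1) (hY' : Y'.ncard = k + 1 + 1) : ∃ g : G, g • Y = Y' := by
  obtain ⟨y, Y₀, hy, rfl, hY₀⟩ := (Set.ncard_eq_succ (Set.toFinite Y)).mp hY
  obtain ⟨y', Y₀', hy', rfl, hY₀'⟩ := (Set.ncard_eq_succ (Set.toFinite Y')).mp hY'
  obtain ⟨g, hg⟩ := hlev.1 Y₀ Y₀' hY₀ hY₀'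
  have hgy : g • y ∈ Y₀'ᶜ := by
    intro h
    rw [← hg] at h
    exact hy (Set.smul_mem_smul_set_iff.mp h)
  obtain ⟨h, hh, hhy⟩ := transOn_of_ncard_succ hΓ h2 k hkd hlev Y₀' hY₀' (g • y) hgy y' hy'
  refine ⟨h * g, ?_⟩
  rw [Set.smul_set_insert, mul_smul, hhy, mul_smul, hg, smul_set_eq_of_mem_fixingSubgroup hh]

/-- MODULE L, the induction step. -/
theorem level_succ [Fintype Ω] [DecidableEq Ω] {Γ : Set Ω} (hΓ : IsJordan G Γ) (h2 : 1 < Γ.ncard)
    (hhalf : 2 * Γ.ncard < Fintype.card Ω) (k : ℕ) (hkd : k + 2 ≤ Γᶜ.ncard)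
    (hlev : ∀ j ≤ k, Level G Ω j) : Level G Ω (k + 1) := by
  have hk := hlev k le_rfl
  have hkd1 : k + 1 ≤ Γᶜ.ncard := by omega
  have hhom : ∀ Y Y' : Set Ω, Y.ncard = k + 1 + 1 → Y'.ncard = k + 1 + 1 →
      ∃ g : G, g • Y = Y' :=
    fun Y Y' hY hY' => hom_succ hΓ h2 k hkd1 hk Y Y' hY hY'
  refine ⟨hhom, ?_⟩
  intro X hX
  have htr : TransOn (fixingSubgroup G X) Xᶜ := transOn_of_ncard_succ hΓ h2 k hkd1 hk X hX
  refine ⟨htr, ?_⟩
  intro B hBX hB
  by_contra hcon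
  push Not at hcon
  obtain ⟨hBss, hBne⟩ := hcon
  have hB2 : 1 < B.ncard := by
    have : Finite ↥B := Set.Finite.to_subtype (Set.toFinite B)
    exact Set.one_lt_ncard_iff_nontrivial.mpr hBss
  have hBn : B.Nonempty := by
    rw [Set.nonempty_iff_ne_empty]
    rintro rfl
    simp at hB2
  -- choose a translate `Γ'` of `Γ` with `X ⊆ Γ'ᶜ`
  obtain ⟨X₀, hX₀Γ, hX₀⟩ := Set.exists_subset_card_eq hkd1
  obtain ⟨g₀, hg₀⟩ := hk.1 X₀ X hX₀ hX
  have hXΓ' : X ⊆ (g₀ • Γ)ᶜ := by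
    rw [← hg₀, ← Set.smul_set_compl]
    exact Set.smul_set_mono hX₀Γ
  have hΓ' : IsJordan G (g₀ • Γ) := hΓ.smul g₀
  have hΓ'card : (g₀ • Γ).ncard = Γ.ncard := Set.ncard_smul_set _ _
  have hΓ'ccard : (g₀ • Γ)ᶜ.ncard = Γᶜ.ncard := by
    rw [← Set.smul_set_compl, Set.ncard_smul_set]
  have hΓ'ne : (g₀ • Γ).Nonempty := by
    rw [Set.nonempty_iff_ne_empty]
    intro h
    rw [h] at hΓ'card
    simp at hΓ'card
    omega
  rcases Cfsg.Agent.Lib.Helper22.Marg.same_type hΓ' htr hB hBX hBn with hA | hBt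
  · exact typeA_false hΓ'ne (k + 1) (by omega) hhom (by rw [hΓ'card]; exact hhalf)
      (by rw [hΓ'ccard]; exact hkd) hX hXΓ' htr hBX hB2 hA
  · -- type B
    obtain ⟨ω, X', hωX', rfl, hX'⟩ := (Set.ncard_eq_succ (Set.toFinite X)).mp hX
    have hlevk := hk.2 X' hX'
    have hcompl : (insert ω X')ᶜ = X'ᶜ \ {ω} := compl_insert_eq_diff ω X'
    have hn1 : X'.ncard + X'ᶜ.ncard = Fintype.card Ω := by
      rw [Set.ncard_add_ncard_compl, Nat.card_eq_fintype_card]
    have hn2 : Γ.ncard + Γᶜ.ncard = Fintype.card Ω := by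
      rw [Set.ncard_add_ncard_compl, Nat.card_eq_fintype_card]
    refine Cfsg.Agent.Lib.Helper22.Marg.typeB_false (fixingSubgroup G X') X'ᶜ ?hS hlevk.1 ?h2t
      {T | ∃ g : G, T = g • (g₀ • Γ) ∧ T ⊆ X'ᶜ} ?hTTinv ?hTTS ?hTTne Γ.ncard ?hTTcard
      (by omega) (by omega) ω hωX' B ?hbS ?hbne hBn ?hB ?hbl
    case hS =>
      intro k' hk' x hx
      exact smul_mem_of_mem_fixingSubgroup hk' hx
    case h2t =>
      intro y hy
      have h1 := transOn_insert_of_level hΓ h2 k hkd1 hk X' hX' y hy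
      rw [compl_insert_eq_diff] at h1
      refine h1.mono ?_
      intro k' hk'
      rw [mem_fixingSubgroup_insert] at hk'
      exact Subgroup.mem_inf.mpr ⟨hk'.2, mem_stabilizer_iff.mpr hk'.1⟩
    case hTTinv =>
      rintro k' hk' T ⟨g, rfl, hT⟩
      exact ⟨k' * g, by rw [mul_smul], smul_set_subset_compl_of_mem_fixingSubgroup hk' hT⟩
    case hTTS =>
      rintro T ⟨g, rfl, hT⟩
      exact hT
    case hTTne =>
      refine ⟨g₀ • Γ, 1, (one_smul G _).symm, ?_⟩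
      intro z hz hzX'
      exact hXΓ' (Set.mem_insert_of_mem ω hzX') hz
    case hTTcard =>
      rintro T ⟨g, rfl, -⟩
      rw [Set.ncard_smul_set, hΓ'card]
    case hbS =>
      rw [← hcompl]
      exact hBX
    case hbne =>
      rw [← hcompl]
      exact hBne
    case hB =>
      rintro T ⟨g, rfl, hT⟩ hωT
      have hdisj : Disjoint (g • (g₀ • Γ)) (insert ω X') := by
        rw [Set.disjoint_left]
        intro z hz hzX
        rcases hzX with rfl | hzX
        · exact hωT hz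
        · exact hT hz hzX
      obtain ⟨k', hk', hss⟩ := hBt g hdisj
      rw [mem_fixingSubgroup_insert] at hk'
      exact ⟨k', Subgroup.mem_inf.mpr ⟨hk'.2, mem_stabilizer_iff.mpr hk'.1⟩, hss.subset⟩
    case hbl =>
      intro g₁ g₂ hne
      have hmem : ∀ g : ↥(fixingSubgroup G X' ⊓ stabilizer G ω),
          (g : G) ∈ fixingSubgroup G (insert ω X') := by
        intro g
        rw [mem_fixingSubgroup_insert]
        exact ⟨mem_stabilizer_iff.mp (Subgroup.mem_inf.mp g.prop).2,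
          (Subgroup.mem_inf.mp g.prop).1⟩
      exact hB (g₁ := ⟨g₁, hmem g₁⟩) (g₂ := ⟨g₂, hmem g₂⟩) hne

theorem level_zero [Finite Ω] (hprim : IsPreprimitive G Ω) : Level G Ω 0 := by
  refine ⟨?_, ?_⟩
  · intro Y Y' hY hY'
    rw [zero_add, Set.ncard_eq_one] at hY hY'
    obtain ⟨a, rfl⟩ := hY
    obtain ⟨b, rfl⟩ := hY'
    obtain ⟨g, hg⟩ := hprim.toIsPretransitive.exists_smul_eq a b
    exact ⟨g, by rw [Set.smul_set_singleton, hg]⟩
  · intro X hX
    rw [Set.ncard_eq_zero (Set.toFinite X)] at hX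
    subst hX
    rw [fixingSubgroup_empty, Set.compl_empty]
    exact primOn_top_univ_of_isPreprimitive hprim

theorem level_of_le [Fintype Ω] [DecidableEq Ω] {Γ : Set Ω} (hprim : IsPreprimitive G Ω)
    (hΓ : IsJordan G Γ) (h2 : 1 < Γ.ncard) (hhalf : 2 * Γ.ncard < Fintype.card Ω) :
    ∀ j, j + 1 ≤ Γᶜ.ncard → Level G Ω j := by
  intro j
  induction j using Nat.strong_induction_on with
  | _ j ih =>
    intro hj
    cases j with
    | zero => exact level_zero hprim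
    | succ i =>
      exact level_succ hΓ h2 hhalf i (by omega) (fun l hl => ih l (by omega) (by omega))

/-- MODULE L, conclusion: pointwise stabilisers of sets of size at most `|Γᶜ|` are transitive on
the remaining points. -/
theorem transOn_of_card_le [Fintype Ω] [DecidableEq Ω] {Γ : Set Ω} (hprim : IsPreprimitive G Ω)
    (hΓ : IsJordan G Γ) (h2 : 1 < Γ.ncard) (hhalf : 2 * Γ.ncard < Fintype.card Ω)
    (Y : Set Ω) (hY : Y.ncard ≤ Γᶜ.ncard) : TransOn (fixingSubgroup G Y) Yᶜ := by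
  rcases Nat.eq_zero_or_pos Y.ncard with h0 | hpos
  · rw [Set.ncard_eq_zero (Set.toFinite Y)] at h0
    subst h0
    rw [fixingSubgroup_empty, Set.compl_empty]
    exact (primOn_top_univ_of_isPreprimitive hprim).1
  · obtain ⟨j, hj⟩ : ∃ j, Y.ncard = j + 1 := ⟨Y.ncard - 1, by omega⟩
    exact transOn_of_ncard_succ hΓ h2 j (by omega)
      (level_of_le hprim hΓ h2 hhalf j (by omega)) Y hj

/-- Marggraf's theorem, primitive case (no faithfulness needed). -/
theorem marggraf_primitive' [Fintype Ω] [DecidableEq Ω] {Γ : Set Ω}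
    (hprim : IsPreprimitive G Ω)
    (hΓ : IsJordan G Γ) (h2 : 1 < Γ.ncard) (hhalf : 2 * Γ.ncard < Fintype.card Ω) :
    ∀ σ : Equiv.Perm Ω, Equiv.Perm.sign σ = 1 →
      ∃ x : G, (MulAction.toPerm x : Equiv.Perm Ω) = σ :=
  Cfsg.Agent.Lib.Helper61.MargE.marggraf_primitive_of_transOn hprim hΓ h2 hhalf
    (fun Y hY => transOn_of_card_le hprim hΓ h2 hhalf Y hY)

/-- Marggraf's theorem, primitive case, with the signature of board post #2145. -/
theorem marggraf_primitive [Fintype Ω] [DecidableEq Ω] [FaithfulSMul G Ω] {Γ : Set Ω}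
    (hprim : IsPreprimitive G Ω)
    (hΓ : IsJordan G Γ) (h2 : 1 < Γ.ncard) (hhalf : 2 * Γ.ncard < Fintype.card Ω) :
    ∀ σ : Equiv.Perm Ω, Equiv.Perm.sign σ = 1 →
      ∃ x : G, (MulAction.toPerm x : Equiv.Perm Ω) = σ :=
  marggraf_primitive' hprim hΓ h2 hhalf

end Cfsg.Agent.Lib.Helper71.Marg
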