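import Mathlib

/-!
# A counting lemma on Steiner systems (for Marggraf's theorem, S3620)

In a Steiner system `S(t, K, v)` with `K > t ≥ 2`, a proper subspace with at least `t` points has
at most `v / 2` points.
-/

namespace Cfsg.Agent.Lib.Helper71.SteinerSub

open Finset

variable {α : Type*} [DecidableEq α]

/-- Double counting: `∑_{Y ⊆ B, |Y| = t} C(|Y ∩ E|, j) = C(|E|, j) C(|B| - j, t - j)` for `E ⊆ B`. -/
theorem sum_choose_inter (B E : Finset α) (hE : E ⊆ B) (t j : ℕ) (hj : j ≤ t) :
    ∑ Y ∈ B.powersetCard t, ((Y ∩ E).card.choose j) =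
      E.card.choose j * (B.card - j).choose (t - j) := by
  have h1 : ∀ Y ∈ B.powersetCard t,
      ((Y ∩ E).card.choose j) = ((E.powersetCard j).filter (fun J => J ⊆ Y)).card := by
    intro Y _
    rw [← card_powersetCard]
    congr 1
    ext J
    simp only [mem_powersetCard, mem_filter, subset_inter_iff]
    tauto
  rw [sum_congr rfl h1]
  have h2 := Finset.sum_card_bipartiteAbove_eq_sum_card_bipartiteBelow
    (s := B.powersetCard t) (t := E.powersetCard j) (fun Y J => J ⊆ Y)
  simp only [bipartiteAbove, bipartiteBelow] at h2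
  rw [h2]
  have h3 : ∀ J ∈ E.powersetCard j,
      ((B.powersetCard t).filter (fun Y => J ⊆ Y)).card = (B.card - j).choose (t - j) := by
    intro J hJ
    rw [mem_powersetCard] at hJ
    rw [card_filter_powersetCard_subset J B t (hJ.1.trans hE) (by rw [hJ.2]; exact hj), hJ.2]
  rw [sum_congr rfl h3, sum_const, card_powersetCard, smul_eq_mul]

variable [Fintype α]

/-- Swap: sum over members of a family of sums over their `t`-subsets. -/
theorem sum_sum_powersetCard (FF : Finset (Finset α)) (t : ℕ) (F : Finset α → ℕ) :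
    ∑ S ∈ FF, ∑ Y ∈ S.powersetCard t, F Y =
      ∑ Y ∈ (univ : Finset α).powersetCard t, F Y * (FF.filter (fun S => Y ⊆ S)).card := by
  have h1 : ∀ S ∈ FF, ∑ Y ∈ S.powersetCard t, F Y =
      ∑ Y ∈ (univ : Finset α).powersetCard t, if Y ⊆ S then F Y else 0 := by
    intro S _
    rw [← sum_filter]
    apply sum_congr _ (fun _ _ => rfl)
    ext Y
    simp only [mem_powersetCard, mem_filter, subset_univ, true_and]
    tauto
  rw [sum_congr rfl h1, sum_comm]
  apply sum_congr rfl
  intro Y _
  rw [← sum_filter, sum_const, smul_eq_mul, mul_comm]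

/-- The binomial moments (up to `t`) of `|B ∩ D|` over the blocks of a Steiner system are
proportional to those over all `K`-subsets. -/
theorem moment (t K : ℕ) (hK : t ≤ K) (BB : Finset (Finset α)) (hBBcard : ∀ B ∈ BB, B.card = K)
    (hst : ∀ Y : Finset α, Y.card = t → ∃! B, B ∈ BB ∧ Y ⊆ B) (D : Finset α) (j : ℕ)
    (hj : j ≤ t) :
    ∑ S ∈ (univ : Finset α).powersetCard K, ((S ∩ D).card.choose j) =
      (Fintype.card α - t).choose (K - t) * ∑ B ∈ BB, ((B ∩ D).card.choose j) := by
  set c := (K - j).choose (t - j) with hc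
  have hcpos : 0 < c := Nat.choose_pos (by omega)
  set F : Finset α → ℕ := fun Y => (Y ∩ D).card.choose j with hF
  -- (i)
  have hi : ∀ S : Finset α, S.card = K →
      ∑ Y ∈ S.powersetCard t, F Y = (S ∩ D).card.choose j * c := by
    intro S hS
    have := sum_choose_inter S (S ∩ D) inter_subset_left t j hj
    rw [hS] at this
    rw [← this]
    apply sum_congr rfl
    intro Y hY
    rw [mem_powersetCard] at hY
    simp only [hF]
    congr 2
    ext x
    simp only [mem_inter]
    constructor
    · rintro ⟨h1, h2⟩; exact ⟨h1, hY.1 h1, h2⟩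
    · rintro ⟨h1, _, h2⟩; exact ⟨h1, h2⟩
  -- (ii)
  have hii : ∑ S ∈ (univ : Finset α).powersetCard K, ∑ Y ∈ S.powersetCard t, F Y =
      (∑ Y ∈ (univ : Finset α).powersetCard t, F Y) * (Fintype.card α - t).choose (K - t) := by
    rw [sum_sum_powersetCard, sum_mul]
    apply sum_congr rfl
    intro Y hY
    rw [mem_powersetCard] at hY
    rw [card_filter_powersetCard_subset Y univ K (subset_univ _) (by rw [hY.2]; exact hK), hY.2,
      card_univ]
  -- (iii)
  have hiii : ∑ B ∈ BB, ∑ Y ∈ B.powersetCard t, F Y =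
      ∑ Y ∈ (univ : Finset α).powersetCard t, F Y := by
    rw [sum_sum_powersetCard]
    apply sum_congr rfl
    intro Y hY
    rw [mem_powersetCard] at hY
    obtain ⟨B, ⟨hB, hYB⟩, huniq⟩ := hst Y hY.2
    have : BB.filter (fun S => Y ⊆ S) = {B} := by
      ext S
      simp only [mem_filter, mem_singleton]
      constructor
      · rintro ⟨h1, h2⟩; exact huniq S ⟨h1, h2⟩
      · rintro rfl; exact ⟨hB, hYB⟩
    rw [this, card_singleton, mul_one]
  apply Nat.eq_of_mul_eq_mul_right hcpos
  calc (∑ S ∈ (univ : Finset α).powersetCard K, ((S ∩ D).card.choose j)) * c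
      = ∑ S ∈ (univ : Finset α).powersetCard K, ∑ Y ∈ S.powersetCard t, F Y := by
        rw [sum_mul]
        apply sum_congr rfl
        intro S hS
        rw [mem_powersetCard] at hS
        rw [hi S hS.2]
    _ = (∑ Y ∈ (univ : Finset α).powersetCard t, F Y) * (Fintype.card α - t).choose (K - t) := hii
    _ = (∑ B ∈ BB, ∑ Y ∈ B.powersetCard t, F Y) * (Fintype.card α - t).choose (K - t) := by
        rw [hiii]
    _ = ((Fintype.card α - t).choose (K - t) * ∑ B ∈ BB, ((B ∩ D).card.choose j)) * c := by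
        rw [mul_comm, mul_assoc]
        congr 1
        rw [sum_mul]
        apply sum_congr rfl
        intro B hB
        rw [hi B (hBBcard B hB)]

/-- `g` has proportional sums over the blocks and over all `K`-subsets. -/
def Lin (t K : ℕ) (BB : Finset (Finset α)) (D : Finset α) (g : ℕ → ℤ) : Prop :=
  ∑ S ∈ (univ : Finset α).powersetCard K, g (S ∩ D).card =
    ((Fintype.card α - t).choose (K - t) : ℤ) * ∑ B ∈ BB, g (B ∩ D).card

section lin

variable {t K : ℕ} {BB : Finset (Finset α)} {D : Finset α}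

theorem Lin.add {g h : ℕ → ℤ} (hg : Lin t K BB D g) (hh : Lin t K BB D h) :
    Lin t K BB D (fun x => g x + h x) := by
  unfold Lin at *
  rw [sum_add_distrib, sum_add_distrib, hg, hh, mul_add]

theorem Lin.const_mul {g : ℕ → ℤ} (hg : Lin t K BB D g) (c : ℤ) :
    Lin t K BB D (fun x => c * g x) := by
  unfold Lin at *
  rw [← mul_sum, ← mul_sum, hg]
  ring

theorem Lin.sub {g h : ℕ → ℤ} (hg : Lin t K BB D g) (hh : Lin t K BB D h) :
    Lin t K BB D (fun x => g x - h x) := by
  have := hg.add (hh.const_mul (-1))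
  simpa [sub_eq_add_neg] using this

theorem Lin.sum {ι : Type*} (s : Finset ι) {g : ι → ℕ → ℤ} (hg : ∀ i ∈ s, Lin t K BB D (g i)) :
    Lin t K BB D (fun x => ∑ i ∈ s, g i x) := by
  classical
  induction s using Finset.induction_on with
  | empty => unfold Lin; simp
  | insert a s ha ih =>
    have h1 := hg a (mem_insert_self a s)
    have h2 := ih (fun i hi => hg i (mem_insert_of_mem hi))
    have := h1.add h2
    simpa [sum_insert ha] using this

theorem lin_choose (hK : t ≤ K) (hBBcard : ∀ B ∈ BB, B.card = K)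
    (hst : ∀ Y : Finset α, Y.card = t → ∃! B, B ∈ BB ∧ Y ⊆ B) (j : ℕ) (hj : j ≤ t) :
    Lin t K BB D (fun x => (x.choose j : ℤ)) := by
  unfold Lin
  have := moment t K hK BB hBBcard hst D j hj
  beta_reduce
  exact_mod_cast this

theorem sub_mul_choose (K x j : ℕ) :
    ((K : ℤ) - x) * (x.choose j : ℤ) =
      ((K : ℤ) - j) * (x.choose j : ℤ) - ((j : ℤ) + 1) * (x.choose (j + 1) : ℤ) := by
  have h := Nat.choose_succ_right_eq x j
  rcases Nat.lt_or_ge x j with hlt | hge
  · rw [Nat.choose_eq_zero_of_lt hlt, Nat.choose_eq_zero_of_lt (by omega : x < j + 1)]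
    simp
  · have h' : ((x.choose (j + 1) : ℤ)) * ((j : ℤ) + 1) = (x.choose j : ℤ) * ((x : ℤ) - j) := by
      have : ((x - j : ℕ) : ℤ) = (x : ℤ) - j := by omega
      rw [← this]
      exact_mod_cast h
    linear_combination h'

theorem lin_sub_mul_choose (hK : t ≤ K) (hBBcard : ∀ B ∈ BB, B.card = K)
    (hst : ∀ Y : Finset α, Y.card = t → ∃! B, B ∈ BB ∧ Y ⊆ B) (j : ℕ) (hj : j + 1 ≤ t) :
    Lin t K BB D (fun x => ((K : ℤ) - x) * (x.choose j : ℤ)) := by
  have h1 := (lin_choose (D := D) hK hBBcard hst j (by omega)).const_mul ((K : ℤ) - j)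
  have h2 := (lin_choose (D := D) hK hBBcard hst (j + 1) hj).const_mul ((j : ℤ) + 1)
  have := h1.sub h2
  have heq : (fun x : ℕ => ((K : ℤ) - x) * (x.choose j : ℤ)) =
      fun x => ((K : ℤ) - j) * (x.choose j : ℤ) - ((j : ℤ) + 1) * (x.choose (j + 1) : ℤ) := by
    funext x
    exact sub_mul_choose K x j
  rw [heq]
  exact this

end lin

/-- The alternating partial sum `P_s(x) = ∑_{j ≤ s} (-1)^(s-j) C(x,j)`. -/
def altSum (s x : ℕ) : ℤ := ∑ j ∈ range (s + 1), (-1 : ℤ) ^ (s - j) * (x.choose j : ℤ)

theorem altSum_succ (s x : ℕ) : altSum (s + 1) x = (x.choose (s + 1) : ℤ) - altSum s x := by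
  unfold altSum
  rw [sum_range_succ (n := s + 1)]
  have : ∀ j ∈ range (s + 1), (-1 : ℤ) ^ (s + 1 - j) * (x.choose j : ℤ) =
      - ((-1 : ℤ) ^ (s - j) * (x.choose j : ℤ)) := by
    intro j hj
    rw [mem_range] at hj
    have : s + 1 - j = (s - j) + 1 := by omega
    rw [this, pow_succ]
    ring
  rw [sum_congr rfl this, sum_neg_distrib]
  simp
  ring

theorem altSum_zero_right (s : ℕ) : altSum s 0 = (-1 : ℤ) ^ s := by
  induction s with
  | zero => simp [altSum]
  | succ s ih => rw [altSum_succ, ih]; simp [pow_succ]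

theorem altSum_pos (s x : ℕ) (hx : 1 ≤ x) : altSum s x = ((x - 1).choose s : ℤ) := by
  obtain ⟨y, rfl⟩ : ∃ y, x = y + 1 := ⟨x - 1, by omega⟩
  induction s with
  | zero => simp [altSum]
  | succ s ih =>
    rw [altSum_succ, ih]
    simp only [Nat.add_sub_cancel]
    have := Nat.choose_succ_succ y s
    push_cast [this]
    ring

theorem blocks_sum_nonpos {t K : ℕ} {BB : Finset (Finset α)} {D : Finset α}
    (hBBcard : ∀ B ∈ BB, B.card = K) (hsub : ∀ B ∈ BB, t ≤ (B ∩ D).card → B ⊆ D)
    (g : ℕ → ℤ) (h1 : ∀ x < t, g x ≤ 0) (h2 : g K ≤ 0) :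
    ∑ B ∈ BB, g (B ∩ D).card ≤ 0 := by
  apply sum_nonpos
  intro B hB
  rcases Nat.lt_or_ge (B ∩ D).card t with hlt | hge
  · exact h1 _ hlt
  · have := hsub B hB hge
    rw [inter_eq_left.mpr this, hBBcard B hB]
    exact h2

/-- The number of `K`-subsets disjoint from `D`. -/
theorem card_filter_inter_zero (K : ℕ) (D : Finset α) :
    (((univ : Finset α).powersetCard K).filter (fun S => (S ∩ D).card = 0)).card =
      (Dᶜ.card).choose K := by
  rw [← card_powersetCard]
  congr 1
  ext S
  simp only [mem_filter, mem_powersetCard, subset_univ, true_and, card_eq_zero]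
  constructor
  · rintro ⟨h1, h2⟩
    refine ⟨?_, h1⟩
    intro x hx
    rw [mem_compl]
    intro hxD
    have : x ∈ S ∩ D := mem_inter.mpr ⟨hx, hxD⟩
    rw [h2] at this
    simp at this
  · rintro ⟨h1, h2⟩
    refine ⟨h2, ?_⟩
    ext x
    simp only [mem_inter, notMem_empty, iff_false, not_and]
    intro hx hxD
    have := h1 hx
    rw [mem_compl] at this
    exact this hxD

/-- Lower bound for the number of `K`-subsets meeting `D` in `K - 1` points. -/
theorem le_card_filter_inter_pred (K : ℕ) (hK : 1 ≤ K) (D : Finset α) :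
    D.card.choose (K - 1) * Dᶜ.card ≤
      (((univ : Finset α).powersetCard K).filter (fun S => (S ∩ D).card = K - 1)).card := by
  rw [← card_powersetCard, ← card_product]
  apply card_le_card_of_injOn (fun p => insert p.2 p.1)
  · intro p hp
    simp only [coe_product, Set.mem_prod, mem_coe, mem_powersetCard, mem_compl] at hp
    obtain ⟨⟨hA, hAc⟩, hpD⟩ := hp
    have hpA : p.2 ∉ p.1 := fun h => hpD (hA h)
    simp only [coe_filter, Set.mem_setOf_eq, mem_powersetCard, subset_univ, true_and]
    refine ⟨by rw [card_insert_of_notMem hpA, hAc]; omega, ?_⟩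
    have : insert p.2 p.1 ∩ D = p.1 := by
      ext x
      simp only [mem_inter, mem_insert]
      constructor
      · rintro ⟨h | h, hxD⟩
        · exact absurd (h ▸ hxD) hpD
        · exact h
      · intro h
        exact ⟨Or.inr h, hA h⟩
    rw [this, hAc]
  · intro p hp q hq hpq
    simp only [coe_product, Set.mem_prod, mem_coe, mem_powersetCard, mem_compl] at hp hq
    obtain ⟨⟨hA, _⟩, hpD⟩ := hp
    obtain ⟨⟨hB, _⟩, hqD⟩ := hq
    simp only at hpq
    have h1 : p.1 = q.1 := by
      have e1 : insert p.2 p.1 ∩ D = p.1 := by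
        ext x
        simp only [mem_inter, mem_insert]
        constructor
        · rintro ⟨h | h, hxD⟩
          · exact absurd (h ▸ hxD) hpD
          · exact h
        · intro h
          exact ⟨Or.inr h, hA h⟩
      have e2 : insert q.2 q.1 ∩ D = q.1 := by
        ext x
        simp only [mem_inter, mem_insert]
        constructor
        · rintro ⟨h | h, hxD⟩
          · exact absurd (h ▸ hxD) hqD
          · exact h
        · intro h
          exact ⟨Or.inr h, hB h⟩
      rw [← e1, ← e2, hpq]
    have h2 : p.2 = q.2 := by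
      have : p.2 ∈ insert q.2 q.1 := by rw [← hpq]; exact mem_insert_self _ _
      rcases mem_insert.mp this with h | h
      · exact h
      · exact absurd (hB h) hpD
    exact Prod.ext h1 h2

/-- Upper bound for the number of `K`-subsets meeting `D` in exactly one point. -/
theorem card_filter_inter_one_le (K : ℕ) (hK : 1 ≤ K) (D : Finset α) :
    (((univ : Finset α).powersetCard K).filter (fun S => (S ∩ D).card = 1)).card ≤
      D.card * (Dᶜ.card).choose (K - 1) := by
  rw [← card_powersetCard, ← card_product]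
  apply card_le_card_of_surjOn (fun p => insert p.1 p.2)
  intro S hS
  simp only [coe_filter, Set.mem_setOf_eq, mem_powersetCard, subset_univ, true_and] at hS
  obtain ⟨hSc, hS1⟩ := hS
  obtain ⟨d, hd⟩ := card_eq_one.mp hS1
  have hdS : d ∈ S ∧ d ∈ D := by
    have : d ∈ S ∩ D := by rw [hd]; exact mem_singleton_self d
    exact mem_inter.mp this
  refine ⟨(d, S.erase d), ?_, ?_⟩
  · simp only [coe_product, Set.mem_prod, mem_coe, mem_powersetCard]
    refine ⟨hdS.2, ?_, by rw [card_erase_of_mem hdS.1, hSc]⟩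
    intro x hx
    rw [mem_compl]
    intro hxD
    have hxS := mem_of_mem_erase hx
    have : x ∈ S ∩ D := mem_inter.mpr ⟨hxS, hxD⟩
    rw [hd, mem_singleton] at this
    exact (ne_of_mem_erase hx) this
  · simp only
    exact insert_erase hdS.1

theorem sum_ite_const (P : Finset (Finset α)) (f : Finset α → ℕ) (a : ℕ) (c : ℤ) :
    ∑ S ∈ P, (if f S = a then c else 0) = ((P.filter (fun S => f S = a)).card : ℤ) * c := by
  rw [← sum_filter, sum_const, nsmul_eq_mul]

theorem even_case {t K : ℕ} (ht : 2 ≤ t) (hte : Even t) (hK : t < K)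
    (BB : Finset (Finset α)) (hBBcard : ∀ B ∈ BB, B.card = K)
    (hst : ∀ Y : Finset α, Y.card = t → ∃! B, B ∈ BB ∧ Y ⊆ B)
    (D : Finset α) (hsub : ∀ B ∈ BB, t ≤ (B ∩ D).card → B ⊆ D) (hDK : K ≤ D.card)
    (hu1 : 1 ≤ Dᶜ.card) (hlt : Dᶜ.card < D.card) : False := by
  set g : ℕ → ℤ := fun x => ((K : ℤ) - x) * altSum (t - 1) x with hg
  have hto : Odd (t - 1) := by
    obtain ⟨r, hr⟩ := hte
    exact ⟨r - 1, by omega⟩
  have hLin : Lin t K BB D g := by
    have heq : g = fun x : ℕ => ∑ j ∈ range t,
        (-1 : ℤ) ^ (t - 1 - j) * (((K : ℤ) - x) * (x.choose j : ℤ)) := by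
      funext x
      simp only [hg, altSum]
      rw [show t - 1 + 1 = t by omega, mul_sum]
      apply sum_congr rfl
      intro j _
      ring
    rw [heq]
    apply Lin.sum
    intro j hj
    rw [mem_range] at hj
    exact (lin_sub_mul_choose (D := D) hK.le hBBcard hst j (by omega)).const_mul _
  have hg0 : g 0 = -(K : ℤ) := by
    simp only [hg, altSum_zero_right, hto.neg_one_pow]
    simp
  have hgpos : ∀ x : ℕ, 1 ≤ x → g x = ((K : ℤ) - x) * (((x - 1).choose (t - 1) : ℕ) : ℤ) := by
    intro x hx
    simp only [hg, altSum_pos _ _ hx]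
  have h1 : ∀ x < t, g x ≤ 0 := by
    intro x hx
    rcases Nat.eq_zero_or_pos x with rfl | hpos
    · rw [hg0]; omega
    · rw [hgpos x hpos, Nat.choose_eq_zero_of_lt (by omega)]
      simp
  have h2 : g K ≤ 0 := by
    rw [hgpos K (by omega)]
    simp
  have hSB := blocks_sum_nonpos hBBcard hsub g h1 h2
  have hSS : ∑ S ∈ (univ : Finset α).powersetCard K, g (S ∩ D).card ≤ 0 := by
    rw [hLin]
    exact mul_nonpos_of_nonneg_of_nonpos (by positivity) hSB
  -- lower bound
  have hlow : ∀ S ∈ (univ : Finset α).powersetCard K,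
      (if (S ∩ D).card = 0 then -(K : ℤ) else 0) + (if (S ∩ D).card = K - 1 then (1 : ℤ) else 0)
        ≤ g (S ∩ D).card := by
    intro S hS
    rw [mem_powersetCard] at hS
    have hxK : (S ∩ D).card ≤ K := by
      rw [← hS.2]; exact card_le_card inter_subset_left
    set x := (S ∩ D).card with hx
    rcases Nat.eq_zero_or_pos x with h0 | hpos
    · rw [h0, hg0, if_pos rfl, if_neg (by omega)]
      simp
    · rw [if_neg (by omega), hgpos x hpos]
      by_cases hxe : x = K - 1
      · rw [if_pos hxe, hxe]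
        have : 1 ≤ ((K - 1 - 1).choose (t - 1)) := Nat.choose_pos (by omega)
        have h' : ((K : ℤ) - ((K - 1 : ℕ) : ℤ)) = 1 := by omega
        rw [h', one_mul, zero_add]
        exact_mod_cast this
      · rw [if_neg hxe]
        simp only [add_zero]
        apply mul_nonneg
        · omega
        · positivity
  have hsum := sum_le_sum hlow
  rw [sum_add_distrib, sum_ite_const, sum_ite_const, card_filter_inter_zero] at hsum
  have hN := le_card_filter_inter_pred K (by omega) D
  -- arithmetic
  set u := Dᶜ.card with hu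
  set w := D.card with hw
  have hkey : K * u.choose K < w.choose (K - 1) * u := by
    have e1 : u * (u - 1).choose (K - 1) = u.choose K * K := by
      have := Nat.add_one_mul_choose_eq (u - 1) (K - 1)
      rw [show u - 1 + 1 = u by omega, show K - 1 + 1 = K by omega] at this
      exact this
    have e2 : (u - 1).choose (K - 1) < w.choose (K - 1) := by
      have a1 : (u - 1).choose (K - 1) ≤ (w - 1).choose (K - 1) :=
        Nat.choose_le_choose _ (by omega)
      have a2 : w.choose (K - 1) = (w - 1).choose (K - 2) + (w - 1).choose (K - 1) := by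
        have := Nat.choose_succ_succ (w - 1) (K - 2)
        rw [show (w - 1).succ = w by omega, show (K - 2).succ = K - 1 by omega] at this
        exact this
      have a3 : 1 ≤ (w - 1).choose (K - 2) := Nat.choose_pos (by omega)
      omega
    calc K * u.choose K = u * (u - 1).choose (K - 1) := by rw [e1]; ring
      _ < u * w.choose (K - 1) := Nat.mul_lt_mul_of_pos_left e2 (by omega)
      _ = w.choose (K - 1) * u := by ring
  have hN' : ((w.choose (K - 1) * u : ℕ) : ℤ) ≤
      (((univ : Finset α).powersetCard K).filter (fun S => (S ∩ D).card = K - 1)).card := by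
    exact_mod_cast hN
  have hkey' : ((K * u.choose K : ℕ) : ℤ) < ((w.choose (K - 1) * u : ℕ) : ℤ) := by
    exact_mod_cast hkey
  push_cast at hkey' hN'
  nlinarith

theorem odd_case {t K : ℕ} (ht : 3 ≤ t) (hto : Odd t) (hK : t < K)
    (BB : Finset (Finset α)) (hBBcard : ∀ B ∈ BB, B.card = K)
    (hst : ∀ Y : Finset α, Y.card = t → ∃! B, B ∈ BB ∧ Y ⊆ B)
    (D : Finset α) (hsub : ∀ B ∈ BB, t ≤ (B ∩ D).card → B ⊆ D) (hDK : K ≤ D.card)
    (hu1 : 1 ≤ Dᶜ.card) (hlt : Dᶜ.card < D.card) : False := by
  set g : ℕ → ℤ := fun x : ℕ => ∑ j ∈ range (t - 1),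
      (-1 : ℤ) ^ (t - 2 - j) * (((j : ℤ) + 1) * (((K : ℤ) - x) * (x.choose (j + 1) : ℤ))) with hg
  have hto2 : Odd (t - 2) := by
    obtain ⟨r, hr⟩ := hto
    exact ⟨r - 1, by omega⟩
  have hLin : Lin t K BB D g := by
    apply Lin.sum
    intro j hj
    rw [mem_range] at hj
    exact ((lin_sub_mul_choose (D := D) hK.le hBBcard hst (j + 1) (by omega)).const_mul _).const_mul _
  have hg0 : g 0 = 0 := by
    simp only [hg]
    apply sum_eq_zero
    intro j _
    simp
  have hgpos : ∀ x : ℕ, 1 ≤ x →
      g x = ((K : ℤ) - x) * ((x : ℤ) * altSum (t - 2) (x - 1)) := by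
    intro x hx
    simp only [hg, altSum]
    rw [show t - 2 + 1 = t - 1 by omega, mul_sum, mul_sum]
    apply sum_congr rfl
    intro j _
    have h := Nat.add_one_mul_choose_eq (x - 1) j
    rw [show x - 1 + 1 = x by omega] at h
    have h' : (x : ℤ) * ((x - 1).choose j : ℤ) = (x.choose (j + 1) : ℤ) * ((j : ℤ) + 1) := by
      exact_mod_cast h
    linear_combination (-(((K : ℤ) - x) * (-1 : ℤ) ^ (t - 2 - j))) * h'
  have hg1 : g 1 = -((K : ℤ) - 1) := by
    rw [hgpos 1 le_rfl]
    simp only [Nat.sub_self, altSum_zero_right, hto2.neg_one_pow]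
    push_cast
    ring
  have hg2 : ∀ x : ℕ, 2 ≤ x →
      g x = ((K : ℤ) - x) * ((x : ℤ) * (((x - 2).choose (t - 2) : ℕ) : ℤ)) := by
    intro x hx
    rw [hgpos x (by omega), altSum_pos _ _ (by omega), show x - 1 - 1 = x - 2 by omega]
  have h1 : ∀ x < t, g x ≤ 0 := by
    intro x hx
    rcases Nat.lt_or_ge x 2 with hlt2 | hge2
    · interval_cases x
      · rw [hg0]
      · rw [hg1]; omega
    · rw [hg2 x hge2, Nat.choose_eq_zero_of_lt (by omega)]
      simp
  have h2 : g K ≤ 0 := by
    rw [hg2 K (by omega)]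
    simp
  have hSB := blocks_sum_nonpos hBBcard hsub g h1 h2
  have hSS : ∑ S ∈ (univ : Finset α).powersetCard K, g (S ∩ D).card ≤ 0 := by
    rw [hLin]
    exact mul_nonpos_of_nonneg_of_nonpos (by positivity) hSB
  have hlow : ∀ S ∈ (univ : Finset α).powersetCard K,
      (if (S ∩ D).card = 1 then -((K : ℤ) - 1) else 0) +
        (if (S ∩ D).card = K - 1 then ((K : ℤ) - 1) else 0) ≤ g (S ∩ D).card := by
    intro S hS
    rw [mem_powersetCard] at hS
    have hxK : (S ∩ D).card ≤ K := by
      rw [← hS.2]; exact card_le_card inter_subset_left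
    set x := (S ∩ D).card with hx
    rcases Nat.lt_or_ge x 2 with hlt2 | hge2
    · interval_cases x
      · rw [hg0, if_neg (by omega), if_neg (by omega)]
        simp
      · rw [hg1, if_pos rfl, if_neg (by omega)]
        simp
    · rw [if_neg (by omega), hg2 x hge2, zero_add]
      by_cases hxe : x = K - 1
      · rw [if_pos hxe, hxe]
        have : 1 ≤ ((K - 1 - 2).choose (t - 2)) := Nat.choose_pos (by omega)
        have h' : ((K : ℤ) - ((K - 1 : ℕ) : ℤ)) = 1 := by omega
        have h'' : (((K - 1 : ℕ) : ℤ)) = (K : ℤ) - 1 := by omega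
        rw [h', one_mul, h'']
        have h3 : (1 : ℤ) ≤ (((K - 1 - 2).choose (t - 2) : ℕ) : ℤ) := by exact_mod_cast this
        have h4 : (0 : ℤ) ≤ (K : ℤ) - 1 := by omega
        nlinarith
      · rw [if_neg hxe]
        apply mul_nonneg
        · omega
        · positivity
  have hsum := sum_le_sum hlow
  rw [sum_add_distrib, sum_ite_const, sum_ite_const] at hsum
  have hN := le_card_filter_inter_pred K (by omega) D
  have hN1 := card_filter_inter_one_le K (by omega) D
  set u := Dᶜ.card with hu
  set w := D.card with hw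
  have hkey : w * u.choose (K - 1) < w.choose (K - 1) * u := by
    have e1 : u * (u - 1).choose (K - 2) = u.choose (K - 1) * (K - 1) := by
      have := Nat.add_one_mul_choose_eq (u - 1) (K - 2)
      rw [show u - 1 + 1 = u by omega, show K - 2 + 1 = K - 1 by omega] at this
      exact this
    have e1' : w * (w - 1).choose (K - 2) = w.choose (K - 1) * (K - 1) := by
      have := Nat.add_one_mul_choose_eq (w - 1) (K - 2)
      rw [show w - 1 + 1 = w by omega, show K - 2 + 1 = K - 1 by omega] at this
      exact this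
    have e2 : (u - 1).choose (K - 2) < (w - 1).choose (K - 2) := by
      have a1 : (u - 1).choose (K - 2) ≤ (w - 2).choose (K - 2) :=
        Nat.choose_le_choose _ (by omega)
      have a2 : (w - 1).choose (K - 2) = (w - 2).choose (K - 3) + (w - 2).choose (K - 2) := by
        have := Nat.choose_succ_succ (w - 2) (K - 3)
        rw [show (w - 2).succ = w - 1 by omega, show (K - 3).succ = K - 2 by omega] at this
        exact this
      have a3 : 1 ≤ (w - 2).choose (K - 3) := Nat.choose_pos (by omega)
      omega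
    have e3 : (w * u.choose (K - 1)) * (K - 1) < (w.choose (K - 1) * u) * (K - 1) := by
      calc (w * u.choose (K - 1)) * (K - 1) = w * (u * (u - 1).choose (K - 2)) := by
            rw [e1]; ring
        _ < w * (u * (w - 1).choose (K - 2)) := by
            apply Nat.mul_lt_mul_of_pos_left _ (by omega)
            exact Nat.mul_lt_mul_of_pos_left e2 (by omega)
        _ = (w.choose (K - 1) * u) * (K - 1) := by
            have : w * (u * (w - 1).choose (K - 2)) = u * (w * (w - 1).choose (K - 2)) := by ring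
            rw [this, e1']; ring
    exact Nat.lt_of_mul_lt_mul_right e3
  have hN' : ((w.choose (K - 1) * u : ℕ) : ℤ) ≤
      (((univ : Finset α).powersetCard K).filter (fun S => (S ∩ D).card = K - 1)).card := by
    exact_mod_cast hN
  have hN1' : ((((univ : Finset α).powersetCard K).filter (fun S => (S ∩ D).card = 1)).card : ℤ)
      ≤ ((w * u.choose (K - 1) : ℕ) : ℤ) := by
    exact_mod_cast hN1
  have hkey' : ((w * u.choose (K - 1) : ℕ) : ℤ) < ((w.choose (K - 1) * u : ℕ) : ℤ) := by
    exact_mod_cast hkey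
  have hK1 : (0 : ℤ) < (K : ℤ) - 1 := by omega
  push_cast at hkey' hN' hN1'
  nlinarith

/-- **Main lemma.** In a Steiner system `S(t, K, v)` with `K > t ≥ 2`, a proper subspace with at
least `t` points has at most `v / 2` points. -/
theorem steiner_subspace_card_le (t K : ℕ) (ht : 2 ≤ t)
    (hK : t < K) (BB : Finset (Finset α)) (hBBcard : ∀ B ∈ BB, B.card = K)
    (hst : ∀ Y : Finset α, Y.card = t → ∃! B, B ∈ BB ∧ Y ⊆ B)
    (D : Finset α) (hsub : ∀ B ∈ BB, t ≤ (B ∩ D).card → B ⊆ D) (hDt : t ≤ D.card)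
    (hD : D ≠ Finset.univ) : 2 * D.card ≤ Fintype.card α := by
  by_contra hcon
  have hcard : Dᶜ.card = Fintype.card α - D.card := card_compl D
  have hle : D.card ≤ Fintype.card α := card_le_univ D
  have hu1 : 1 ≤ Dᶜ.card := by
    rw [Nat.one_le_iff_ne_zero]
    intro h
    apply hD
    rw [card_eq_zero, compl_eq_empty_iff] at h
    exact h
  have hlt : Dᶜ.card < D.card := by omega
  have hDK : K ≤ D.card := by
    obtain ⟨Y, hYD, hYc⟩ := exists_subset_card_eq hDt
    obtain ⟨B, ⟨hB, hYB⟩, _⟩ := hst Y hYc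
    have : t ≤ (B ∩ D).card := by
      rw [← hYc]
      exact card_le_card (subset_inter hYB hYD)
    have hBD := hsub B hB this
    rw [← hBBcard B hB]
    exact card_le_card hBD
  rcases Nat.even_or_odd t with hte | hto
  · exact even_case ht hte hK BB hBBcard hst D hsub hDK hu1 hlt
  · have ht3 : 3 ≤ t := by
      obtain ⟨r, hr⟩ := hto
      omega
    exact odd_case ht3 hto hK BB hBBcard hst D hsub hDK hu1 hlt

end Cfsg.Agent.Lib.Helper71.SteinerSub
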