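import Cfsg.Agent.Lib.Helper71.MargDefs
import Cfsg.Agent.Lib.Helper71.SteinerSub

/-!
# Marggraf's theorem (S3620), MODULE TA: type A is impossible

If all translates of the Jordan set avoiding `X` are unions of translates of the block `B`, the
closures (intersections of flats) of the `(k+1)`-subsets form a Steiner system in which the flat
`Γᶜ` is a subspace with more than half of the points: impossible.
-/

namespace Cfsg.Agent.Lib.Helper71.Marg

open MulAction
open scoped Pointwise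

variable {G Ω : Type*} [Group G] [MulAction G Ω]

/-- The closure of `Y`: the intersection of all flats `g • Γᶜ` containing `Y`. -/
def cl (G : Type*) {Ω : Type*} [Group G] [MulAction G Ω] (Γ : Set Ω) (Y : Set Ω) : Set Ω :=
  {x | ∀ g : G, Y ⊆ g • Γᶜ → x ∈ g • Γᶜ}

theorem subset_cl (Γ Y : Set Ω) : Y ⊆ cl G Γ Y := fun _ hx _ hg => hg hx

theorem cl_subset_flat {Γ Y : Set Ω} {g : G} (h : Y ⊆ g • Γᶜ) : cl G Γ Y ⊆ g • Γᶜ :=
  fun _ hx => hx g h

theorem cl_subset_cl {Γ Y Y' : Set Ω} (h : Y' ⊆ cl G Γ Y) : cl G Γ Y' ⊆ cl G Γ Y := by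
  intro x hx g hg
  exact hx g (h.trans (cl_subset_flat hg))

theorem cl_smul (Γ Y : Set Ω) (g₀ : G) : cl G Γ (g₀ • Y) = g₀ • cl G Γ Y := by
  ext x
  rw [Set.mem_smul_set_iff_inv_smul_mem]
  simp only [cl, Set.mem_setOf_eq]
  constructor
  · intro h g hg
    have h1 : g₀ • Y ⊆ (g₀ * g) • Γᶜ := by
      rw [mul_smul]
      exact Set.smul_set_mono hg
    have h2 := h (g₀ * g) h1
    rw [mul_smul, Set.mem_smul_set_iff_inv_smul_mem] at h2
    exact h2
  · intro h g hg
    have h1 : Y ⊆ (g₀⁻¹ * g) • Γᶜ := by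
      rw [mul_smul]
      intro y hy
      rw [Set.mem_smul_set_iff_inv_smul_mem, inv_inv]
      exact hg (Set.smul_mem_smul_set hy)
    have h2 := h (g₀⁻¹ * g) h1
    rw [mul_smul, Set.mem_smul_set_iff_inv_smul_mem, inv_inv, smul_inv_smul] at h2
    exact h2

theorem cl_eq_of_subset_of_ncard [Finite Ω] {Γ Y Y' : Set Ω} (h : Y' ⊆ cl G Γ Y)
    (hc : (cl G Γ Y).ncard = (cl G Γ Y').ncard) : cl G Γ Y' = cl G Γ Y :=
  Set.eq_of_subset_of_ncard_le (cl_subset_cl h) hc.le (Set.toFinite _)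

/-- **MODULE TA.** Type A is impossible. -/
theorem typeA_false [Fintype Ω] [DecidableEq Ω] {Γ X B : Set Ω} (hΓne : Γ.Nonempty)
    (k : ℕ) (hk : 1 ≤ k)
    (hhom : ∀ Y Y' : Set Ω, Y.ncard = k + 1 → Y'.ncard = k + 1 → ∃ g : G, g • Y = Y')
    (hhalf : 2 * Γ.ncard < Fintype.card Ω) (hkd : k + 1 ≤ Γᶜ.ncard)
    (hX : X.ncard = k) (hXΔ : X ⊆ Γᶜ)
    (htr : TransOn (fixingSubgroup G X) Xᶜ)
    (hBX : B ⊆ Xᶜ) (hB2 : 1 < B.ncard)
    (hA : ∀ g : G, Disjoint (g • Γ) X → ∀ k' ∈ fixingSubgroup G X,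
        ((k' • B) ∩ (g • Γ)).Nonempty → k' • B ⊆ g • Γ) : False := by
  classical
  have hn : Γ.ncard + Γᶜ.ncard = Fintype.card Ω := by
    rw [Set.ncard_add_ncard_compl, Nat.card_eq_fintype_card]
  -- a point outside `X`
  obtain ⟨y, hy⟩ : ∃ y, y ∉ X := by
    by_contra h
    push Not at h
    have hXu : X = Set.univ := Set.eq_univ_of_forall h
    have h1 : Γᶜ.ncard ≤ X.ncard := Set.ncard_le_ncard (by rw [hXu]; exact Set.subset_univ _)
    omega
  obtain ⟨b0, hb0⟩ : B.Nonempty := by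
    rw [← Set.ncard_pos]; omega
  obtain ⟨k', hk', hk'y⟩ := htr b0 (hBX hb0) y hy
  set Y0 : Set Ω := insert y X with hY0
  have hY0card : Y0.ncard = k + 1 := by
    rw [hY0, Set.ncard_insert_of_notMem hy, hX]
  have hyB : y ∈ k' • B := hk'y ▸ Set.smul_mem_smul_set hb0
  have hsub0 : X ∪ k' • B ⊆ cl G Γ Y0 := by
    intro x hx g hg
    rcases hx with hxX | hxB
    · exact hg (Set.mem_insert_of_mem _ hxX)
    · by_contra hxg
      rw [Set.smul_set_compl] at hg hxg
      have hxΓ : x ∈ g • Γ := by simpa using hxg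
      have hdisj : Disjoint (g • Γ) X := by
        rw [Set.disjoint_left]
        intro z hz hzX
        exact (hg (Set.mem_insert_of_mem _ hzX)) hz
      have := hA g hdisj k' hk' ⟨x, hxB, hxΓ⟩
      exact (hg (Set.mem_insert _ _)) (this hyB)
  have hk'BX : k' • B ⊆ Xᶜ := by
    rintro _ ⟨b, hb, rfl⟩
    exact smul_mem_of_mem_fixingSubgroup hk' (hBX hb)
  have hcard0 : k + 2 ≤ (cl G Γ Y0).ncard := by
    have hdisj : Disjoint X (k' • B) := by
      rw [Set.disjoint_left]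
      intro z hzX hzB
      exact hk'BX hzB hzX
    calc k + 2 ≤ X.ncard + (k' • B).ncard := by rw [hX, Set.ncard_smul_set]; omega
      _ = (X ∪ k' • B).ncard := (Set.ncard_union_eq hdisj).symm
      _ ≤ _ := Set.ncard_le_ncard hsub0
  set Kc := (cl G Γ Y0).ncard with hKc
  have hconst : ∀ Y : Set Ω, Y.ncard = k + 1 → (cl G Γ Y).ncard = Kc := by
    intro Y hY
    obtain ⟨g, hg⟩ := hhom Y0 Y hY0card hY
    rw [← hg, cl_smul, Set.ncard_smul_set]
  -- the Steiner system
  let blk : Finset Ω → Finset Ω := fun Y => (cl G Γ (Y : Set Ω)).toFinset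
  have hblk_coe : ∀ Y : Finset Ω, ((blk Y : Finset Ω) : Set Ω) = cl G Γ (Y : Set Ω) := by
    intro Y
    simp [blk]
  let BB : Finset (Finset Ω) := (Finset.univ.powersetCard (k + 1)).image blk
  let D : Finset Ω := Γᶜ.toFinset
  have hDcoe : (D : Set Ω) = Γᶜ := by simp [D]
  have hDcard : D.card = Γᶜ.ncard := by
    rw [← Set.ncard_coe_finset, hDcoe]
  have hblk_card : ∀ Y : Finset Ω, Y.card = k + 1 → (blk Y).card = Kc := by
    intro Y hY
    rw [← Set.ncard_coe_finset, hblk_coe]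
    exact hconst _ (by rw [Set.ncard_coe_finset, hY])
  -- two blocks: if `Y ⊆ blk Y1` then `blk Y = blk Y1`
  have hblk_eq : ∀ Y Y1 : Finset Ω, Y.card = k + 1 → Y1.card = k + 1 → Y ⊆ blk Y1 →
      blk Y = blk Y1 := by
    intro Y Y1 hY hY1 hsub
    have h1 : (Y : Set Ω) ⊆ cl G Γ (Y1 : Set Ω) := by
      rw [← hblk_coe]
      exact_mod_cast hsub
    have h2 : (cl G Γ (Y1 : Set Ω)).ncard = (cl G Γ (Y : Set Ω)).ncard := by
      rw [hconst _ (by rw [Set.ncard_coe_finset, hY1]), hconst _ (by rw [Set.ncard_coe_finset, hY])]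
    have h3 := cl_eq_of_subset_of_ncard h1 h2
    apply Finset.coe_injective
    rw [hblk_coe, hblk_coe, h3]
  have hres := SteinerSub.steiner_subspace_card_le (α := Ω) (k + 1) Kc (by omega) (by omega) BB
    (by
      intro B' hB'
      obtain ⟨Y, hY, rfl⟩ := Finset.mem_image.mp hB'
      rw [Finset.mem_powersetCard] at hY
      exact hblk_card Y hY.2)
    (by
      intro Y hY
      refine ⟨blk Y, ⟨Finset.mem_image_of_mem _ (by
        rw [Finset.mem_powersetCard]; exact ⟨Finset.subset_univ _, hY⟩), ?_⟩, ?_⟩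
      · have : (Y : Set Ω) ⊆ ((blk Y : Finset Ω) : Set Ω) := by
          rw [hblk_coe]; exact subset_cl _ _
        exact_mod_cast this
      · rintro B' ⟨hB', hYB'⟩
        obtain ⟨Y1, hY1, rfl⟩ := Finset.mem_image.mp hB'
        rw [Finset.mem_powersetCard] at hY1
        exact (hblk_eq Y Y1 hY hY1.2 hYB').symm)
    D
    (by
      intro B' hB' hcard
      obtain ⟨Y1, hY1, rfl⟩ := Finset.mem_image.mp hB'
      rw [Finset.mem_powersetCard] at hY1
      obtain ⟨Y', hY'sub, hY'card⟩ := Finset.exists_subset_card_eq hcard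
      have hY'1 : Y' ⊆ blk Y1 := hY'sub.trans Finset.inter_subset_left
      have hY'D : Y' ⊆ D := hY'sub.trans Finset.inter_subset_right
      rw [← hblk_eq Y' Y1 hY'card hY1.2 hY'1]
      have h1 : (Y' : Set Ω) ⊆ (1 : G) • Γᶜ := by
        rw [one_smul, ← hDcoe]
        exact_mod_cast hY'D
      have h2 := cl_subset_flat (G := G) h1
      rw [one_smul, ← hDcoe, ← hblk_coe] at h2
      exact_mod_cast h2)
    (by rw [hDcard]; exact hkd)
    (by
      intro hDu
      obtain ⟨x, hx⟩ := hΓne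
      have : x ∈ D := by rw [hDu]; exact Finset.mem_univ _
      have : x ∈ Γᶜ := by rw [← hDcoe]; exact_mod_cast this
      exact this hx)
  rw [hDcard] at hres
  omega

end Cfsg.Agent.Lib.Helper71.Marg
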