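import Mathlib
import Cfsg.Agent.Lib.Helper40.FrobeniusDiv

/-!
# Numbers of elements of each order (helper71, for S3431)

`cnt G d` = number of elements of order `d`.  The structure `NSE n s` collects the arithmetic
constraints satisfied by `n = |G|`, `s = cnt G` (Frobenius divisibility, totient divisibility,
closure under divisors, Cauchy, total count).  The numeric puzzles for `A₄, A₅, A₆` are solved
from these constraints alone.
-/

namespace Cfsg.Agent.Lib.Helper71.Nse

open Finset

/-- number of elements of order `d` -/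
noncomputable def cnt (G : Type*) [Group G] (d : ℕ) : ℕ := Nat.card {g : G // orderOf g = d}

/-- The arithmetic constraints on the order-count function of a finite group. -/
structure NSE (n : ℕ) (s : ℕ → ℕ) : Prop where
  pos : 0 < n
  one : s 1 = 1
  supp : ∀ d, s d ≠ 0 → d ∣ n
  tot : ∀ d, d.totient ∣ s d
  frob : ∀ m, m ∣ n → m ∣ ∑ d ∈ m.divisors, s d
  clo : ∀ d e, e ∣ d → s d ≠ 0 → s e ≠ 0
  cauchy : ∀ p, p.Prime → p ∣ n → s p ≠ 0
  total : ∀ D : Finset ℕ, (∀ d, s d ≠ 0 → d ∈ D) → ∑ d ∈ D, s d = n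

section group

variable (G : Type*) [Group G] [Finite G]

theorem cnt_ne_zero_iff (d : ℕ) : cnt G d ≠ 0 ↔ ∃ g : G, orderOf g = d := by
  unfold cnt
  rw [Nat.card_ne_zero]
  constructor
  · rintro ⟨⟨⟨g, hg⟩⟩, _⟩
    exact ⟨g, hg⟩
  · rintro ⟨g, hg⟩
    exact ⟨⟨⟨g, hg⟩⟩, inferInstance⟩

theorem cnt_eq_card_filter [Fintype G] [DecidableEq G] (d : ℕ) :
    cnt G d = (univ.filter (fun g : G => orderOf g = d)).card := by
  unfold cnt
  rw [Nat.card_eq_fintype_card, Fintype.card_subtype]

theorem sum_cnt_of_support [Fintype G] [DecidableEq G] (P : G → Prop) [DecidablePred P]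
    (D : Finset ℕ) (hD : ∀ g : G, P g → orderOf g ∈ D) :
    ∑ d ∈ D, (univ.filter (fun g : G => P g ∧ orderOf g = d)).card
      = (univ.filter (fun g : G => P g)).card := by
  rw [Finset.card_eq_sum_card_fiberwise (f := fun g : G => orderOf g) (t := D)
    (fun g hg => by
      simp only [Finset.mem_coe, Finset.mem_filter, Finset.mem_univ, true_and] at hg
      exact Finset.mem_coe.mpr (hD g hg))]
  apply Finset.sum_congr rfl
  intro d _
  congr 1
  ext g
  simp

theorem nse_of_group : NSE (Nat.card G) (cnt G) := by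
  classical
  have := Fintype.ofFinite G
  refine ⟨Nat.card_pos, ?_, ?_, ?_, ?_, ?_, ?_, ?_⟩
  · -- one
    unfold cnt
    have : {g : G // orderOf g = 1} ≃ Unit :=
      { toFun := fun _ => ()
        invFun := fun _ => ⟨1, orderOf_one⟩
        left_inv := fun g => by
          apply Subtype.ext
          exact (orderOf_eq_one_iff.mp g.2).symm
        right_inv := fun _ => rfl }
    rw [Nat.card_congr this]
    simp
  · -- supp
    intro d hd
    obtain ⟨g, rfl⟩ := (cnt_ne_zero_iff G d).mp hd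
    exact orderOf_dvd_natCard g
  · -- tot
    intro d
    exact Cfsg.Agent.Lib.Helper40.totient_dvd_card_orderOf_eq d
  · -- frob
    intro m hm
    have hm0 : m ≠ 0 := by
      rintro rfl
      exact (Nat.card_pos (α := G)).ne' (Nat.eq_zero_of_zero_dvd hm)
    have h1 := Cfsg.Agent.Lib.Helper40.frobenius_dvd (G := G) m hm
    have h2 : Nat.card {x : G // x ^ m = 1} = ∑ d ∈ m.divisors, cnt G d := by
      rw [Nat.card_eq_fintype_card, Fintype.card_subtype]
      rw [← sum_cnt_of_support G (fun g : G => g ^ m = 1) m.divisors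
        (fun g hg => by
          rw [Nat.mem_divisors]
          exact ⟨orderOf_dvd_of_pow_eq_one hg, hm0⟩)]
      apply Finset.sum_congr rfl
      intro d hd
      rw [cnt_eq_card_filter]
      congr 1
      ext g
      simp only [Finset.mem_filter, Finset.mem_univ, true_and]
      constructor
      · rintro ⟨_, h⟩; exact h
      · intro h
        refine ⟨?_, h⟩
        rw [← orderOf_dvd_iff_pow_eq_one, h]
        exact Nat.dvd_of_mem_divisors hd
    rwa [h2] at h1
  · -- clo
    intro d e hed hd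
    obtain ⟨g, rfl⟩ := (cnt_ne_zero_iff G d).mp hd
    rw [cnt_ne_zero_iff]
    obtain ⟨k, hk⟩ := hed
    have hpos : 0 < orderOf g := orderOf_pos g
    have hk0 : k ≠ 0 := by
      rintro rfl
      rw [mul_zero] at hk
      omega
    have he0 : e ≠ 0 := by
      rintro rfl
      rw [zero_mul] at hk
      omega
    refine ⟨g ^ k, ?_⟩
    rw [orderOf_pow_of_dvd hk0 ⟨e, by rw [hk]; ring⟩, hk]
    exact Nat.mul_div_cancel _ (Nat.pos_of_ne_zero hk0)
  · -- cauchy
    intro p hp hpn
    haveI : Fact p.Prime := ⟨hp⟩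
    obtain ⟨g, hg⟩ := exists_prime_orderOf_dvd_card' p hpn
    exact (cnt_ne_zero_iff G p).mpr ⟨g, hg⟩
  · -- total
    intro D hD
    have h := sum_cnt_of_support G (fun _ : G => True) D
      (fun g _ => hD _ ((cnt_ne_zero_iff G _).mpr ⟨g, rfl⟩))
    simp only [true_and, Finset.filter_true_of_mem (fun _ _ => trivial : ∀ g ∈ (univ : Finset G), True)]
      at h
    rw [Nat.card_eq_fintype_card, ← Finset.card_univ, ← h]
    apply Finset.sum_congr rfl
    intro d _
    rw [cnt_eq_card_filter]

end group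

namespace NSE

variable {n : ℕ} {s : ℕ → ℕ}

theorem zero_of_not_dvd (h : NSE n s) {d : ℕ} (hd : ¬ d ∣ n) : s d = 0 := by
  by_contra h0
  exact hd (h.supp d h0)

theorem zero_of_zero (h : NSE n s) {d e : ℕ} (hed : e ∣ d) (he : s e = 0) : s d = 0 := by
  by_contra h0
  exact h.clo d e hed h0 he

theorem s_zero (h : NSE n s) : s 0 = 0 := by
  by_contra h0
  have := h.supp 0 h0
  have := h.pos
  rw [zero_dvd_iff] at *
  omega

theorem frob_prime (h : NSE n s) {p : ℕ} (hp : p.Prime) (hpn : p ∣ n) : p ∣ s 1 + s p := by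
  have := h.frob p hpn
  rw [Nat.Prime.sum_divisors hp] at this
  rwa [add_comm]

theorem even_of_two_lt (h : NSE n s) {d : ℕ} (hd : 2 < d) : 2 ∣ s d :=
  dvd_trans (Nat.totient_even hd).two_dvd (h.tot d)

/-- any partial sum is a lower bound for `n` -/
theorem sum_le (h : NSE n s) (D' : Finset ℕ) : ∑ d ∈ D', s d ≤ n := by
  have h1 := h.total (D' ∪ n.divisors) (fun d hd => by
    rw [Finset.mem_union, Nat.mem_divisors]
    exact Or.inr ⟨h.supp d hd, h.pos.ne'⟩)
  rw [← h1]
  exact Finset.sum_le_sum_of_subset Finset.subset_union_left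

theorem list_sum_le (h : NSE n s) (L : List ℕ) (hL : (L.map s).Nodup) : (L.map s).sum ≤ n := by
  have hL' : L.Nodup := List.Nodup.of_map s hL
  have := h.sum_le L.toFinset
  rwa [List.sum_toFinset s hL'] at this

/-- complementary count: the number of elements whose order is divisible by the prime `p` is
divisible by every divisor `q` of `n` which is prime to `p`. -/
theorem compl (h : NSE n s) {p q : ℕ} (hp : p.Prime) (hq : q ∣ n) (hqp : Nat.Coprime q p)
    (D : Finset ℕ) (hD : ∀ d, s d ≠ 0 → d ∈ D) :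
    q ∣ ∑ d ∈ D.filter (fun d => p ∣ d), s d := by
  have hn0 : n ≠ 0 := h.pos.ne'
  set k := n.factorization p with hk
  set m := n / p ^ k with hm
  have hnm : p ^ k * m = n := Nat.ordProj_mul_ordCompl_eq_self n p
  have hpm : ¬ p ∣ m := Nat.not_dvd_ordCompl hp hn0
  have hm0 : m ≠ 0 := by
    rintro h0
    rw [h0, mul_zero] at hnm
    exact hn0 hnm.symm
  have hmn : m ∣ n := ⟨p ^ k, by rw [← hnm]; ring⟩
  have hqm : q ∣ m := by
    have : q ∣ p ^ k * m := hnm ▸ hq
    exact (Nat.Coprime.pow_right k hqp).dvd_of_dvd_mul_left this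
  have hf := h.frob m hmn
  have ht := h.total D hD
  rw [← Finset.sum_filter_add_sum_filter_not D (fun d => p ∣ d)] at ht
  have heq : ∑ d ∈ D.filter (fun d => ¬ p ∣ d), s d = ∑ d ∈ m.divisors, s d := by
    rw [← Finset.sum_filter_ne_zero (s := D.filter (fun d => ¬ p ∣ d)),
      ← Finset.sum_filter_ne_zero (s := m.divisors)]
    apply Finset.sum_congr _ (fun _ _ => rfl)
    ext d
    simp only [Finset.mem_filter, Nat.mem_divisors]
    constructor
    · rintro ⟨⟨_, hpd⟩, hd0⟩
      refine ⟨⟨?_, hm0⟩, hd0⟩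
      have hdn : d ∣ p ^ k * m := hnm ▸ h.supp d hd0
      have hcop : Nat.Coprime d (p ^ k) :=
        Nat.Coprime.pow_right k ((Nat.Prime.coprime_iff_not_dvd hp).mpr hpd).symm
      exact hcop.dvd_of_dvd_mul_left hdn
    · rintro ⟨⟨hdm, _⟩, hd0⟩
      exact ⟨⟨hD d hd0, fun hpd => hpm (dvd_trans hpd hdm)⟩, hd0⟩
  rw [heq] at ht
  have : m ∣ ∑ d ∈ D.filter (fun d => p ∣ d), s d := by
    rw [← ht] at hmn
    exact (Nat.dvd_add_left hf).mp hmn
  exact dvd_trans hqm this

/-- list version of `total` -/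
theorem total_list (h : NSE n s) (L : List ℕ) (hL : L.Nodup) (hD : ∀ d, s d ≠ 0 → d ∈ L) :
    (L.map s).sum = n := by
  have := h.total L.toFinset (fun d hd => List.mem_toFinset.mpr (hD d hd))
  rwa [List.sum_toFinset s hL] at this

/-- list version of `compl` -/
theorem compl_list (h : NSE n s) {p q : ℕ} (hp : p.Prime) (hq : q ∣ n) (hqp : Nat.Coprime q p)
    (L : List ℕ) (hL : L.Nodup) (hD : ∀ d, s d ≠ 0 → d ∈ L) :
    q ∣ ((L.filter (fun d => p ∣ d)).map s).sum := by
  have := h.compl hp hq hqp L.toFinset (fun d hd => List.mem_toFinset.mpr (hD d hd))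
  have heq : L.toFinset.filter (fun d => p ∣ d) = (L.filter (fun d => p ∣ d)).toFinset := by
    ext d
    simp
  rwa [heq, List.sum_toFinset s (hL.filter _)] at this

end NSE

/-- divisibility from prime power divisibility -/
theorem dvd_of_forall_prime_pow {d M : ℕ} (hd : d ≠ 0) (hM : M ≠ 0)
    (h : ∀ p k, p.Prime → p ^ k ∣ d → p ^ k ∣ M) : d ∣ M := by
  rw [← Nat.factorization_le_iff_dvd hd hM]
  intro p
  by_cases hp : p.Prime
  · rw [← Nat.Prime.pow_dvd_iff_le_factorization hp hM]
    exact h p _ hp (Nat.ordProj_dvd d p)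
  · rw [Nat.factorization_eq_zero_of_not_prime d hp]
    exact Nat.zero_le _

theorem pp_dvd {p e k M d : ℕ} (hk : p ^ k ∣ d) (hne : ¬ p ^ (e + 1) ∣ d) (hM : p ^ e ∣ M) :
    p ^ k ∣ M := by
  have hke : k ≤ e := by
    by_contra hlt
    push_neg at hlt
    exact hne (dvd_trans (pow_dvd_pow p hlt) hk)
  exact dvd_trans (pow_dvd_pow p hke) hM

end Cfsg.Agent.Lib.Helper71.Nse
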