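import Mathlib
import Cfsg.Agent.Lib.Helper71.NseBasic

/-!
# Numbers of elements of each order in `A₄, A₅, A₆` (helper71, for S3431)
-/

namespace Cfsg.Agent.Lib.Helper71.Nse

open Finset Equiv

section generic

variable {α : Type*} [Fintype α] [DecidableEq α]

/-- If the cycle types in `T` already account for all elements of the alternating group, then the
number of elements of order `m` is obtained by summing over the cycle types with lcm `m`. -/
theorem alt_cnt (T : Finset (Multiset ℕ))
    (hsum : ∑ τ ∈ T, #{g : alternatingGroup α | (g : Perm α).cycleType = τ}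
      = Fintype.card (alternatingGroup α)) (m : ℕ) :
    cnt (alternatingGroup α) m
      = ∑ τ ∈ T, if τ.lcm = m then #{g : alternatingGroup α | (g : Perm α).cycleType = τ} else 0 := by
  classical
  -- every element has its cycle type in `T`
  have hcover : ∀ g : alternatingGroup α, (g : Perm α).cycleType ∈ T := by
    have hcard : #(T.biUnion (fun τ => ({g : alternatingGroup α | (g : Perm α).cycleType = τ} :
        Finset (alternatingGroup α)))) = Fintype.card (alternatingGroup α) := by
      rw [Finset.card_biUnion, hsum]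
      intro τ _ τ' _ hne
      change Disjoint _ _
      rw [Finset.disjoint_left]
      intro g hg hg'
      simp only [Finset.mem_filter, Finset.mem_univ, true_and] at hg hg'
      exact hne (hg.symm.trans hg')
    have huniv := Finset.eq_univ_of_card _ hcard
    intro g
    have hg : g ∈ T.biUnion (fun τ => ({g : alternatingGroup α | (g : Perm α).cycleType = τ} :
        Finset (alternatingGroup α))) := by
      rw [huniv]; exact Finset.mem_univ g
    rw [Finset.mem_biUnion] at hg
    obtain ⟨τ, hτ, hgτ⟩ := hg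
    simp only [Finset.mem_filter, Finset.mem_univ, true_and] at hgτ
    rw [hgτ]; exact hτ
  rw [cnt_eq_card_filter]
  rw [Finset.card_eq_sum_card_fiberwise (f := fun g : alternatingGroup α => (g : Perm α).cycleType)
    (t := T) (fun g _ => Finset.mem_coe.mpr (hcover g))]
  apply Finset.sum_congr rfl
  intro τ _
  split_ifs with hl
  · congr 1
    ext g
    simp only [Finset.mem_filter, Finset.mem_univ, true_and]
    constructor
    · rintro ⟨_, h2⟩; exact h2
    · intro h2
      refine ⟨?_, h2⟩
      rw [← Subgroup.orderOf_coe, ← Equiv.Perm.lcm_cycleType, h2, hl]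
  · rw [Finset.card_eq_zero, Finset.filter_eq_empty_iff]
    intro g hg1 hg2
    simp only [Finset.mem_filter, Finset.mem_univ, true_and] at hg1
    apply hl
    rw [← hg2, Equiv.Perm.lcm_cycleType, Subgroup.orderOf_coe, hg1]

end generic

theorem card_alt (k : ℕ) : 2 * Fintype.card (alternatingGroup (Fin k)) = k.factorial ∨ k < 2 := by
  rcases Nat.lt_or_ge k 2 with hk | hk
  · exact Or.inr hk
  · left
    have : Nontrivial (Fin k) := Fin.nontrivial_iff_two_le.mpr hk
    rw [two_mul_card_alternatingGroup, Fintype.card_perm, Fintype.card_fin]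

/-- closed formula for the number of even permutations of `Fin N` of cycle type `τ` -/
def ccount (N : ℕ) (τ : Multiset ℕ) : ℕ :=
  if (τ.sum ≤ N ∧ ∀ a ∈ τ, 2 ≤ a) ∧ Even (τ.sum + Multiset.card τ) then
    N.factorial / ((N - τ.sum).factorial * (τ.prod * ∏ n ∈ τ.toFinset, (τ.count n).factorial))
  else 0

theorem card_ct (N : ℕ) (τ : Multiset ℕ) :
    #{g : alternatingGroup (Fin N) | (g : Perm (Fin N)).cycleType = τ} = ccount N τ := by
  rw [AlternatingGroup.card_of_cycleType, Fintype.card_fin]
  rfl

theorem alt_cnt' (N : ℕ) (T : Finset (Multiset ℕ))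
    (hsum : ∑ τ ∈ T, ccount N τ = Fintype.card (alternatingGroup (Fin N))) (m : ℕ) :
    cnt (alternatingGroup (Fin N)) m = ∑ τ ∈ T, if τ.lcm = m then ccount N τ else 0 := by
  rw [alt_cnt T (by simp only [card_ct]; exact hsum)]
  simp only [card_ct]

theorem cnt_alt4 (m : ℕ) : cnt (alternatingGroup (Fin 4)) m
    = if m = 1 then 1 else if m = 2 then 3 else if m = 3 then 8 else 0 := by
  have hc : Fintype.card (alternatingGroup (Fin 4)) = 12 := by
    rcases card_alt 4 with h | h
    · have : Nat.factorial 4 = 24 := by decide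
      omega
    · omega
  rw [alt_cnt' 4 ({0, {3}, {2, 2}} : Finset (Multiset ℕ)) (by rw [hc]; decide)]
  rw [Finset.sum_insert (by decide), Finset.sum_insert (by decide), Finset.sum_singleton]
  rw [show ((0 : Multiset ℕ).lcm) = 1 by decide, show (({3} : Multiset ℕ).lcm) = 3 by decide,
    show (({2, 2} : Multiset ℕ).lcm) = 2 by decide,
    show ccount 4 0 = 1 by decide, show ccount 4 {3} = 8 by decide,
    show ccount 4 {2, 2} = 3 by decide]
  by_cases h1 : m = 1
  · subst h1; simp
  by_cases h2 : m = 2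
  · subst h2; simp
  by_cases h3 : m = 3
  · subst h3; simp
  simp [h1, h2, h3, Ne.symm h1, Ne.symm h2, Ne.symm h3]

theorem cnt_alt5 (m : ℕ) : cnt (alternatingGroup (Fin 5)) m
    = if m = 1 then 1 else if m = 2 then 15 else if m = 3 then 20 else if m = 5 then 24 else 0 := by
  have hc : Fintype.card (alternatingGroup (Fin 5)) = 60 := by
    rcases card_alt 5 with h | h
    · have : Nat.factorial 5 = 120 := by decide
      omega
    · omega
  rw [alt_cnt' 5 ({0, {3}, {2, 2}, {5}} : Finset (Multiset ℕ)) (by rw [hc]; decide)]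
  rw [Finset.sum_insert (by decide), Finset.sum_insert (by decide), Finset.sum_insert (by decide),
    Finset.sum_singleton]
  rw [show ((0 : Multiset ℕ).lcm) = 1 by decide, show (({3} : Multiset ℕ).lcm) = 3 by decide,
    show (({2, 2} : Multiset ℕ).lcm) = 2 by decide, show (({5} : Multiset ℕ).lcm) = 5 by decide,
    show ccount 5 0 = 1 by decide, show ccount 5 {3} = 20 by decide,
    show ccount 5 {2, 2} = 15 by decide, show ccount 5 {5} = 24 by decide]
  by_cases h1 : m = 1
  · subst h1; simp
  by_cases h2 : m = 2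
  · subst h2; simp
  by_cases h3 : m = 3
  · subst h3; simp
  by_cases h5 : m = 5
  · subst h5; simp
  simp [h1, h2, h3, h5, Ne.symm h1, Ne.symm h2, Ne.symm h3, Ne.symm h5]

theorem cnt_alt6 (m : ℕ) : cnt (alternatingGroup (Fin 6)) m
    = if m = 1 then 1 else if m = 2 then 45 else if m = 3 then 80 else if m = 4 then 90
      else if m = 5 then 144 else 0 := by
  have hc : Fintype.card (alternatingGroup (Fin 6)) = 360 := by
    rcases card_alt 6 with h | h
    · have : Nat.factorial 6 = 720 := by decide
      omega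
    · omega
  rw [alt_cnt' 6 ({0, {3}, {3, 3}, {2, 2}, {5}, {4, 2}} : Finset (Multiset ℕ))
    (by rw [hc]; decide)]
  rw [Finset.sum_insert (by decide), Finset.sum_insert (by decide), Finset.sum_insert (by decide),
    Finset.sum_insert (by decide), Finset.sum_insert (by decide), Finset.sum_singleton]
  rw [show ((0 : Multiset ℕ).lcm) = 1 by decide, show (({3} : Multiset ℕ).lcm) = 3 by decide,
    show (({3, 3} : Multiset ℕ).lcm) = 3 by decide,
    show (({2, 2} : Multiset ℕ).lcm) = 2 by decide, show (({5} : Multiset ℕ).lcm) = 5 by decide,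
    show (({4, 2} : Multiset ℕ).lcm) = 4 by decide,
    show ccount 6 0 = 1 by decide, show ccount 6 {3} = 40 by decide,
    show ccount 6 {3, 3} = 40 by decide,
    show ccount 6 {2, 2} = 45 by decide, show ccount 6 {5} = 144 by decide,
    show ccount 6 {4, 2} = 90 by decide]
  by_cases h1 : m = 1
  · subst h1; simp
  by_cases h2 : m = 2
  · subst h2; simp
  by_cases h3 : m = 3
  · subst h3; simp
  by_cases h4 : m = 4
  · subst h4; simp
  by_cases h5 : m = 5
  · subst h5; simp
  simp [h1, h2, h3, h4, h5, Ne.symm h1, Ne.symm h2, Ne.symm h3, Ne.symm h4, Ne.symm h5]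

/-- the set `nse(G)` as in the statement of S3431 -/
theorem nse_image_eq (G : Type*) [Group G] [Finite G] :
    ((fun m : ℕ => Nat.card {g : G // orderOf g = m}) '' Set.range (orderOf : G → ℕ))
      = {v | ∃ m, cnt G m ≠ 0 ∧ cnt G m = v} := by
  ext v
  simp only [Set.mem_image, Set.mem_range, Set.mem_setOf_eq]
  constructor
  · rintro ⟨m, ⟨g, hg⟩, rfl⟩
    exact ⟨m, (cnt_ne_zero_iff G m).mpr ⟨g, hg⟩, rfl⟩
  · rintro ⟨m, hm, rfl⟩
    obtain ⟨g, hg⟩ := (cnt_ne_zero_iff G m).mp hm
    exact ⟨m, ⟨g, hg⟩, rfl⟩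

theorem nse_alt4 : {v | ∃ m, cnt (alternatingGroup (Fin 4)) m ≠ 0 ∧
    cnt (alternatingGroup (Fin 4)) m = v} = ({1, 3, 8} : Set ℕ) := by
  ext v
  simp only [Set.mem_setOf_eq, Set.mem_insert_iff, Set.mem_singleton_iff, cnt_alt4]
  constructor
  · rintro ⟨m, hm, rfl⟩
    split_ifs at hm ⊢ <;> simp_all
  · rintro (rfl | rfl | rfl)
    · exact ⟨1, by simp⟩
    · exact ⟨2, by simp⟩
    · exact ⟨3, by simp⟩

theorem nse_alt5 : {v | ∃ m, cnt (alternatingGroup (Fin 5)) m ≠ 0 ∧
    cnt (alternatingGroup (Fin 5)) m = v} = ({1, 15, 20, 24} : Set ℕ) := by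
  ext v
  simp only [Set.mem_setOf_eq, Set.mem_insert_iff, Set.mem_singleton_iff, cnt_alt5]
  constructor
  · rintro ⟨m, hm, rfl⟩
    split_ifs at hm ⊢ <;> simp_all
  · rintro (rfl | rfl | rfl | rfl)
    · exact ⟨1, by simp⟩
    · exact ⟨2, by simp⟩
    · exact ⟨3, by simp⟩
    · exact ⟨5, by simp⟩

theorem nse_alt6 : {v | ∃ m, cnt (alternatingGroup (Fin 6)) m ≠ 0 ∧
    cnt (alternatingGroup (Fin 6)) m = v} = ({1, 45, 80, 90, 144} : Set ℕ) := by
  ext v
  simp only [Set.mem_setOf_eq, Set.mem_insert_iff, Set.mem_singleton_iff, cnt_alt6]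
  constructor
  · rintro ⟨m, hm, rfl⟩
    split_ifs at hm ⊢ <;> simp_all
  · rintro (rfl | rfl | rfl | rfl | rfl)
    · exact ⟨1, by simp⟩
    · exact ⟨2, by simp⟩
    · exact ⟨3, by simp⟩
    · exact ⟨4, by simp⟩
    · exact ⟨5, by simp⟩

end Cfsg.Agent.Lib.Helper71.Nse
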