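import Mathlib
import Cfsg.Agent.Lib.Helper71.NseBasic
import Cfsg.Agent.Lib.Helper14.FCRecogB
import Cfsg.Agent.S0494
import Cfsg.Agent.S0497

/-!
# Identification of `A₄, A₅, A₆` from the numbers of elements of each order (helper71, S3431)
-/

namespace Cfsg.Agent.Lib.Helper71.Nse

open Finset

section tools

variable {G : Type*} [Group G]

/-- an element whose order is prime to the index of a normal subgroup lies in it -/
theorem mem_of_coprime_index [Finite G] (H : Subgroup G) [H.Normal] (x : G)
    (hx : (orderOf x).Coprime H.index) : x ∈ H := by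
  have h1 : orderOf (QuotientGroup.mk' H x) ∣ orderOf x := orderOf_map_dvd _ x
  have h2 : orderOf (QuotientGroup.mk' H x) ∣ H.index := by
    rw [Subgroup.index_eq_card]
    exact orderOf_dvd_natCard _
  have h3 : orderOf (QuotientGroup.mk' H x) = 1 :=
    Nat.eq_one_of_dvd_coprimes hx h1 h2
  rw [orderOf_eq_one_iff] at h3
  exact (QuotientGroup.eq_one_iff x).mp h3

/-- counting fixed points of conjugation by an element of prime order -/
theorem card_modEq_one_of_conj (x : G) (p : ℕ) [Fact p.Prime] (hx : x ^ p = 1) (S : Finset G)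
    (h1 : (1 : G) ∈ S) (hS : ∀ y ∈ S, x * y * x⁻¹ ∈ S)
    (hfix : ∀ y ∈ S, x * y * x⁻¹ = y → y = 1) : S.card % p = 1 := by
  classical
  let f : Function.End S := fun y => ⟨x * y * x⁻¹, hS y y.2⟩
  have hpow : ∀ k : ℕ, ∀ y : S, (((f ^ k) y : S) : G) = x ^ k * y * (x ^ k)⁻¹ := by
    intro k
    induction k with
    | zero =>
      intro y
      rw [pow_zero]
      change ((y : S) : G) = _
      simp
    | succ k ih =>
      intro y
      rw [pow_succ', Function.End.mul_def]
      change x * ((f ^ k) y : G) * x⁻¹ = _
      rw [ih, pow_succ']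
      group
  have hfp : f ^ p ^ 1 = 1 := by
    funext y
    apply Subtype.ext
    rw [pow_one, hpow, hx]
    change _ = ((y : S) : G)
    simp
  have hmod := Equiv.Perm.card_fixedPoints_modEq (f := f) (p := p) (n := 1) hfp
  have hfixcard : Fintype.card (Function.fixedPoints f) = 1 := by
    rw [Fintype.card_eq_one_iff]
    refine ⟨⟨⟨1, h1⟩, ?_⟩, ?_⟩
    · change f ⟨1, h1⟩ = ⟨1, h1⟩
      apply Subtype.ext
      change x * 1 * x⁻¹ = 1
      simp
    · rintro ⟨y, hy⟩
      apply Subtype.ext
      apply Subtype.ext
      have : f y = y := hy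
      have h2 : x * (y : G) * x⁻¹ = y := congrArg Subtype.val this
      exact hfix y y.2 h2
  rw [hfixcard, Fintype.card_coe] at hmod
  have hp1 : 1 < p := (Fact.out : p.Prime).one_lt
  rw [Nat.ModEq, Nat.mod_eq_of_lt hp1] at hmod
  exact hmod

variable [Finite G]

/-- a subgroup containing all elements whose order lies in `D` has at least that many elements -/
theorem sum_cnt_le_card (H : Subgroup G) (D : Finset ℕ) (hD : ∀ g : G, orderOf g ∈ D → g ∈ H) :
    ∑ d ∈ D, cnt G d ≤ Nat.card H := by
  classical
  have := Fintype.ofFinite G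
  have h1 := sum_cnt_of_support G (fun g : G => orderOf g ∈ D) D (fun g hg => hg)
  have h2 : ∑ d ∈ D, cnt G d = ∑ d ∈ D, (univ.filter (fun g : G => orderOf g ∈ D ∧ orderOf g = d)).card := by
    apply Finset.sum_congr rfl
    intro d hd
    rw [cnt_eq_card_filter]
    congr 1
    ext g
    simp only [Finset.mem_filter, Finset.mem_univ, true_and]
    constructor
    · intro h; exact ⟨h ▸ hd, h⟩
    · intro h; exact h.2
  rw [h2, h1, Nat.card_eq_fintype_card, Fintype.card_subtype]
  apply Finset.card_le_card
  intro g hg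
  simp only [Finset.mem_filter, Finset.mem_univ, true_and] at hg ⊢
  exact hD g hg

theorem orderOf_dvd_card_of_mem (H : Subgroup G) {y : G} (hy : y ∈ H) : orderOf y ∣ Nat.card H := by
  have := orderOf_dvd_natCard (⟨y, hy⟩ : H)
  rwa [← Subgroup.orderOf_coe] at this

/-- `x` of prime order `p`, `H` normal of order prime to `p`, and no element of order `p * r`
with `r > 1` dividing `|H|` : then `|H| ≡ 1 mod p`. -/
theorem card_normal_mod (H : Subgroup G) [H.Normal] (x : G) (p : ℕ) [Fact p.Prime]
    (hx : orderOf x = p) (hp : ¬ p ∣ Nat.card H)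
    (hno : ∀ r, 1 < r → cnt G (p * r) = 0) : Nat.card H % p = 1 := by
  classical
  have := Fintype.ofFinite G
  have hpp : p.Prime := Fact.out
  have key := card_modEq_one_of_conj x p (hx ▸ pow_orderOf_eq_one x)
    (univ.filter (fun g : G => g ∈ H)) (by simp [H.one_mem])
    (by
      intro y hy
      simp only [Finset.mem_filter, Finset.mem_univ, true_and] at hy ⊢
      exact ‹H.Normal›.conj_mem y hy x)
    (by
      intro y hy hfix
      simp only [Finset.mem_filter, Finset.mem_univ, true_and] at hy
      have hcomm : Commute x y := by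
        have : x * y = y * x := by
          calc x * y = x * y * x⁻¹ * x := by group
            _ = y * x := by rw [hfix]
        exact this
      have hdvd := orderOf_dvd_card_of_mem H hy
      have hcop : (orderOf x).Coprime (orderOf y) := by
        rw [hx, Nat.Prime.coprime_iff_not_dvd hpp]
        exact fun h => hp (dvd_trans h hdvd)
      have hord := hcomm.orderOf_mul_eq_mul_orderOf_of_coprime hcop
      rw [hx] at hord
      by_contra hy1
      have hr : 1 < orderOf y := by
        have h0 : 0 < orderOf y := orderOf_pos y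
        have h1 : orderOf y ≠ 1 := fun h => hy1 (orderOf_eq_one_iff.mp h)
        omega
      have := hno (orderOf y) hr
      exact (cnt_ne_zero_iff G _).mpr ⟨x * y, hord⟩ this)
  rwa [Nat.card_eq_fintype_card, Fintype.card_subtype]

end tools

/-! ### `A₄` -/

theorem iso_alt4_of_counts (G : Type*) [Group G] [Finite G] (hn : Nat.card G = 12)
    (h3 : cnt G 3 = 8) (hsp : ∀ d, cnt G d ≠ 0 → d = 1 ∨ d = 2 ∨ d = 3) :
    Nonempty (G ≃* alternatingGroup (Fin 4)) := by
  classical
  have := Fintype.ofFinite G
  have hord : ∀ g : G, orderOf g = 1 ∨ orderOf g = 2 ∨ orderOf g = 3 :=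
    fun g => hsp _ ((cnt_ne_zero_iff G _).mpr ⟨g, rfl⟩)
  obtain ⟨P⟩ : Nonempty (Sylow 2 G) := inferInstance
  -- order of P
  have hP4 : Nat.card P = 4 := by
    obtain ⟨k, hk⟩ := IsPGroup.iff_card.mp P.isPGroup'
    have hidx := Subgroup.card_mul_index (P : Subgroup G)
    have hnd : ¬ 2 ∣ (P : Subgroup G).index := P.not_dvd_index
    rw [hn] at hidx
    have hk' : Nat.card (P : Subgroup G) = 2 ^ k := hk
    rw [hk'] at hidx
    have hk3 : k ≤ 3 := by
      by_contra hlt
      push_neg at hlt
      have : 2 ^ 4 ≤ 2 ^ k := Nat.pow_le_pow_right (by norm_num) hlt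
      have hpos : 0 < (P : Subgroup G).index := Nat.pos_of_ne_zero (by
        intro h0; rw [h0] at hidx; omega)
      nlinarith
    change Nat.card (P : Subgroup G) = 4
    rw [hk']
    interval_cases k <;> omega
  -- elements of order ≠ 3
  have hU : (univ.filter (fun g : G => ¬ orderOf g = 3)).card = 4 := by
    have h1 : (univ.filter (fun g : G => orderOf g = 3)).card = 8 := by
      rw [← cnt_eq_card_filter, h3]
    have h2 := Finset.card_filter_add_card_filter_not (s := (univ : Finset G))
      (fun g : G => orderOf g = 3)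
    rw [Finset.card_univ, ← Nat.card_eq_fintype_card, hn, h1] at h2
    omega
  have hPsub : (univ.filter (fun g : G => g ∈ (P : Subgroup G))) ⊆
      (univ.filter (fun g : G => ¬ orderOf g = 3)) := by
    intro g hg
    simp only [Finset.mem_filter, Finset.mem_univ, true_and] at hg ⊢
    intro h3'
    have := orderOf_dvd_card_of_mem (P : Subgroup G) hg
    rw [h3', hP4] at this
    omega
  have hPcard : (univ.filter (fun g : G => g ∈ (P : Subgroup G))).card = 4 := by
    rw [← Fintype.card_subtype, ← Nat.card_eq_fintype_card]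
    exact hP4
  have hPeq := Finset.eq_of_subset_of_card_le hPsub (by rw [hU, hPcard])
  have hmem : ∀ g : G, g ∈ (P : Subgroup G) ↔ orderOf g ≠ 3 := by
    intro g
    have := Finset.ext_iff.mp hPeq g
    simpa using this
  -- normality
  have hnormal : (P : Subgroup G).Normal := by
    constructor
    intro y hy g
    rw [hmem] at hy ⊢
    have : orderOf (g * y * g⁻¹) = orderOf y := by
      have := (MulAut.conj g).orderOf_eq y
      simpa [MulAut.conj_apply] using this
    rwa [this]
  -- exponent two
  have hexp : ∀ v ∈ (P : Subgroup G), v * v = 1 := by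
    intro v hv
    have h3' := (hmem v).mp hv
    have hd : orderOf v ∣ 2 := by
      rcases hord v with h | h | h
      · rw [h]; norm_num
      · rw [h]
      · exact absurd h h3'
    rw [← pow_two]
    exact orderOf_dvd_iff_pow_eq_one.mp hd
  -- self-centralizing
  have hcent : Subgroup.centralizer ((P : Subgroup G) : Set G) ≤ (P : Subgroup G) := by
    intro c hc
    rw [hmem]
    intro hc3
    -- a nontrivial element of P
    have hnt : ∃ v : G, v ∈ (P : Subgroup G) ∧ v ≠ 1 := by
      by_contra hno
      push_neg at hno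
      have : (P : Subgroup G) = ⊥ := by
        rw [Subgroup.eq_bot_iff_forall]
        exact hno
      rw [this] at hP4
      simp at hP4
    obtain ⟨v, hv, hv1⟩ := hnt
    have hv2 : orderOf v = 2 := by
      have h3' := (hmem v).mp hv
      rcases hord v with h | h | h
      · exact absurd (orderOf_eq_one_iff.mp h) hv1
      · exact h
      · exact absurd h h3'
    have hcomm : Commute c v := by
      have := Subgroup.mem_centralizer_iff.mp hc v hv
      exact this.symm
    have hcop : (orderOf c).Coprime (orderOf v) := by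
      rw [hc3, hv2]; decide
    have h6 := hcomm.orderOf_mul_eq_mul_orderOf_of_coprime hcop
    rw [hc3, hv2] at h6
    rcases hord (c * v) with h | h | h <;> omega
  have h8 : Nat.card G ≠ 8 := by omega
  rcases Cfsg.Agent.Lib.Helper14.recog_v4_a4_s4 (P : Subgroup G) hP4 hexp hcent h8 with
    ⟨⟨e⟩⟩ | h | ⟨⟨e⟩⟩
  · have := Nat.card_congr e.toEquiv
    rw [hn, Nat.card_eq_fintype_card, DihedralGroup.card] at this
    omega
  · exact h
  · have := Nat.card_congr e.toEquiv
    rw [hn, Nat.card_eq_fintype_card, Fintype.card_perm, Fintype.card_fin] at this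
    have : Nat.factorial 4 = 24 := by decide
    omega

/-! ### Simplicity from the counts -/

section simple

variable (G : Type*) [Group G] [Finite G]

theorem not_dvd_index_of {H : Subgroup G} {p q : ℕ} (hq : q ∣ Nat.card H)
    (hnot : ¬ q * p ∣ Nat.card G) : ¬ p ∣ H.index := by
  intro hp
  apply hnot
  rw [← Subgroup.card_mul_index H]
  exact Nat.mul_dvd_mul hq hp

theorem mem_of_orderOf_prime {H : Subgroup G} [H.Normal] {p q : ℕ} (hp : p.Prime)
    (hq : q ∣ Nat.card H) (hnot : ¬ q * p ∣ Nat.card G) {g : G} (hg : orderOf g = p) : g ∈ H := by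
  apply mem_of_coprime_index H g
  rw [hg, Nat.Prime.coprime_iff_not_dvd hp]
  exact not_dvd_index_of G hq hnot

theorem simple_of_counts60 (hn : Nat.card G = 60) (h3 : cnt G 3 = 20) (h5 : cnt G 5 = 24)
    (hsp : ∀ d, cnt G d ≠ 0 → d = 1 ∨ d = 2 ∨ d = 3 ∨ d = 5) : IsSimpleGroup G := by
  classical
  have hnt : Nontrivial G := by
    rw [← Finite.one_lt_card_iff_nontrivial]; omega
  have hone : cnt G 1 = 1 := (nse_of_group G).one
  obtain ⟨x5, hx5⟩ := (cnt_ne_zero_iff G 5).mp (by omega)
  have hno : ∀ r, 1 < r → cnt G (5 * r) = 0 := by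
    intro r hr
    by_contra h0
    rcases hsp _ h0 with h | h | h | h <;> omega
  refine { toNontrivial := hnt, eq_bot_or_eq_top_of_normal := ?_ }
  intro H hH
  have hidx := Subgroup.card_mul_index H
  rw [hn] at hidx
  have hdvd : Nat.card H ∣ 60 := ⟨H.index, hidx.symm⟩
  have hA : 5 ∣ Nat.card H → ∀ g : G, orderOf g = 5 → g ∈ H := fun h5h g hg =>
    mem_of_orderOf_prime G Nat.prime_five h5h (by rw [hn]; decide) hg
  have hB : 3 ∣ Nat.card H → ∀ g : G, orderOf g = 3 → g ∈ H := fun h3h g hg =>
    mem_of_orderOf_prime G Nat.prime_three h3h (by rw [hn]; decide) hg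
  haveI : Fact (Nat.Prime 5) := ⟨Nat.prime_five⟩
  have hC : ¬ 5 ∣ Nat.card H → Nat.card H % 5 = 1 := fun h5h =>
    card_normal_mod H x5 5 hx5 h5h hno
  have h1mem : ∀ g : G, orderOf g = 1 → g ∈ H := fun g hg => by
    rw [orderOf_eq_one_iff.mp hg]; exact H.one_mem
  have b5 : 5 ∣ Nat.card H → 25 ≤ Nat.card H := by
    intro h5h
    have := sum_cnt_le_card H {1, 5} (by
      intro g hg
      simp only [Finset.mem_insert, Finset.mem_singleton] at hg
      rcases hg with hg | hg
      · exact h1mem g hg
      · exact hA h5h g hg)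
    rw [Finset.sum_insert (by decide), Finset.sum_singleton, hone, h5] at this
    omega
  have b3 : 3 ∣ Nat.card H → 21 ≤ Nat.card H := by
    intro h3h
    have := sum_cnt_le_card H {1, 3} (by
      intro g hg
      simp only [Finset.mem_insert, Finset.mem_singleton] at hg
      rcases hg with hg | hg
      · exact h1mem g hg
      · exact hB h3h g hg)
    rw [Finset.sum_insert (by decide), Finset.sum_singleton, hone, h3] at this
    omega
  have b35 : 5 ∣ Nat.card H → 3 ∣ Nat.card H → 45 ≤ Nat.card H := by
    intro h5h h3h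
    have := sum_cnt_le_card H {1, 3, 5} (by
      intro g hg
      simp only [Finset.mem_insert, Finset.mem_singleton] at hg
      rcases hg with hg | hg | hg
      · exact h1mem g hg
      · exact hB h3h g hg
      · exact hA h5h g hg)
    rw [Finset.sum_insert (by decide), Finset.sum_insert (by decide), Finset.sum_singleton,
      hone, h3, h5] at this
    omega
  have hmem : Nat.card H ∈ Nat.divisors 60 := Nat.mem_divisors.mpr ⟨hdvd, by norm_num⟩
  simp only [Nat.divisors_ofNat, Finset.mem_insert, Finset.mem_singleton] at hmem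
  have hfin : Nat.card H = 1 ∨ Nat.card H = 60 := by
    rcases hmem with h | h | h | h | h | h | h | h | h | h | h | h <;> rw [h] at b5 b3 b35 hC <;>
      first
        | (left; exact h)
        | (right; exact h)
        | (exfalso; revert b5 b3 b35 hC; decide)
  rcases hfin with h | h
  · left; exact Subgroup.card_eq_one.mp h
  · right
    rw [← hn] at h
    exact (Subgroup.card_eq_iff_eq_top H).mp h

theorem simple_of_counts360 (hn : Nat.card G = 360) (h3 : cnt G 3 = 80) (h5 : cnt G 5 = 144)
    (hsp : ∀ d, cnt G d ≠ 0 → d = 1 ∨ d = 2 ∨ d = 3 ∨ d = 4 ∨ d = 5) : IsSimpleGroup G := by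
  classical
  have := Fintype.ofFinite G
  have hnt : Nontrivial G := by
    rw [← Finite.one_lt_card_iff_nontrivial]; omega
  have hone : cnt G 1 = 1 := (nse_of_group G).one
  obtain ⟨x5, hx5⟩ := (cnt_ne_zero_iff G 5).mp (by omega)
  have hno : ∀ r, 1 < r → cnt G (5 * r) = 0 := by
    intro r hr
    by_contra h0
    rcases hsp _ h0 with h | h | h | h | h <;> omega
  refine { toNontrivial := hnt, eq_bot_or_eq_top_of_normal := ?_ }
  intro H hH
  have hidx := Subgroup.card_mul_index H
  rw [hn] at hidx
  have hdvd : Nat.card H ∣ 360 := ⟨H.index, hidx.symm⟩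
  have hA : 5 ∣ Nat.card H → ∀ g : G, orderOf g = 5 → g ∈ H := fun h5h g hg =>
    mem_of_orderOf_prime G Nat.prime_five h5h (by rw [hn]; decide) hg
  have hB : 9 ∣ Nat.card H → ∀ g : G, orderOf g = 3 → g ∈ H := fun h3h g hg =>
    mem_of_orderOf_prime G Nat.prime_three h3h (by rw [hn]; decide) hg
  haveI : Fact (Nat.Prime 5) := ⟨Nat.prime_five⟩
  have hC : ¬ 5 ∣ Nat.card H → Nat.card H % 5 = 1 := fun h5h =>
    card_normal_mod H x5 5 hx5 h5h hno
  have h1mem : ∀ g : G, orderOf g = 1 → g ∈ H := fun g hg => by
    rw [orderOf_eq_one_iff.mp hg]; exact H.one_mem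
  have b5 : 5 ∣ Nat.card H → 145 ≤ Nat.card H := by
    intro h5h
    have := sum_cnt_le_card H {1, 5} (by
      intro g hg
      simp only [Finset.mem_insert, Finset.mem_singleton] at hg
      rcases hg with hg | hg
      · exact h1mem g hg
      · exact hA h5h g hg)
    rw [Finset.sum_insert (by decide), Finset.sum_singleton, hone, h5] at this
    omega
  have b3 : 9 ∣ Nat.card H → 81 ≤ Nat.card H := by
    intro h3h
    have := sum_cnt_le_card H {1, 3} (by
      intro g hg
      simp only [Finset.mem_insert, Finset.mem_singleton] at hg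
      rcases hg with hg | hg
      · exact h1mem g hg
      · exact hB h3h g hg)
    rw [Finset.sum_insert (by decide), Finset.sum_singleton, hone, h3] at this
    omega
  have b35 : 5 ∣ Nat.card H → 9 ∣ Nat.card H → 225 ≤ Nat.card H := by
    intro h5h h3h
    have := sum_cnt_le_card H {1, 3, 5} (by
      intro g hg
      simp only [Finset.mem_insert, Finset.mem_singleton] at hg
      rcases hg with hg | hg | hg
      · exact h1mem g hg
      · exact hB h3h g hg
      · exact hA h5h g hg)
    rw [Finset.sum_insert (by decide), Finset.sum_insert (by decide), Finset.sum_singleton,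
      hone, h3, h5] at this
    omega
  -- the order 6 case
  have h6 : Nat.card H ≠ 6 := by
    intro h6
    set S : Finset G := univ.filter (fun y : G => y ∈ H ∧ y ^ 3 = 1) with hS
    have hS1 : (1 : G) ∈ S := by simp [hS, H.one_mem]
    have key := card_modEq_one_of_conj x5 5 (hx5 ▸ pow_orderOf_eq_one x5) S hS1
      (by
        intro y hy
        simp only [hS, Finset.mem_filter, Finset.mem_univ, true_and] at hy ⊢
        refine ⟨hH.conj_mem y hy.1 x5, ?_⟩
        rw [conj_pow, hy.2]
        group)
      (by
        intro y hy hfix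
        simp only [hS, Finset.mem_filter, Finset.mem_univ, true_and] at hy
        have hcomm : Commute x5 y := by
          have : x5 * y = y * x5 := by
            calc x5 * y = x5 * y * x5⁻¹ * x5 := by group
              _ = y * x5 := by rw [hfix]
          exact this
        have hdvd3 : orderOf y ∣ 3 := orderOf_dvd_of_pow_eq_one hy.2
        have hcop : (orderOf x5).Coprime (orderOf y) := by
          rw [hx5]
          exact Nat.Coprime.coprime_dvd_right hdvd3 (by decide)
        have hord := hcomm.orderOf_mul_eq_mul_orderOf_of_coprime hcop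
        rw [hx5] at hord
        by_contra hy1
        have hr : 1 < orderOf y := by
          have h0 : 0 < orderOf y := orderOf_pos y
          have h1 : orderOf y ≠ 1 := fun h => hy1 (orderOf_eq_one_iff.mp h)
          omega
        exact (cnt_ne_zero_iff G _).mpr ⟨x5 * y, hord⟩ (hno (orderOf y) hr))
    have hSsub : S ⊆ univ.filter (fun y : G => y ∈ H) := by
      intro y hy
      simp only [hS, Finset.mem_filter, Finset.mem_univ, true_and] at hy ⊢
      exact hy.1
    have hHcard : (univ.filter (fun y : G => y ∈ H)).card = 6 := by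
      rw [← Fintype.card_subtype, ← Nat.card_eq_fintype_card]
      exact h6
    have hSle : S.card ≤ 6 := hHcard ▸ Finset.card_le_card hSsub
    -- an element of order 3 in H
    haveI : Fact (Nat.Prime 3) := ⟨Nat.prime_three⟩
    haveI : Fact (Nat.Prime 2) := ⟨Nat.prime_two⟩
    obtain ⟨y, hy⟩ := exists_prime_orderOf_dvd_card' (G := H) 3 (by rw [h6]; decide)
    have hyS : (y : G) ∈ S := by
      simp only [hS, Finset.mem_filter, Finset.mem_univ, true_and]
      refine ⟨y.2, ?_⟩
      have : y ^ 3 = 1 := hy ▸ pow_orderOf_eq_one y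
      have h2 := congrArg Subtype.val this
      simpa using h2
    have hy1 : (y : G) ≠ 1 := by
      intro h
      have : y = 1 := Subtype.ext h
      rw [this, orderOf_one] at hy
      omega
    have hS2 : 1 < S.card := Finset.one_lt_card.mpr ⟨1, hS1, y, hyS, fun h => hy1 h.symm⟩
    have hS6 : S.card = 6 := by omega
    have hSeq := Finset.eq_of_subset_of_card_le hSsub (by rw [hHcard, hS6])
    obtain ⟨z, hz⟩ := exists_prime_orderOf_dvd_card' (G := H) 2 (by rw [h6]; decide)
    have hzS : (z : G) ∈ S := by
      rw [hSeq]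
      simp
    simp only [hS, Finset.mem_filter, Finset.mem_univ, true_and] at hzS
    have hz3 : orderOf (z : G) ∣ 3 := orderOf_dvd_of_pow_eq_one hzS.2
    rw [Subgroup.orderOf_coe, hz] at hz3
    omega
  have hmem : Nat.card H ∈ Nat.divisors 360 := Nat.mem_divisors.mpr ⟨hdvd, by norm_num⟩
  simp only [Nat.divisors_ofNat, Finset.mem_insert, Finset.mem_singleton] at hmem
  have hfin : Nat.card H = 1 ∨ Nat.card H = 360 := by
    rcases hmem with h | h | h | h | h | h | h | h | h | h | h | h | h | h | h | h | h | h | h | h |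
      h | h | h | h <;> rw [h] at b5 b3 b35 hC h6 <;>
      first
        | (left; exact h)
        | (right; exact h)
        | (exfalso; revert b5 b3 b35 hC h6; decide)
  rcases hfin with h | h
  · left; exact Subgroup.card_eq_one.mp h
  · right
    rw [← hn] at h
    exact (Subgroup.card_eq_iff_eq_top H).mp h

end simple

theorem iso_alt5_of_counts (G : Type*) [Group G] [Finite G] (hn : Nat.card G = 60)
    (h3 : cnt G 3 = 20) (h5 : cnt G 5 = 24)
    (hsp : ∀ d, cnt G d ≠ 0 → d = 1 ∨ d = 2 ∨ d = 3 ∨ d = 5) :
    Nonempty (G ≃* alternatingGroup (Fin 5)) := by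
  haveI := simple_of_counts60 G hn h3 h5 hsp
  exact Cfsg.Agent.S0494.result hn

theorem iso_alt6_of_counts (G : Type*) [Group G] [Finite G] (hn : Nat.card G = 360)
    (h3 : cnt G 3 = 80) (h5 : cnt G 5 = 144)
    (hsp : ∀ d, cnt G d ≠ 0 → d = 1 ∨ d = 2 ∨ d = 3 ∨ d = 4 ∨ d = 5) :
    Nonempty (G ≃* alternatingGroup (Fin 6)) := by
  haveI := simple_of_counts360 G hn h3 h5 hsp
  exact Cfsg.Agent.S0497.result hn

end Cfsg.Agent.Lib.Helper71.Nse
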