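import Mathlib
import Cfsg.Agent.Lib.Helper71.NseBasic

/-!
# The numeric puzzle for `nse = {1, 3, 8}` (helper71, for S3431)
-/

namespace Cfsg.Agent.Lib.Helper71.Nse

open Finset

namespace NSE

variable {n : ℕ} {s : ℕ → ℕ}

/-- an odd value different from `1` can only be the number of involutions -/
theorem two_of_odd_value (h : NSE n s) {v : ℕ} (hv : ¬ 2 ∣ v) (hv1 : v ≠ 1) (hv0 : v ≠ 0)
    (hex : ∃ d, s d = v) : s 2 = v := by
  obtain ⟨d, hd⟩ := hex
  rcases Nat.lt_or_ge 2 d with h2 | h2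
  · exact absurd (hd ▸ h.even_of_two_lt h2) hv
  · interval_cases d
    · rw [h.s_zero] at hd; exact absurd hd.symm hv0
    · rw [h.one] at hd; exact absurd hd.symm hv1
    · exact hd

theorem prime_dvd_succ (h : NSE n s) {p : ℕ} (hp : p.Prime) (hs : s p ≠ 0) : p ∣ 1 + s p := by
  have := h.frob_prime hp (h.supp p hs)
  rwa [h.one] at this

end NSE

/-- a disjunction of values, kept opaque so that `omega` does not see it -/
def Val (x : ℕ) (L : List ℕ) : Prop := x ∈ L

theorem Val.elim1 {x a : ℕ} (h : Val x [a]) : x = a := by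
  simpa [Val] using h

theorem Val.elim2 {x a b : ℕ} (h : Val x [a, b]) : x = a ∨ x = b := by
  simpa [Val] using h

theorem Val.elim3 {x a b c : ℕ} (h : Val x [a, b, c]) : x = a ∨ x = b ∨ x = c := by
  simpa [Val] using h

theorem Val.elim4 {x a b c d : ℕ} (h : Val x [a, b, c, d]) : x = a ∨ x = b ∨ x = c ∨ x = d := by
  simpa [Val] using h

theorem Val.intro2 {x a b : ℕ} (h : x = a ∨ x = b) : Val x [a, b] := by
  simpa [Val] using h

theorem Val.intro3 {x a b c : ℕ} (h : x = a ∨ x = b ∨ x = c) : Val x [a, b, c] := by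
  simpa [Val] using h

theorem Val.intro4 {x a b c d : ℕ} (h : x = a ∨ x = b ∨ x = c ∨ x = d) : Val x [a, b, c, d] := by
  simpa [Val] using h

theorem puzzle4 {n : ℕ} {s : ℕ → ℕ} (h : NSE n s)
    (hV : ∀ d, s d ≠ 0 → s d = 1 ∨ s d = 3 ∨ s d = 8)
    (h3 : ∃ d, s d = 3) (h8 : ∃ d, s d = 8) :
    n = 12 ∧ s 3 = 8 ∧ ∀ d, s d ≠ 0 → d = 1 ∨ d = 2 ∨ d = 3 := by
  have hs1 := h.one
  have hs2 : s 2 = 3 := h.two_of_odd_value (by decide) (by decide) (by decide) h3
  have h2n : 2 ∣ n := h.supp 2 (by omega)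
  -- values for d ≥ 3
  have hbig : ∀ d, 2 < d → s d = 0 ∨ s d = 8 := by
    intro d hd
    have he := h.even_of_two_lt hd
    by_cases h0 : s d = 0
    · exact Or.inl h0
    · rcases hV d h0 with h1 | h1 | h1 <;> omega
  -- primes
  have hprime : ∀ p, p.Prime → s p ≠ 0 → p = 2 ∨ p = 3 := by
    intro p hp hsp
    by_contra hne
    push_neg at hne
    have hp2 : 2 < p := by
      have := hp.two_le
      omega
    have h8' : s p = 8 := by
      rcases hbig p hp2 with h0 | h0
      · exact absurd h0 hsp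
      · exact h0
    have hdvd := h.prime_dvd_succ hp hsp
    rw [h8'] at hdvd
    have : p ∣ 3 ^ 2 := by simpa using hdvd
    have := (Nat.prime_dvd_prime_iff_eq hp Nat.prime_three).mp (hp.dvd_of_dvd_pow this)
    exact hne.2 this
  have h9 : s 9 = 0 := by
    have := h.tot 9
    rw [show Nat.totient 9 = 6 by decide] at this
    rcases hbig 9 (by norm_num) with h0 | h0 <;> omega
  have h3v : s 3 = 0 ∨ s 3 = 8 := hbig 3 (by norm_num)
  have h4v : s 4 = 0 ∨ s 4 = 8 := hbig 4 (by norm_num)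
  have h8z : s 8 = 0 := by
    by_contra h0
    have h8v : s 8 = 8 := by
      rcases hbig 8 (by norm_num) with h1 | h1
      · exact absurd h1 h0
      · exact h1
    have h4 : s 4 ≠ 0 := h.clo 8 4 (by norm_num) h0
    have hf := h.frob 8 (h.supp 8 h0)
    simp [Nat.divisors_ofNat] at hf
    omega
  have h6z : s 6 = 0 := by
    by_contra h0
    have h6v : s 6 = 8 := by
      rcases hbig 6 (by norm_num) with h1 | h1
      · exact absurd h1 h0
      · exact h1
    have h3' : s 3 ≠ 0 := h.clo 6 3 (by norm_num) h0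
    have hf := h.frob 6 (h.supp 6 h0)
    simp [Nat.divisors_ofNat] at hf
    omega
  -- support
  have hsupp : ∀ d, s d ≠ 0 → d ∈ ({1, 2, 3, 4} : Finset ℕ) := by
    intro d hd
    have hd0 : d ≠ 0 := by
      rintro rfl
      exact hd h.s_zero
    have hd12 : d ∣ 12 := by
      apply dvd_of_forall_prime_pow hd0 (by norm_num)
      intro p k hp hpk
      rcases Nat.eq_zero_or_pos k with rfl | hk
      · simp
      have hpd : p ∣ d := dvd_trans (dvd_pow_self p hk.ne') hpk
      rcases hprime p hp (h.clo d p hpd hd) with rfl | rfl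
      · exact pp_dvd (e := 2) hpk (fun h8 => hd (h.zero_of_zero h8 h8z)) (by norm_num)
      · exact pp_dvd (e := 1) hpk (fun h9' => hd (h.zero_of_zero h9' h9)) (by norm_num)
    have h6 : ¬ 6 ∣ d := fun h6 => hd (h.zero_of_zero h6 h6z)
    have hmem : d ∈ Nat.divisors 12 := Nat.mem_divisors.mpr ⟨hd12, by norm_num⟩
    simp only [Nat.divisors_ofNat, Finset.mem_insert, Finset.mem_singleton] at hmem ⊢
    rcases hmem with rfl | rfl | rfl | rfl | rfl | rfl <;> simp_all
  have htot := h.total _ hsupp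
  simp at htot
  have hfinal : ∀ d, s d ≠ 0 → d = 1 ∨ d = 2 ∨ d = 3 ∨ d = 4 := by
    intro d hd
    simpa using hsupp d hd
  -- s 4 = 0
  have h4z : s 4 = 0 := by
    by_contra h0
    have h4n : 4 ∣ n := h.supp 4 h0
    rcases h3v with h3' | h3'
    · have : 3 ∣ n := by omega
      exact h.cauchy 3 Nat.prime_three this h3'
    · have : 3 ∣ n := h.supp 3 (by omega)
      omega
  obtain ⟨d, hd⟩ := h8
  have hd3 : d = 3 := by
    rcases hfinal d (by omega) with rfl | rfl | rfl | rfl <;> omega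
  subst hd3
  refine ⟨by omega, hd, ?_⟩
  intro d hd'
  rcases hfinal d hd' with rfl | rfl | rfl | rfl
  · exact Or.inl rfl
  · exact Or.inr (Or.inl rfl)
  · exact Or.inr (Or.inr rfl)
  · exact absurd h4z hd'

end Cfsg.Agent.Lib.Helper71.Nse
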