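import Mathlib
import Cfsg.Agent.Lib.Helper71.NsePuzzle4

/-!
# The numeric puzzle for `nse = {1, 15, 20, 24}` (helper71, for S3431)
-/

namespace Cfsg.Agent.Lib.Helper71.Nse

open Finset

set_option maxHeartbeats 1000000 in
theorem puzzle5 {n : ℕ} {s : ℕ → ℕ} (h : NSE n s)
    (hV : ∀ d, s d ≠ 0 → s d = 1 ∨ s d = 15 ∨ s d = 20 ∨ s d = 24)
    (h15 : ∃ d, s d = 15) (h20 : ∃ d, s d = 20) (h24 : ∃ d, s d = 24) :
    n = 60 ∧ s 2 = 15 ∧ s 3 = 20 ∧ s 5 = 24 ∧
      ∀ d, s d ≠ 0 → d = 1 ∨ d = 2 ∨ d = 3 ∨ d = 5 := by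
  have hs1 := h.one
  have hs2 : s 2 = 15 := h.two_of_odd_value (by decide) (by decide) (by decide) h15
  have h2n : 2 ∣ n := h.supp 2 (by omega)
  have hbig : ∀ d, 2 < d → Val (s d) [0, 20, 24] := by
    intro d hd
    have he := h.even_of_two_lt hd
    apply Val.intro3
    by_cases h0 : s d = 0
    · exact Or.inl h0
    · rcases hV d h0 with h1 | h1 | h1 | h1 <;> omega
  -- primes
  have hprime : ∀ p, p.Prime → s p ≠ 0 → p = 2 ∨ p = 3 ∨ p = 5 := by
    intro p hp hsp
    by_contra hne
    push_neg at hne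
    have hp2 : 2 < p := by
      have := hp.two_le
      omega
    have hdvd := h.prime_dvd_succ hp hsp
    rcases (hbig p hp2).elim3 with h0 | h0 | h0
    · exact hsp h0
    · rw [h0] at hdvd
      have h37 : p ∣ 3 * 7 := by simpa using hdvd
      rcases (Nat.Prime.dvd_mul hp).mp h37 with h3 | h7
      · exact hne.2.1 ((Nat.prime_dvd_prime_iff_eq hp Nat.prime_three).mp h3)
      · have hp7 : p = 7 := (Nat.prime_dvd_prime_iff_eq hp (by norm_num)).mp h7
        subst hp7
        have := h.tot 7
        rw [show Nat.totient 7 = 6 by decide, h0] at this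
        omega
    · rw [h0] at hdvd
      have h55 : p ∣ 5 ^ 2 := by simpa using hdvd
      exact hne.2.2 ((Nat.prime_dvd_prime_iff_eq hp Nat.prime_five).mp (hp.dvd_of_dvd_pow h55))
  have h3v : Val (s 3) [0, 20] := by
    apply Val.intro2
    rcases (hbig 3 (by norm_num)).elim3 with h0 | h0 | h0
    · exact Or.inl h0
    · exact Or.inr h0
    · have := h.prime_dvd_succ Nat.prime_three (by omega)
      omega
  have h5v : Val (s 5) [0, 24] := by
    apply Val.intro2
    rcases (hbig 5 (by norm_num)).elim3 with h0 | h0 | h0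
    · exact Or.inl h0
    · have := h.prime_dvd_succ Nat.prime_five (by omega)
      omega
    · exact Or.inr h0
  -- totient based values
  have hT : ∀ d, 2 < d → ¬ d.totient ∣ 20 → Val (s d) [0, 24] := by
    intro d hd ht
    apply Val.intro2
    rcases (hbig d hd).elim3 with h0 | h0 | h0
    · exact Or.inl h0
    · exact absurd (h0 ▸ h.tot d) ht
    · exact Or.inr h0
  have hT0 : ∀ d, 2 < d → ¬ d.totient ∣ 20 → ¬ d.totient ∣ 24 → s d = 0 := by
    intro d hd ht ht'
    rcases (hT d hd ht).elim2 with h0 | h0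
    · exact h0
    · exact absurd (h0 ▸ h.tot d) ht'
  have z27 : s 27 = 0 := hT0 27 (by norm_num) (by decide) (by decide)
  have z32 : s 32 = 0 := hT0 32 (by norm_num) (by decide) (by decide)
  have z48 : s 48 = 0 := hT0 48 (by norm_num) (by decide) (by decide)
  have v9 : Val (s 9) [0, 24] := hT 9 (by norm_num) (by decide)
  have v18 : Val (s 18) [0, 24] := hT 18 (by norm_num) (by decide)
  have v36 : Val (s 36) [0, 24] := hT 36 (by norm_num) (by decide)
  have v72 : Val (s 72) [0, 24] := hT 72 (by norm_num) (by decide)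
  have v24 : Val (s 24) [0, 24] := hT 24 (by norm_num) (by decide)
  have v16 : Val (s 16) [0, 24] := hT 16 (by norm_num) (by decide)
  have v4 := hbig 4 (by norm_num)
  have v8 := hbig 8 (by norm_num)
  have z25 : s 25 = 0 := by
    by_contra h0
    have h5' : s 5 ≠ 0 := h.clo 25 5 (by norm_num) h0
    have hf := h.frob 25 (h.supp 25 h0)
    simp [Nat.divisors_ofNat] at hf
    have ht := h.tot 25
    rw [show Nat.totient 25 = 20 by decide] at ht
    rcases h5v.elim2 with h5 | h5
    · exact h5' h5
    rcases (hbig 25 (by norm_num)).elim3 with h1 | h1 | h1 <;> omega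
  have z15 : s 15 = 0 := by
    by_contra h0
    have h5' : s 5 ≠ 0 := h.clo 15 5 (by norm_num) h0
    have h3' : s 3 ≠ 0 := h.clo 15 3 (by norm_num) h0
    have hf := h.frob 15 (h.supp 15 h0)
    simp [Nat.divisors_ofNat] at hf
    rcases h5v.elim2 with h5 | h5
    · exact h5' h5
    rcases h3v.elim2 with h3 | h3
    · exact h3' h3
    rcases (hT 15 (by norm_num) (by decide)).elim2 with h1 | h1 <;> omega
  have v10 : Val (s 10) [0, 20] := by
    apply Val.intro2
    by_cases h0 : s 10 = 0
    · exact Or.inl h0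
    have h5' : s 5 ≠ 0 := h.clo 10 5 (by norm_num) h0
    have hf := h.frob 10 (h.supp 10 h0)
    simp [Nat.divisors_ofNat] at hf
    rcases h5v.elim2 with h5 | h5
    · exact absurd h5 h5'
    rcases (hbig 10 (by norm_num)).elim3 with h1 | h1 | h1 <;> omega
  have z20 : s 20 = 0 := by
    by_contra h0
    have h10' : s 10 ≠ 0 := h.clo 20 10 (by norm_num) h0
    have h5' : s 5 ≠ 0 := h.clo 20 5 (by norm_num) h0
    have h4' : s 4 ≠ 0 := h.clo 20 4 (by norm_num) h0
    have hf := h.frob 20 (h.supp 20 h0)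
    simp [Nat.divisors_ofNat] at hf
    rcases h5v.elim2 with h5 | h5
    · exact h5' h5
    rcases v10.elim2 with h10 | h10
    · exact h10' h10
    rcases v4.elim3 with h4 | h4 | h4
    · exact h4' h4
    all_goals rcases (hT 20 (by norm_num) (by decide)).elim2 with h1 | h1 <;> omega
  have v6 : Val (s 6) [0, 24] := by
    apply Val.intro2
    by_cases h0 : s 6 = 0
    · exact Or.inl h0
    have h3' : s 3 ≠ 0 := h.clo 6 3 (by norm_num) h0
    have hf := h.frob 6 (h.supp 6 h0)
    simp [Nat.divisors_ofNat] at hf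
    rcases h3v.elim2 with h3 | h3
    · exact absurd h3 h3'
    rcases (hbig 6 (by norm_num)).elim3 with h1 | h1 | h1 <;> omega
  have v12 : Val (s 12) [0, 24] := by
    apply Val.intro2
    by_cases h0 : s 12 = 0
    · exact Or.inl h0
    have h3' : s 3 ≠ 0 := h.clo 12 3 (by norm_num) h0
    have h6' : s 6 ≠ 0 := h.clo 12 6 (by norm_num) h0
    have h4' : s 4 ≠ 0 := h.clo 12 4 (by norm_num) h0
    have hf := h.frob 12 (h.supp 12 h0)
    simp [Nat.divisors_ofNat] at hf
    rcases h3v.elim2 with h3 | h3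
    · exact absurd h3 h3'
    rcases v6.elim2 with h6 | h6
    · exact absurd h6 h6'
    rcases v4.elim3 with h4 | h4 | h4
    · exact absurd h4 h4'
    all_goals rcases (hbig 12 (by norm_num)).elim3 with h1 | h1 | h1 <;> omega
  -- support
  have hsupp : ∀ d, s d ≠ 0 →
      d ∈ ({1, 2, 3, 4, 5, 6, 8, 9, 10, 12, 16, 18, 24, 36, 72} : Finset ℕ) := by
    intro d hd
    have hd0 : d ≠ 0 := by
      rintro rfl
      exact hd h.s_zero
    have hd720 : d ∣ 720 := by
      apply dvd_of_forall_prime_pow hd0 (by norm_num)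
      intro p k hp hpk
      rcases Nat.eq_zero_or_pos k with rfl | hk
      · simp
      have hpd : p ∣ d := dvd_trans (dvd_pow_self p hk.ne') hpk
      rcases hprime p hp (h.clo d p hpd hd) with rfl | rfl | rfl
      · exact pp_dvd (e := 4) hpk (fun h8 => hd (h.zero_of_zero h8 z32)) (by norm_num)
      · exact pp_dvd (e := 2) hpk (fun h9' => hd (h.zero_of_zero h9' z27)) (by norm_num)
      · exact pp_dvd (e := 1) hpk (fun h9' => hd (h.zero_of_zero h9' z25)) (by norm_num)
    have h15' : ¬ 15 ∣ d := fun h6 => hd (h.zero_of_zero h6 z15)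
    have h20' : ¬ 20 ∣ d := fun h6 => hd (h.zero_of_zero h6 z20)
    have h48' : ¬ 48 ∣ d := fun h6 => hd (h.zero_of_zero h6 z48)
    have hmem : d ∈ Nat.divisors 720 := Nat.mem_divisors.mpr ⟨hd720, by norm_num⟩
    simp only [Nat.divisors_ofNat, Finset.mem_insert, Finset.mem_singleton] at hmem ⊢
    clear hd hd720 hd0
    omega
  have htot := h.total _ hsupp
  simp at htot
  have hfinal : ∀ d, s d ≠ 0 → d = 1 ∨ d = 2 ∨ d = 3 ∨ d = 4 ∨ d = 5 ∨ d = 6 ∨ d = 8 ∨ d = 9 ∨
      d = 10 ∨ d = 12 ∨ d = 16 ∨ d = 18 ∨ d = 24 ∨ d = 36 ∨ d = 72 := by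
    intro d hd
    simpa using hsupp d hd
  -- lower bound
  obtain ⟨d20, hd20⟩ := h20
  obtain ⟨d24, hd24⟩ := h24
  have hn60 : 60 ≤ n := by
    have := h.list_sum_le [1, 2, d20, d24] (by simp [hs1, hs2, hd20, hd24])
    simpa [hs1, hs2, hd20, hd24] using this
  -- prime divisors of n
  have hpn : ∀ p, p.Prime → p ∣ n → p = 2 ∨ p = 3 ∨ p = 5 :=
    fun p hp hpn => hprime p hp (h.cauchy p hp hpn)
  have hn0 : n ≠ 0 := h.pos.ne'
  -- complement sums
  have hC5 : ∀ q, q ∣ n → Nat.Coprime q 5 → q ∣ s 5 + s 10 := by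
    intro q hq hq5
    have := h.compl Nat.prime_five hq hq5 _ hsupp
    rw [show (({1, 2, 3, 4, 5, 6, 8, 9, 10, 12, 16, 18, 24, 36, 72} : Finset ℕ).filter
      (fun d => 5 ∣ d)) = {5, 10} by decide] at this
    simpa using this
  have hC3 : ∀ q, q ∣ n → Nat.Coprime q 3 →
      q ∣ s 3 + (s 6 + (s 9 + (s 12 + (s 18 + (s 24 + (s 36 + s 72)))))) := by
    intro q hq hq3
    have := h.compl Nat.prime_three hq hq3 _ hsupp
    rw [show (({1, 2, 3, 4, 5, 6, 8, 9, 10, 12, 16, 18, 24, 36, 72} : Finset ℕ).filter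
      (fun d => 3 ∣ d)) = {3, 6, 9, 12, 18, 24, 36, 72} by decide] at this
    simpa using this
  -- the sum over multiples of 3 is 4 mod 8 when s 3 = 20
  have hB : s 3 = 20 → (s 3 + (s 6 + (s 9 + (s 12 + (s 18 + (s 24 + (s 36 + s 72))))))) % 8 = 4 := by
    intro h3
    have key : ∀ x, Val x [0, 24] → x % 8 = 0 := by
      intro x hx
      rcases hx.elim2 with h0 | h0 <;> omega
    have := key _ v6
    have := key _ v9
    have := key _ v12
    have := key _ v18
    have := key _ v24
    have := key _ v36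
    have := key _ v72
    omega
  have h27 : ¬ 27 ∣ n := by
    intro h27
    have hf := h.frob 27 h27
    simp [Nat.divisors_ofNat] at hf
    rcases h3v.elim2 with h3 | h3 <;> rcases v9.elim2 with h9 | h9 <;> omega
  by_cases h5n : 5 ∣ n
  · -- 5 ∣ n
    have hs5 : s 5 = 24 := by
      have := h.cauchy 5 Nat.prime_five h5n
      rcases h5v.elim2 with h5 | h5
      · exact absurd h5 this
      · exact h5
    have h9 : ¬ 9 ∣ n := by
      intro h9
      have := hC5 9 h9 (by decide)
      rcases v10.elim2 with h10 | h10 <;> omega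
    have h16 : ¬ 16 ∣ n := by
      intro h16
      have := hC5 16 h16 (by decide)
      rcases v10.elim2 with h10 | h10 <;> omega
    have h25 : ¬ 25 ∣ n := by
      intro h25
      have h50 : 50 ∣ n := by omega
      have hf := h.frob 50 h50
      simp [Nat.divisors_ofNat] at hf
      have z50 : s 50 = 0 := h.zero_of_zero (by norm_num : 25 ∣ 50) z25
      rcases v10.elim2 with h10 | h10 <;> omega
    rcases v10.elim2 with h10 | h10
    · -- s 10 = 0
      have hn120 : n ∣ 120 := by
        apply dvd_of_forall_prime_pow hn0 (by norm_num)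
        intro p k hp hpk
        rcases Nat.eq_zero_or_pos k with rfl | hk
        · simp
        have hpd : p ∣ n := dvd_trans (dvd_pow_self p hk.ne') hpk
        rcases hpn p hp hpd with rfl | rfl | rfl
        · exact pp_dvd (e := 3) hpk h16 (by norm_num)
        · exact pp_dvd (e := 1) hpk h9 (by norm_num)
        · exact pp_dvd (e := 1) hpk h25 (by norm_num)
      have hmem : n ∈ Nat.divisors 120 := Nat.mem_divisors.mpr ⟨hn120, by norm_num⟩
      simp only [Nat.divisors_ofNat, Finset.mem_insert, Finset.mem_singleton] at hmem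
      have hn' : n = 60 ∨ n = 120 := by
        rcases hmem with h' | h' | h' | h' | h' | h' | h' | h' | h' | h' | h' | h' | h' | h' |
          h' | h' <;> omega
      have h3n : 3 ∣ n := by omega
      have hs3 : s 3 = 20 := by
        have := h.cauchy 3 Nat.prime_three h3n
        rcases h3v.elim2 with h3 | h3
        · exact absurd h3 this
        · exact h3
      rcases hn' with hn' | hn'
      · -- n = 60
        refine ⟨hn', hs2, hs3, hs5, ?_⟩
        intro d hd
        rcases hfinal d hd with rfl | rfl | rfl | rfl | rfl | rfl | rfl | rfl | rfl | rfl | rfl |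
          rfl | rfl | rfl | rfl <;> omega
      · -- n = 120
        have := hC3 8 (by omega) (by decide)
        have := hB hs3
        omega
    · -- s 10 = 20
      have h3 : ¬ 3 ∣ n := by
        intro h3
        have := hC5 3 h3 (by decide)
        omega
      have h8 : ¬ 8 ∣ n := by
        intro h8
        have := hC5 8 h8 (by decide)
        omega
      have hn20 : n ∣ 20 := by
        apply dvd_of_forall_prime_pow hn0 (by norm_num)
        intro p k hp hpk
        rcases Nat.eq_zero_or_pos k with rfl | hk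
        · simp
        have hpd : p ∣ n := dvd_trans (dvd_pow_self p hk.ne') hpk
        rcases hpn p hp hpd with rfl | rfl | rfl
        · exact pp_dvd (e := 2) hpk h8 (by norm_num)
        · exact pp_dvd (e := 0) hpk h3 (by norm_num)
        · exact pp_dvd (e := 1) hpk h25 (by norm_num)
      have := Nat.le_of_dvd (by norm_num) hn20
      omega
  · -- ¬ 5 ∣ n
    have hs5 : s 5 = 0 := h.zero_of_not_dvd h5n
    have hs10 : s 10 = 0 := h.zero_of_zero (by norm_num : 5 ∣ 10) hs5
    by_cases h3n : 3 ∣ n
    · have hs3 : s 3 = 20 := by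
        have := h.cauchy 3 Nat.prime_three h3n
        rcases h3v.elim2 with h3 | h3
        · exact absurd h3 this
        · exact h3
      have h8 : ¬ 8 ∣ n := by
        intro h8
        have := hC3 8 h8 (by decide)
        have := hB hs3
        omega
      have hn36 : n ∣ 36 := by
        apply dvd_of_forall_prime_pow hn0 (by norm_num)
        intro p k hp hpk
        rcases Nat.eq_zero_or_pos k with rfl | hk
        · simp
        have hpd : p ∣ n := dvd_trans (dvd_pow_self p hk.ne') hpk
        rcases hpn p hp hpd with rfl | rfl | rfl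
        · exact pp_dvd (e := 2) hpk h8 (by norm_num)
        · exact pp_dvd (e := 2) hpk h27 (by norm_num)
        · exact absurd hpd h5n
      have := Nat.le_of_dvd (by norm_num) hn36
      omega
    · have hs3 : s 3 = 0 := h.zero_of_not_dvd h3n
      have z6 : s 6 = 0 := h.zero_of_zero (by norm_num : 3 ∣ 6) hs3
      have z9 : s 9 = 0 := h.zero_of_zero (by norm_num : 3 ∣ 9) hs3
      have z12 : s 12 = 0 := h.zero_of_zero (by norm_num : 3 ∣ 12) hs3
      have z18 : s 18 = 0 := h.zero_of_zero (by norm_num : 3 ∣ 18) hs3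
      have z24 : s 24 = 0 := h.zero_of_zero (by norm_num : 3 ∣ 24) hs3
      have z36 : s 36 = 0 := h.zero_of_zero (by norm_num : 3 ∣ 36) hs3
      have z72 : s 72 = 0 := h.zero_of_zero (by norm_num : 3 ∣ 72) hs3
      have e20 : s 4 = 20 ∨ s 8 = 20 := by
        rcases v16.elim2 with h16 | h16 <;>
        rcases hfinal d20 (by omega) with rfl | rfl | rfl | rfl | rfl | rfl | rfl | rfl | rfl |
          rfl | rfl | rfl | rfl | rfl | rfl <;> omega
      have e24 : s 4 = 24 ∨ s 8 = 24 ∨ s 16 = 24 := by
        rcases hfinal d24 (by omega) with rfl | rfl | rfl | rfl | rfl | rfl | rfl | rfl | rfl |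
          rfl | rfl | rfl | rfl | rfl | rfl <;> omega
      have c48 : s 4 = 0 → s 8 = 0 := fun h0 => h.zero_of_zero (by norm_num) h0
      have c816 : s 8 = 0 → s 16 = 0 := fun h0 => h.zero_of_zero (by norm_num) h0
      rcases v4.elim3 with h4 | h4 | h4 <;> rcases v8.elim3 with h8 | h8 | h8 <;>
        rcases v16.elim2 with h16 | h16 <;> omega

end Cfsg.Agent.Lib.Helper71.Nse
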