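import Mathlib
import Cfsg.Agent.Lib.Helper71.NsePuzzle4

/-!
# The numeric puzzle for `nse = {1, 45, 80, 90, 144}` (helper71, for S3431)
-/

namespace Cfsg.Agent.Lib.Helper71.Nse

open Finset

set_option maxHeartbeats 4000000 in
theorem puzzle6 {n : ℕ} {s : ℕ → ℕ} (h : NSE n s)
    (hV : ∀ d, s d ≠ 0 → s d = 1 ∨ s d = 45 ∨ s d = 80 ∨ s d = 90 ∨ s d = 144)
    (h45 : ∃ d, s d = 45) (h80 : ∃ d, s d = 80) (h90 : ∃ d, s d = 90) (h144 : ∃ d, s d = 144) :
    n = 360 ∧ s 2 = 45 ∧ s 3 = 80 ∧ s 4 = 90 ∧ s 5 = 144 ∧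
      ∀ d, s d ≠ 0 → d = 1 ∨ d = 2 ∨ d = 3 ∨ d = 4 ∨ d = 5 := by
  have hs1 := h.one
  have hs2 : s 2 = 45 := h.two_of_odd_value (by decide) (by decide) (by decide) h45
  have h2n : 2 ∣ n := h.supp 2 (by omega)
  have hn0 : n ≠ 0 := h.pos.ne'
  have hbig : ∀ d, 2 < d → Val (s d) [0, 80, 90, 144] := by
    intro d hd
    have he := h.even_of_two_lt hd
    apply Val.intro4
    by_cases h0 : s d = 0
    · exact Or.inl h0
    · rcases hV d h0 with h1 | h1 | h1 | h1 | h1 <;> omega
  -- primes
  have hprime : ∀ p, p.Prime → s p ≠ 0 → p = 2 ∨ p = 3 ∨ p = 5 ∨ p = 7 := by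
    intro p hp hsp
    by_contra hne
    push_neg at hne
    have hp2 : 2 < p := by
      have := hp.two_le
      omega
    have hdvd := h.prime_dvd_succ hp hsp
    rcases (hbig p hp2).elim4 with h0 | h0 | h0 | h0
    · exact hsp h0
    · rw [h0] at hdvd
      have h34 : p ∣ 3 ^ 4 := by simpa using hdvd
      exact hne.2.1 ((Nat.prime_dvd_prime_iff_eq hp Nat.prime_three).mp (hp.dvd_of_dvd_pow h34))
    · rw [h0] at hdvd
      have h713 : p ∣ 7 * 13 := by simpa using hdvd
      rcases (Nat.Prime.dvd_mul hp).mp h713 with h7 | h13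
      · exact hne.2.2.2 ((Nat.prime_dvd_prime_iff_eq hp (by norm_num)).mp h7)
      · have hp13 : p = 13 := (Nat.prime_dvd_prime_iff_eq hp (by norm_num)).mp h13
        subst hp13
        have := h.tot 13
        rw [show Nat.totient 13 = 12 by decide, h0] at this
        omega
    · rw [h0] at hdvd
      have h529 : p ∣ 5 * 29 := by simpa using hdvd
      rcases (Nat.Prime.dvd_mul hp).mp h529 with h5 | h29
      · exact hne.2.2.1 ((Nat.prime_dvd_prime_iff_eq hp Nat.prime_five).mp h5)
      · have hp29 : p = 29 := (Nat.prime_dvd_prime_iff_eq hp (by norm_num)).mp h29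
        subst hp29
        have := h.tot 29
        rw [show Nat.totient 29 = 28 by decide, h0] at this
        omega
  have h3v : Val (s 3) [0, 80] := by
    apply Val.intro2
    by_cases h0 : s 3 = 0
    · exact Or.inl h0
    have := h.prime_dvd_succ Nat.prime_three h0
    rcases (hbig 3 (by norm_num)).elim4 with h1 | h1 | h1 | h1 <;> omega
  have h5v : Val (s 5) [0, 144] := by
    apply Val.intro2
    by_cases h0 : s 5 = 0
    · exact Or.inl h0
    have := h.prime_dvd_succ Nat.prime_five h0
    rcases (hbig 5 (by norm_num)).elim4 with h1 | h1 | h1 | h1 <;> omega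
  have h7v : Val (s 7) [0, 90] := by
    apply Val.intro2
    by_cases h0 : s 7 = 0
    · exact Or.inl h0
    have := h.prime_dvd_succ (by norm_num : Nat.Prime 7) h0
    rcases (hbig 7 (by norm_num)).elim4 with h1 | h1 | h1 | h1 <;> omega
  have hs3 : 3 ∣ n → s 3 = 80 := by
    intro h3
    have := h.cauchy 3 Nat.prime_three h3
    rcases h3v.elim2 with h1 | h1
    · exact absurd h1 this
    · exact h1
  have hs5 : 5 ∣ n → s 5 = 144 := by
    intro h3
    have := h.cauchy 5 Nat.prime_five h3
    rcases h5v.elim2 with h1 | h1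
    · exact absurd h1 this
    · exact h1
  have hs7 : 7 ∣ n → s 7 = 90 := by
    intro h3
    have := h.cauchy 7 (by norm_num) h3
    rcases h7v.elim2 with h1 | h1
    · exact absurd h1 this
    · exact h1
  have hs4 : 4 ∣ n → s 4 = 90 := by
    intro h4
    have hf := h.frob 4 h4
    simp [Nat.divisors_ofNat] at hf
    rcases (hbig 4 (by norm_num)).elim4 with h1 | h1 | h1 | h1 <;> omega
  -- lower bound
  obtain ⟨d80, hd80⟩ := h80
  obtain ⟨d90, hd90⟩ := h90
  obtain ⟨d144, hd144⟩ := h144
  have hn360 : 360 ≤ n := by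
    have := h.list_sum_le [1, 2, d80, d90, d144] (by simp [hs1, hs2, hd80, hd90, hd144])
    simpa [hs1, hs2, hd80, hd90, hd144] using this
  -- totient based values
  have hT80 : ∀ d, 2 < d → ¬ d.totient ∣ 80 → Val (s d) [0, 90, 144] := by
    intro d hd ht
    apply Val.intro3
    rcases (hbig d hd).elim4 with h0 | h0 | h0 | h0
    · exact Or.inl h0
    · exact absurd (h0 ▸ h.tot d) ht
    · exact Or.inr (Or.inl h0)
    · exact Or.inr (Or.inr h0)
  have hT90 : ∀ d, 2 < d → ¬ d.totient ∣ 90 → Val (s d) [0, 80, 144] := by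
    intro d hd ht
    apply Val.intro3
    rcases (hbig d hd).elim4 with h0 | h0 | h0 | h0
    · exact Or.inl h0
    · exact Or.inr (Or.inl h0)
    · exact absurd (h0 ▸ h.tot d) ht
    · exact Or.inr (Or.inr h0)
  have hT8090 : ∀ d, 2 < d → ¬ d.totient ∣ 80 → ¬ d.totient ∣ 90 → Val (s d) [0, 144] := by
    intro d hd ht ht'
    apply Val.intro2
    rcases (hT80 d hd ht).elim3 with h0 | h0 | h0
    · exact Or.inl h0
    · exact absurd (h0 ▸ h.tot d) ht'
    · exact Or.inr h0
  have hT0 : ∀ d, 2 < d → ¬ d.totient ∣ 80 → ¬ d.totient ∣ 90 → ¬ d.totient ∣ 144 → s d = 0 := by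
    intro d hd ht ht' ht''
    rcases (hT8090 d hd ht ht').elim2 with h0 | h0
    · exact h0
    · exact absurd (h0 ▸ h.tot d) ht''
  have v6 := hbig 6 (by norm_num)
  have v9 : Val (s 9) [0, 90, 144] := hT80 9 (by norm_num) (by decide)
  have v27 : Val (s 27) [0, 90, 144] := hT80 27 (by norm_num) (by decide)
  have v8 : Val (s 8) [0, 80, 144] := hT90 8 (by norm_num) (by decide)
  have v16 : Val (s 16) [0, 80, 144] := hT90 16 (by norm_num) (by decide)
  have v20 : Val (s 20) [0, 80, 144] := hT90 20 (by norm_num) (by decide)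
  have v40 : Val (s 40) [0, 80, 144] := hT90 40 (by norm_num) (by decide)
  have v15 : Val (s 15) [0, 80, 144] := hT90 15 (by norm_num) (by decide)
  -- 27 ∣ n forces s 9 = 0
  have F27 : 27 ∣ n → s 9 = 0 := by
    intro h27
    have hf := h.frob 27 h27
    simp [Nat.divisors_ofNat] at hf
    have := hs3 (by omega)
    rcases v9.elim3 with h9 | h9 | h9 <;> rcases v27.elim3 with h27' | h27' | h27' <;> omega
  have F81 : ¬ 81 ∣ n := by
    intro h81
    have z9 := F27 (by omega)
    have h162 : 162 ∣ n := by omega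
    have hf := h.frob 162 h162
    simp [Nat.divisors_ofNat] at hf
    have z18 : s 18 = 0 := h.zero_of_zero (by norm_num : 9 ∣ 18) z9
    have z27 : s 27 = 0 := h.zero_of_zero (by norm_num : 9 ∣ 27) z9
    have z54 : s 54 = 0 := h.zero_of_zero (by norm_num : 9 ∣ 54) z9
    have z81 : s 81 = 0 := h.zero_of_zero (by norm_num : 9 ∣ 81) z9
    have z162 : s 162 = 0 := h.zero_of_zero (by norm_num : 9 ∣ 162) z9
    have := hs3 (by omega)
    rcases v6.elim4 with h6 | h6 | h6 | h6 <;> omega
  -- 7 does not divide n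
  have no7 : ¬ 7 ∣ n := by
    intro h7
    have e7 := hs7 h7
    have h14 : 14 ∣ n := by omega
    have e14 : s 14 = 144 := by
      have hf := h.frob 14 h14
      simp [Nat.divisors_ofNat] at hf
      rcases (hT80 14 (by norm_num) (by decide)).elim3 with h1 | h1 | h1 <;> omega
    have no4 : ¬ 4 ∣ n := by
      intro h4
      have e4 := hs4 h4
      have h28 : 28 ∣ n := by omega
      have hf := h.frob 28 h28
      simp [Nat.divisors_ofNat] at hf
      rcases (hT8090 28 (by norm_num) (by decide) (by decide)).elim2 with h1 | h1 <;> omega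
    have no5 : ¬ 5 ∣ n := by
      intro h5
      have e5 := hs5 h5
      have h35 : 35 ∣ n := by omega
      have hf := h.frob 35 h35
      simp [Nat.divisors_ofNat] at hf
      rcases (hT8090 35 (by norm_num) (by decide) (by decide)).elim2 with h1 | h1 <;> omega
    have no49 : ¬ 49 ∣ n := by
      intro h49
      have hf := h.frob 49 h49
      simp [Nat.divisors_ofNat] at hf
      have := hT0 49 (by norm_num) (by decide) (by decide) (by decide)
      omega
    have hn378 : n ∣ 378 := by
      apply dvd_of_forall_prime_pow hn0 (by norm_num)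
      intro p k hp hpk
      rcases Nat.eq_zero_or_pos k with rfl | hk
      · simp
      have hpd : p ∣ n := dvd_trans (dvd_pow_self p hk.ne') hpk
      rcases hprime p hp (h.cauchy p hp hpd) with rfl | rfl | rfl | rfl
      · exact pp_dvd (e := 1) hpk no4 (by norm_num)
      · exact pp_dvd (e := 3) hpk F81 (by norm_num)
      · exact absurd hpd no5
      · exact pp_dvd (e := 1) hpk no49 (by norm_num)
    have hn : n = 378 := by
      have := Nat.le_of_dvd (by norm_num) hn378
      obtain ⟨c, hc⟩ := hn378
      have : c = 1 := by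
        rcases Nat.lt_or_ge c 2 with h1 | h1
        · interval_cases c
          · omega
          · rfl
        · nlinarith
      subst this
      omega
    have z9 := F27 (by omega)
    have e3 := hs3 (by omega)
    have hsupp7 : ∀ d, s d ≠ 0 → d ∈ ([1, 2, 3, 6, 7, 14, 21, 42] : List ℕ) := by
      intro d hd
      have hdn : d ∣ 378 := hn ▸ h.supp d hd
      have h9' : ¬ 9 ∣ d := fun h9 => hd (h.zero_of_zero h9 z9)
      have hmem : d ∈ Nat.divisors 378 := Nat.mem_divisors.mpr ⟨hdn, by norm_num⟩
      have key : ∀ d ∈ Nat.divisors 378, ¬ 9 ∣ d → d ∈ ([1, 2, 3, 6, 7, 14, 21, 42] : List ℕ) := by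
        simp only [Nat.divisors_ofNat]
        decide
      exact key d hmem h9'
    have htot := h.total_list _ (by decide) hsupp7
    simp only [List.map, List.sum_cons, List.sum_nil] at htot
    have key : ∀ x, Val x [0, 80, 90, 144] → x = 0 ∨ 80 ≤ x := by
      intro x hx
      rcases hx.elim4 with h0 | h0 | h0 | h0 <;> omega
    have k6 := key _ v6
    have k21 := key _ (hbig 21 (by norm_num))
    have k42 := key _ (hbig 42 (by norm_num))
    omega
  have hpn : ∀ p, p.Prime → p ∣ n → p = 2 ∨ p = 3 ∨ p = 5 := by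
    intro p hp hpd
    rcases hprime p hp (h.cauchy p hp hpd) with rfl | rfl | rfl | rfl
    · exact Or.inl rfl
    · exact Or.inr (Or.inl rfl)
    · exact Or.inr (Or.inr rfl)
    · exact absurd hpd no7
  -- 16 does not divide n
  have no16 : ¬ 16 ∣ n := by
    intro h16
    have e4 := hs4 (by omega)
    have hf := h.frob 16 h16
    simp [Nat.divisors_ofNat] at hf
    rcases v8.elim3 with h8 | h8 | h8 <;> rcases v16.elim3 with h16' | h16' | h16' <;> omega
  have v10 : Val (s 10) [0, 80] := by
    apply Val.intro2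
    by_cases h0 : s 10 = 0
    · exact Or.inl h0
    have h10 : 10 ∣ n := h.supp 10 h0
    have e5 := hs5 (by omega)
    have hf := h.frob 10 h10
    simp [Nat.divisors_ofNat] at hf
    rcases (hT90 10 (by norm_num) (by decide)).elim3 with h1 | h1 | h1 <;> omega
  have z15 : s 15 = 0 := by
    by_contra h0
    have h15 : 15 ∣ n := h.supp 15 h0
    have e5 := hs5 (by omega)
    have e3 := hs3 (by omega)
    have hf := h.frob 15 h15
    simp [Nat.divisors_ofNat] at hf
    rcases v15.elim3 with h1 | h1 | h1 <;> omega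
  -- 25 does not divide n
  have no25 : ¬ 25 ∣ n := by
    intro h25
    have e5 := hs5 (by omega)
    have e25 : s 25 = 80 := by
      have hf := h.frob 25 h25
      simp [Nat.divisors_ofNat] at hf
      have ht := h.tot 25
      rw [show Nat.totient 25 = 20 by decide] at ht
      rcases (hbig 25 (by norm_num)).elim4 with h1 | h1 | h1 | h1 <;> omega
    have h50 : 50 ∣ n := by omega
    have e10 : s 10 = 80 ∧ s 50 = 0 := by
      have hf := h.frob 50 h50
      simp [Nat.divisors_ofNat] at hf
      have ht := h.tot 50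
      rw [show Nat.totient 50 = 20 by decide] at ht
      have hc : s 10 = 0 → s 50 = 0 := fun h0 => h.zero_of_zero (by norm_num) h0
      rcases v10.elim2 with h10 | h10 <;>
        rcases (hbig 50 (by norm_num)).elim4 with h1 | h1 | h1 | h1 <;> omega
    have no3 : ¬ 3 ∣ n := by
      intro h3
      have e3 := hs3 h3
      have h75 : 75 ∣ n := by omega
      have hf := h.frob 75 h75
      simp [Nat.divisors_ofNat] at hf
      have z75 : s 75 = 0 := h.zero_of_zero (by norm_num : 15 ∣ 75) z15
      omega
    have no125 : ¬ 125 ∣ n := by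
      intro h125
      have hf := h.frob 125 h125
      simp [Nat.divisors_ofNat] at hf
      have := hT0 125 (by norm_num) (by decide) (by decide) (by decide)
      omega
    have hn200 : n ∣ 200 := by
      apply dvd_of_forall_prime_pow hn0 (by norm_num)
      intro p k hp hpk
      rcases Nat.eq_zero_or_pos k with rfl | hk
      · simp
      have hpd : p ∣ n := dvd_trans (dvd_pow_self p hk.ne') hpk
      rcases hpn p hp hpd with rfl | rfl | rfl
      · exact pp_dvd (e := 3) hpk no16 (by norm_num)
      · exact absurd hpd no3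
      · exact pp_dvd (e := 2) hpk no125 (by norm_num)
    have := Nat.le_of_dvd (by norm_num) hn200
    omega
  have hn1080 : n ∣ 1080 := by
    apply dvd_of_forall_prime_pow hn0 (by norm_num)
    intro p k hp hpk
    rcases Nat.eq_zero_or_pos k with rfl | hk
    · simp
    have hpd : p ∣ n := dvd_trans (dvd_pow_self p hk.ne') hpk
    rcases hpn p hp hpd with rfl | rfl | rfl
    · exact pp_dvd (e := 3) hpk no16 (by norm_num)
    · exact pp_dvd (e := 3) hpk F81 (by norm_num)
    · exact pp_dvd (e := 1) hpk no25 (by norm_num)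
  have h5n : 5 ∣ n := by
    by_contra h5
    have hn216 : n ∣ 216 := by
      apply dvd_of_forall_prime_pow hn0 (by norm_num)
      intro p k hp hpk
      rcases Nat.eq_zero_or_pos k with rfl | hk
      · simp
      have hpd : p ∣ n := dvd_trans (dvd_pow_self p hk.ne') hpk
      rcases hpn p hp hpd with rfl | rfl | rfl
      · exact pp_dvd (e := 3) hpk no16 (by norm_num)
      · exact pp_dvd (e := 3) hpk F81 (by norm_num)
      · exact absurd hpd h5
    have := Nat.le_of_dvd (by norm_num) hn216
    omega
  have e5 := hs5 h5n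
  -- support
  have hsupp : ∀ d, s d ≠ 0 → d ∈ ([1, 2, 3, 4, 5, 6, 8, 9, 10, 12, 18, 20, 24, 27, 36, 40, 54,
      72, 108, 216] : List ℕ) := by
    intro d hd
    have hdn : d ∣ 1080 := dvd_trans (h.supp d hd) hn1080
    have h15' : ¬ 15 ∣ d := fun h9 => hd (h.zero_of_zero h9 z15)
    have hmem : d ∈ Nat.divisors 1080 := Nat.mem_divisors.mpr ⟨hdn, by norm_num⟩
    have key : ∀ d ∈ Nat.divisors 1080, ¬ 15 ∣ d → d ∈ ([1, 2, 3, 4, 5, 6, 8, 9, 10, 12, 18, 20,
        24, 27, 36, 40, 54, 72, 108, 216] : List ℕ) := by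
      simp only [Nat.divisors_ofNat]
      decide
    exact key d hmem h15'
  have no27 : ¬ 27 ∣ n := by
    intro h27
    have := h.compl_list Nat.prime_five h27 (by decide) _ (by decide) hsupp
    rw [show (([1, 2, 3, 4, 5, 6, 8, 9, 10, 12, 18, 20, 24, 27, 36, 40, 54,
      72, 108, 216] : List ℕ).filter (fun d => 5 ∣ d)) = [5, 10, 20, 40] by decide] at this
    simp only [List.map, List.sum_cons, List.sum_nil] at this
    have hc1 : s 10 = 0 → s 20 = 0 := fun h0 => h.zero_of_zero (by norm_num) h0
    have hc2 : s 20 = 0 → s 40 = 0 := fun h0 => h.zero_of_zero (by norm_num) h0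
    rcases v10.elim2 with h10 | h10 <;> rcases v20.elim3 with h20 | h20 | h20 <;>
      rcases v40.elim3 with h40 | h40 | h40 <;> omega
  have hn360' : n ∣ 360 := by
    apply dvd_of_forall_prime_pow hn0 (by norm_num)
    intro p k hp hpk
    rcases Nat.eq_zero_or_pos k with rfl | hk
    · simp
    have hpd : p ∣ n := dvd_trans (dvd_pow_self p hk.ne') hpk
    rcases hpn p hp hpd with rfl | rfl | rfl
    · exact pp_dvd (e := 3) hpk no16 (by norm_num)
    · exact pp_dvd (e := 2) hpk no27 (by norm_num)
    · exact pp_dvd (e := 1) hpk no25 (by norm_num)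
  have hn : n = 360 := by
    have := Nat.le_of_dvd (by norm_num) hn360'
    omega
  have e3 := hs3 (by omega)
  have e4 := hs4 (by omega)
  have htot := h.total_list _ (by decide) hsupp
  simp only [List.map, List.sum_cons, List.sum_nil] at htot
  refine ⟨hn, hs2, e3, e4, e5, ?_⟩
  intro d hd
  have hmem := hsupp d hd
  simp only [List.mem_cons, List.not_mem_nil, or_false] at hmem
  rcases hmem with rfl | rfl | rfl | rfl | rfl | rfl | rfl | rfl | rfl | rfl | rfl | rfl | rfl |
    rfl | rfl | rfl | rfl | rfl | rfl | rfl <;> omega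

end Cfsg.Agent.Lib.Helper71.Nse
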