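import Mathlib
import Cfsg.Agent.Lib.Helper80.PResidualExt
import Cfsg.Agent.Lib.Helper80.OneP

/-!
# One `p`-singular character, normal `p`-complement: the quotient is abelian (helper71)

If `N` is a normal `p`-complement of `G`, `G / N` is nonabelian and `G` has at most one irreducible
character of degree divisible by `p`, then `N = 1` (Gallagher + extension of invariant characters).
-/

set_option autoImplicit false

namespace Cfsg.Agent.Lib.Helper71

open Cfsg

universe u

theorem onep_pResidual_eq_top {K : Type*} [Group K] [Finite K] (p : ℕ)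
    (h : (Nat.card K).Coprime p) : pResidual p K = ⊤ := by
  rw [eq_top_iff]
  intro g _
  apply Subgroup.subset_closure
  show Nat.Coprime (orderOf g) p
  exact Nat.Coprime.coprime_dvd_left (orderOf_dvd_natCard g) h

theorem onep_eq_bot_of_quotient_noncomm {G : Type u} [Group G] [Finite G] (p : ℕ)
    [hp : Fact p.Prime] (N : Subgroup G) [hNn : N.Normal] (hN : (Nat.card N).Coprime p)
    (hidx : ∃ k : ℕ, N.index = p ^ k)
    (hone : ∀ χ ψ : IrrCharacter G, p ∣ charDegree (χ : G → ℂ) → p ∣ charDegree (ψ : G → ℂ) →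
      χ = ψ)
    (hnc : ∃ a b : G ⧸ N, a * b ≠ b * a) : N = ⊥ := by
  classical
  let _ : Fintype G := Fintype.ofFinite G
  let _ : Fintype N := Fintype.ofFinite N
  let _ : Fintype (G ⧸ N) := Fintype.ofFinite _
  obtain ⟨k, hk⟩ := hidx
  have hQ : IsPGroup p (G ⧸ N) := by
    apply IsPGroup.of_card (n := k)
    rw [← Subgroup.index_eq_card, hk]
  have hNres : pResidual p ↥N = ⊤ := onep_pResidual_eq_top p hN
  obtain ⟨β, hβ⟩ := Helper80.exists_nonlinear_of_nonabelian hnc
  have hβdvd : p ∣ charDegree (β : G ⧸ N → ℂ) := by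
    have h1 := Helper79.irr_charDegree_dvd_card β
    rw [← Subgroup.index_eq_card, hk] at h1
    obtain ⟨j, -, hj⟩ := (Nat.dvd_prime_pow hp.out).mp h1
    rcases Nat.eq_zero_or_pos j with hj0 | hj0
    · exfalso
      apply hβ
      rw [hj, hj0, pow_zero]
    · rw [hj]
      exact dvd_pow_self p hj0.ne'
  set ψ₀ : IrrCharacter G := Helper77.inflate N β with hψ₀
  have hψ₀dvd : p ∣ charDegree (ψ₀ : G → ℂ) := by
    rw [hψ₀, Helper80.charDegree_inflate]
    exact hβdvd
  have hψ₀N : ∀ n : N, (ψ₀ : G → ℂ) n = (ψ₀ : G → ℂ) 1 := fun n =>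
    Helper77.inflate_apply_of_mem N β n n.2
  have hψ₀1 : (ψ₀ : G → ℂ) 1 ≠ 0 := Helper78.IsIrrCharacter.apply_one_ne_zero ψ₀.2
  -- every irreducible character is trivial on `N`
  have key : ∀ (χ : IrrCharacter G) (n : N), (χ : G → ℂ) n = (χ : G → ℂ) 1 := by
    intro χ n
    by_cases hdeg : p ∣ charDegree (χ : G → ℂ)
    · have : χ = ψ₀ := hone χ ψ₀ hdeg hψ₀dvd
      rw [this]
      exact hψ₀N n
    · have hχN := Helper80.res_irr_of_not_dvd p N hQ hNres χ.2 hdeg
      have hirr := Helper80.gallagher_irr N χ.2 hχN β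
      have hval1 : (Helper80.infl N β * (χ : G → ℂ)) 1 =
          (ψ₀ : G → ℂ) 1 * (χ : G → ℂ) 1 := rfl
      have hd : p ∣ charDegree (Helper80.infl N β * (χ : G → ℂ)) := by
        have e0 := Helper78.IsCharacter.apply_one_eq_charDegree
          (Helper78.IsIrrCharacter.isCharacter hirr)
        have e1 := Helper78.IsCharacter.apply_one_eq_charDegree
          (Helper78.IsIrrCharacter.isCharacter ψ₀.2)
        have e2 := Helper78.IsCharacter.apply_one_eq_charDegree
          (Helper78.IsIrrCharacter.isCharacter χ.2)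
        rw [hval1, e1, e2] at e0
        have e3 : charDegree (ψ₀ : G → ℂ) * charDegree (χ : G → ℂ) =
            charDegree (Helper80.infl N β * (χ : G → ℂ)) := by exact_mod_cast e0
        rw [← e3]
        exact dvd_mul_of_dvd_left hψ₀dvd _
      have heq : (⟨_, hirr⟩ : IrrCharacter G) = ψ₀ := hone _ _ hd hψ₀dvd
      have hfun : Helper80.infl N β * (χ : G → ℂ) = (ψ₀ : G → ℂ) := congrArg Subtype.val heq
      have h1 : (ψ₀ : G → ℂ) n * (χ : G → ℂ) n = (ψ₀ : G → ℂ) n := congrFun hfun (n : G)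
      have h2 : (ψ₀ : G → ℂ) 1 * (χ : G → ℂ) 1 = (ψ₀ : G → ℂ) 1 := congrFun hfun 1
      rw [hψ₀N n] at h1
      have h3 : (χ : G → ℂ) n = 1 := by
        have := mul_left_cancel₀ hψ₀1 (h1.trans (mul_one _).symm)
        exact this
      have h4 : (χ : G → ℂ) 1 = 1 := by
        have := mul_left_cancel₀ hψ₀1 (h2.trans (mul_one _).symm)
        exact this
      rw [h3, h4]
  rw [Subgroup.eq_bot_iff_forall]
  intro x hx
  have hconj : IsConj x 1 := Helper78.isConj_of_forall_irr_eq (fun χ => key χ ⟨x, hx⟩)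
  exact isConj_one_left.mp hconj

end Cfsg.Agent.Lib.Helper71
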