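import Mathlib

/-!
# Classes of `p'`-size and the normalizer of an abelian Sylow subgroup (helper71)

If `P` is a Sylow `p`-subgroup with `N_G(P) = C_G(P)`, then the conjugacy classes of `G` of size
prime to `p` are in bijection with the conjugacy classes of `N_G(P)` (Burnside fusion).
-/

set_option autoImplicit false

namespace Cfsg.Agent.Lib.Helper71

theorem onep_card_split {α : Type*} [Finite α] (q : α → Prop) :
    Nat.card {a // q a} + Nat.card {a // ¬ q a} = Nat.card α := by
  classical
  rw [← Nat.card_sum]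
  exact Nat.card_congr (Equiv.sumCompl q)

/-- size of the class times order of the centraliser -/
theorem onep_card_carrier_mul {G : Type*} [Group G] [Finite G] (z : G) :
    Nat.card (ConjClasses.mk z).carrier * Nat.card (Subgroup.centralizer ({z} : Set G)) =
      Nat.card G := by
  classical
  have := Fintype.ofFinite G
  rw [Subgroup.nat_card_centralizer_nat_card_stabilizer, Nat.card_eq_fintype_card,
    Nat.card_eq_fintype_card, Nat.card_eq_fintype_card, ConjClasses.card_carrier]
  apply Nat.div_mul_cancel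
  rw [← Nat.card_eq_fintype_card, ← Nat.card_eq_fintype_card]
  exact Subgroup.card_subgroup_dvd_card _

theorem onep_card_carrier_eq_index {G : Type*} [Group G] [Finite G] (z : G) :
    Nat.card (ConjClasses.mk z).carrier = (Subgroup.centralizer ({z} : Set G)).index := by
  have h1 := onep_card_carrier_mul z
  have h2 := (Subgroup.centralizer ({z} : Set G)).index_mul_card
  have hpos : 0 < Nat.card (Subgroup.centralizer ({z} : Set G)) := Nat.card_pos
  exact Nat.eq_of_mul_eq_mul_right hpos (h1.trans h2.symm)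

/-- elements centralizing a Sylow `p`-subgroup have class size prime to `p` -/
theorem onep_not_dvd_card_carrier {G : Type*} [Group G] [Finite G] (p : ℕ) [Fact p.Prime]
    (P : Sylow p G) (z : G) (hz : z ∈ Subgroup.centralizer ((P : Subgroup G) : Set G)) :
    ¬ p ∣ Nat.card (ConjClasses.mk z).carrier := by
  rw [onep_card_carrier_eq_index]
  have hle : (P : Subgroup G) ≤ Subgroup.centralizer ({z} : Set G) := by
    intro x hx
    rw [Subgroup.mem_centralizer_iff]
    intro y hy
    rw [Set.mem_singleton_iff] at hy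
    subst hy
    exact (Subgroup.mem_centralizer_iff.mp hz x hx).symm
  intro hdvd
  exact P.not_dvd_index (dvd_trans hdvd (Subgroup.index_dvd_of_le hle))

/-- a class of size prime to `p` meets the centralizer of the Sylow `p`-subgroup `P` -/
theorem onep_exists_mem_centralizer {G : Type*} [Group G] [Finite G] (p : ℕ) [Fact p.Prime]
    (P : Sylow p G) (C : ConjClasses G) (hC : ¬ p ∣ Nat.card C.carrier) :
    ∃ z ∈ Subgroup.centralizer ((P : Subgroup G) : Set G), ConjClasses.mk z = C := by
  classical
  let act : MulAction (P : Subgroup G) C.carrier :=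
    { smul := fun x y => ⟨(x : G) * (y : G) * (x : G)⁻¹, by
        have hy := ConjClasses.mem_carrier_iff_mk_eq.mp y.2
        apply ConjClasses.mem_carrier_iff_mk_eq.mpr
        refine Eq.trans ?_ hy
        apply ConjClasses.mk_eq_mk_iff_isConj.mpr
        exact isConj_iff.mpr ⟨(x : G)⁻¹, by group⟩⟩
      one_smul := by
        intro y
        apply Subtype.ext
        show ((1 : (P : Subgroup G)) : G) * (y : G) * ((1 : (P : Subgroup G)) : G)⁻¹ = (y : G)
        simp
      mul_smul := by
        intro a b y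
        apply Subtype.ext
        show ((a * b : (P : Subgroup G)) : G) * (y : G) * ((a * b : (P : Subgroup G)) : G)⁻¹ =
          (a : G) * ((b : G) * (y : G) * (b : G)⁻¹) * (a : G)⁻¹
        simp only [Subgroup.coe_mul]
        group }
  obtain ⟨y, hy⟩ := P.2.nonempty_fixed_point_of_prime_not_dvd_card C.carrier hC
  refine ⟨(y : G), ?_, ConjClasses.mem_carrier_iff_mk_eq.mp y.2⟩
  rw [Subgroup.mem_centralizer_iff]
  intro x hx
  have h1 := hy ⟨x, hx⟩
  have h2 : x * (y : G) * x⁻¹ = (y : G) := congrArg (fun z : C.carrier => (z : G)) h1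
  calc x * (y : G) = (x * (y : G) * x⁻¹) * x := by group
    _ = (y : G) * x := by rw [h2]

/-- a complemented abelian Sylow subgroup with normal complement is central in its normalizer -/
theorem onep_normalizer_le_centralizer {G : Type*} [Group G] (N P : Subgroup G) [hN : N.Normal]
    (hdisj : N ⊓ P = ⊥) (hsup : N ⊔ P = ⊤) (hab : ∀ x ∈ P, ∀ y ∈ P, x * y = y * x) :
    Subgroup.normalizer (P : Set G) ≤ Subgroup.centralizer (P : Set G) := by
  intro m hm
  have hm' : m ∈ N ⊔ P := by rw [hsup]; trivial
  have hm'' : m ∈ ((N ⊔ P : Subgroup G) : Set G) := hm'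
  rw [Subgroup.normal_mul] at hm''
  obtain ⟨n, hn, u, hu, rfl⟩ := Set.mem_mul.mp hm''
  have hnN : n ∈ Subgroup.normalizer (P : Set G) := by
    have : n = (n * u) * u⁻¹ := by group
    rw [this]
    exact Subgroup.mul_mem _ hm (Subgroup.inv_mem _ (Subgroup.le_normalizer hu))
  rw [Subgroup.mem_centralizer_iff]
  intro x hx
  have hx' : x ∈ P := hx
  have h1 : n * x * n⁻¹ ∈ P := (Subgroup.mem_normalizer_iff.mp hnN x).mp hx'
  have h2 : n * x * n⁻¹ * x⁻¹ ∈ N ⊓ P := by
    refine Subgroup.mem_inf.mpr ⟨?_, Subgroup.mul_mem _ h1 (Subgroup.inv_mem _ hx')⟩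
    have : n * x * n⁻¹ * x⁻¹ = n * (x * n⁻¹ * x⁻¹) := by group
    rw [this]
    exact Subgroup.mul_mem _ hn (hN.conj_mem _ (Subgroup.inv_mem _ hn) x)
  rw [hdisj, Subgroup.mem_bot] at h2
  have h3 : n * x = x * n := by
    calc n * x = (n * x * n⁻¹ * x⁻¹) * (x * n) := by group
      _ = x * n := by rw [h2, one_mul]
  calc x * (n * u) = (x * n) * u := by group
    _ = (n * x) * u := by rw [h3]
    _ = n * (x * u) := by group
    _ = n * (u * x) := by rw [hab x hx' u hu]
    _ = n * u * x := by group

/-- Burnside fusion: classes of `p'`-size correspond to classes of `N_G(P) = C_G(P)` -/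
theorem onep_card_pprime_classes {G : Type*} [Group G] [Finite G] (p : ℕ) [Fact p.Prime]
    (P : Sylow p G)
    (hNC : Subgroup.normalizer ((P : Subgroup G) : Set G) ≤
      Subgroup.centralizer ((P : Subgroup G) : Set G)) :
    Nat.card {C : ConjClasses G // ¬ p ∣ Nat.card C.carrier} =
      Nat.card (ConjClasses (Subgroup.normalizer ((P : Subgroup G) : Set G))) := by
  classical
  set M : Subgroup G := Subgroup.normalizer ((P : Subgroup G) : Set G) with hM
  have hf : ∀ c : ConjClasses M, ¬ p ∣ Nat.card (ConjClasses.map M.subtype c).carrier := by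
    intro c
    obtain ⟨m, rfl⟩ := ConjClasses.exists_rep c
    exact onep_not_dvd_card_carrier p P (m : G) (hNC m.2)
  symm
  apply Nat.card_congr
  refine Equiv.ofBijective (fun c => ⟨ConjClasses.map M.subtype c, hf c⟩) ⟨?_, ?_⟩
  · intro c₁ c₂ h
    obtain ⟨m₁, rfl⟩ := ConjClasses.exists_rep c₁
    obtain ⟨m₂, rfl⟩ := ConjClasses.exists_rep c₂
    have h1 : ConjClasses.mk (m₁ : G) = ConjClasses.mk (m₂ : G) := congrArg Subtype.val h
    obtain ⟨c, hc⟩ := isConj_iff.mp (ConjClasses.mk_eq_mk_iff_isConj.mp h1)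
    have hx : (m₁ : G) ∈ Subgroup.centralizer ((P : Subgroup G) : Set G) := hNC m₁.2
    have hy : (c⁻¹)⁻¹ * (m₁ : G) * c⁻¹ ∈ Subgroup.centralizer ((P : Subgroup G) : Set G) := by
      rw [inv_inv, hc]
      exact hNC m₂.2
    obtain ⟨n, hn, hneq⟩ := Sylow.conj_eq_normalizer_conj_of_mem_centralizer P (m₁ : G) c⁻¹ hx hy
    rw [inv_inv, hc] at hneq
    apply ConjClasses.mk_eq_mk_iff_isConj.mpr
    apply isConj_iff.mpr
    refine ⟨⟨n, hn⟩⁻¹, ?_⟩
    apply Subtype.ext
    show (n : G)⁻¹ * (m₁ : G) * ((n : G)⁻¹)⁻¹ = (m₂ : G)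
    rw [inv_inv, hneq]
  · rintro ⟨C, hC⟩
    obtain ⟨z, hz, hzC⟩ := onep_exists_mem_centralizer p P C hC
    have hzM : z ∈ M := Subgroup.centralizer_le_normalizer _ hz
    refine ⟨ConjClasses.mk ⟨z, hzM⟩, ?_⟩
    apply Subtype.ext
    exact hzC

end Cfsg.Agent.Lib.Helper71
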