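/-
helper71: S4125-[C6A] (sheet Lib/Helper75/QBaer/S4125_SHEET.md): in the core case the Sylow
2-subgroup has no normal four-group.  Uses [C3] (helper66), [C4], [C5] (helper51).
-/
import Mathlib
import Cfsg.Agent.Lib.Helper75.QBaer.Defs
import Cfsg.Agent.Lib.Helper66.QBaerC3
import Cfsg.Agent.Lib.Helper51.QBaerC4
import Cfsg.Agent.Lib.Helper51.QBaerC5

set_option autoImplicit false

namespace Cfsg.Agent.Lib.Helper71.QBaer

open Cfsg.Agent.Lib.Helper75.QBaer

/-- elements of `zpowers b` for an element `b` with `b ^ 2 = 1` -/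
theorem eq_one_or_eq_of_mem_zpowers_of_sq {G : Type*} [Group G] {b x : G} (hb : b ^ 2 = 1)
    (hx : x ∈ Subgroup.zpowers b) : x = 1 ∨ x = b := by
  obtain ⟨k, rfl⟩ := Subgroup.mem_zpowers_iff.mp hx
  have hk : k = k % 2 + 2 * (k / 2) := (Int.emod_add_mul_ediv k 2).symm
  have h2 : b ^ (2 : ℤ) = 1 := by
    have : b ^ ((2 : ℕ) : ℤ) = 1 := by rw [zpow_natCast]; exact hb
    simpa using this
  have hred : b ^ k = b ^ (k % 2) := by
    conv_lhs => rw [hk]
    rw [zpow_add, zpow_mul, h2, one_zpow, mul_one]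
  rw [hred]
  rcases Int.emod_two_eq_zero_or_one k with h0 | h1
  · left; rw [h0, zpow_zero]
  · right; rw [h1, zpow_one]

variable {q : ℕ} {X V : Type*} [Group X] [Finite X] [CommGroup V] [Finite V]
  [MulDistribMulAction X V]

/-- S4125-[C6A] -/
theorem no_normal_four (h : CoreHyp q X V) (S : Sylow 2 X) (R : Subgroup ↥(S : Subgroup X))
    [R.Normal] (hR : Nat.card R = 2 ^ 2) (hR2 : ∀ r ∈ R, r ^ 2 = 1) : False := by
  haveI : Fact (Nat.Prime 2) := ⟨Nat.prime_two⟩
  have hP : IsPGroup 2 ↥(S : Subgroup X) := S.2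
  letI act : MulAction ↥(S : Subgroup X) ↥R := MulAction.compHom ↥R (MulAut.conjNormal (H := R))
  have hsmul : ∀ (s : ↥(S : Subgroup X)) (r : ↥R),
      ((s • r : ↥R) : ↥(S : Subgroup X)) = s * r * s⁻¹ := by
    intro s r
    rfl
  have h1fix : (1 : ↥R) ∈ MulAction.fixedPoints ↥(S : Subgroup X) ↥R := by
    intro s
    apply Subtype.ext
    rw [hsmul]
    simp
  obtain ⟨b, hbfix, hb1⟩ := hP.exists_fixed_point_of_prime_dvd_card_of_fixed_point ↥R
    (by rw [hR]; norm_num) h1fix
  have hb1' : b ≠ 1 := fun hh => hb1 hh.symm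
  -- `b` is central in `S`
  have hbc : ∀ s : ↥(S : Subgroup X), s * (b : ↥(S : Subgroup X)) = (b : ↥(S : Subgroup X)) * s := by
    intro s
    have := congrArg Subtype.val (hbfix s)
    rw [hsmul] at this
    exact mul_inv_eq_iff_eq_mul.mp this
  have hbsq : (b : ↥(S : Subgroup X)) ^ 2 = 1 := hR2 _ b.2
  have hbsqR : b ^ 2 = 1 := Subtype.ext (by simpa using hbsq)
  -- the involution `z` of `X`
  obtain ⟨z, hzdef⟩ : ∃ z : X, z = ((b : ↥(S : Subgroup X)) : X) := ⟨_, rfl⟩
  have hzS : z ∈ S := by rw [hzdef]; exact (b : ↥(S : Subgroup X)).2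
  have hz1 : z ≠ 1 := by
    intro hh
    apply hb1'
    apply Subtype.ext
    apply Subtype.ext
    rw [← hzdef, hh]
    rfl
  have hzsq : z ^ 2 = 1 := by
    rw [hzdef]
    have := congrArg Subtype.val hbsq
    simpa using this
  have hz : orderOf z = 2 := orderOf_eq_prime hzsq hz1
  have hzZ : ∀ s ∈ S, s * z = z * s := by
    intro s hs
    have := congrArg Subtype.val (hbc ⟨s, hs⟩)
    rw [hzdef]
    simpa using this
  have hzc : z ∈ Subgroup.center X :=
    Cfsg.Agent.Lib.Helper66.QBaer.mem_center_of_mem_center_sylow h S z hz hzS hzZ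
  have hzinv : ∀ v : V, z • v = v⁻¹ :=
    Cfsg.Agent.Lib.Helper51.QBaer.smul_eq_inv_of_central_involution h z hz hzc
  -- the subgroup `H = {1, b}` of `R` has index 2
  have hHcard : Nat.card (Subgroup.zpowers b) = 2 := by
    rw [Nat.card_zpowers]
    exact orderOf_eq_prime hbsqR hb1'
  have hHidx : (Subgroup.zpowers b).index = 2 := by
    have := (Subgroup.zpowers b).card_mul_index
    rw [hHcard, hR] at this
    omega
  have hHmem : ∀ x : ↥R, x ∈ Subgroup.zpowers b → x = 1 ∨ x = b := fun x hx =>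
    eq_one_or_eq_of_mem_zpowers_of_sq hbsqR hx
  -- an element `t` of `R` outside `H`
  obtain ⟨t, htH⟩ : ∃ t : ↥R, t ∉ Subgroup.zpowers b := by
    by_contra hall
    push Not at hall
    have htop : Subgroup.zpowers b = ⊤ := (Subgroup.eq_top_iff' _).mpr hall
    rw [htop, Subgroup.index_top] at hHidx
    omega
  have ht1 : t ≠ 1 := fun hh => htH (hh ▸ (Subgroup.zpowers b).one_mem)
  have htb : t ≠ b := fun hh => htH (hh ▸ Subgroup.mem_zpowers b)
  have htsq : (t : ↥(S : Subgroup X)) ^ 2 = 1 := hR2 _ t.2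
  have htsqR : t ^ 2 = 1 := Subtype.ext (by simpa using htsq)
  have htinv : t⁻¹ = t := by
    rw [inv_eq_iff_mul_eq_one, ← sq]; exact htsqR
  obtain ⟨tX, htdef⟩ : ∃ tX : X, tX = ((t : ↥(S : Subgroup X)) : X) := ⟨_, rfl⟩
  have htS : tX ∈ S := by rw [htdef]; exact (t : ↥(S : Subgroup X)).2
  have htX1 : tX ≠ 1 := by
    intro hh
    apply ht1
    apply Subtype.ext
    apply Subtype.ext
    rw [← htdef, hh]
    rfl
  have htXsq : tX ^ 2 = 1 := by
    rw [htdef]
    have := congrArg Subtype.val htsq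
    simpa using this
  have ht : orderOf tX = 2 := orderOf_eq_prime htXsq htX1
  have hne : tX ≠ z := by
    intro hh
    apply htb
    apply Subtype.ext
    apply Subtype.ext
    rw [← htdef, ← hzdef, hh]
  have hconj : ∀ s ∈ S, s * tX * s⁻¹ = tX ∨ s * tX * s⁻¹ = tX * z := by
    intro s hs
    obtain ⟨s', hs'⟩ : ∃ s' : ↥(S : Subgroup X), s' = ⟨s, hs⟩ := ⟨_, rfl⟩
    obtain ⟨r, hr⟩ : ∃ r : ↥R, r = s' • t := ⟨_, rfl⟩
    have hrval : (r : ↥(S : Subgroup X)) = s' * t * s'⁻¹ := by rw [hr, hsmul]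
    have hrH : r ∉ Subgroup.zpowers b := by
      intro hmem
      have hback : t = s'⁻¹ • r := by rw [hr, smul_smul, inv_mul_cancel, one_smul]
      rcases hHmem r hmem with h1 | h1
      · apply ht1
        rw [hback, h1]
        exact (h1fix s'⁻¹)
      · apply htb
        rw [hback, h1]
        exact hbfix s'⁻¹
    have hprod : r * t ∈ Subgroup.zpowers b :=
      (Subgroup.mul_mem_iff_of_index_two hHidx).mpr ⟨fun hh => absurd hh hrH, fun hh => absurd hh htH⟩
    have hcase : r = t ∨ r = t * b := by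
      rcases hHmem _ hprod with h1 | h1
      · left
        have : r = t⁻¹ := eq_inv_of_mul_eq_one_left h1
        rw [this, htinv]
      · right
        have : r = b * t⁻¹ := eq_mul_inv_of_mul_eq h1
        rw [this, htinv]
        apply Subtype.ext
        exact hbc t |>.symm
    have hX : s * tX * s⁻¹ = (((r : ↥R) : ↥(S : Subgroup X)) : X) := by
      rw [hrval, hs', htdef]
      rfl
    rcases hcase with h1 | h1
    · left
      rw [hX, h1, htdef]
    · right
      rw [hX, h1, htdef, hzdef]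
      rfl
  exact Cfsg.Agent.Lib.Helper51.QBaer.no_almost_central_involution h S z tX hz hzc hzinv ht htS
    hne hconj

end Cfsg.Agent.Lib.Helper71.QBaer
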