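/-
helper71: S4125-[ODD] (sheet Lib/Helper75/QBaer/S4125_SHEET.md): in Theorem X with `p`, `q` odd
(or `q = 2`) the acting group has odd order.
-/
import Mathlib
import Cfsg.Agent.Lib.Helper75.QBaer.Defs

set_option autoImplicit false

namespace Cfsg.Agent.Lib.Helper71.QBaer

open Cfsg.Agent.Lib.Helper75.QBaer

/-- S4125-[ODD] -/
theorem odd_card_of_odd_prime {X V : Type*} [Group X] [Finite X] [CommGroup V] [Finite V]
    [MulDistribMulAction X V] (q p : ℕ) (hq : q.Prime) (hp : p.Prime) (hpq : p ≠ q)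
    (h2 : p ≠ 2 ∨ q = 2) (hV : IsPGroup q V) (hX : (Nat.card X).Coprime q)
    (hfaith : ∀ g : X, (∀ v : V, g • v = v) → g = 1) (horb : OrbPow p X V) :
    Odd (Nat.card X) := by
  by_cases hq2 : q = 2
  · subst hq2
    exact Nat.coprime_two_right.mp hX
  have hp2 : p ≠ 2 := h2.resolve_right hq2
  by_contra hodd
  have heven : 2 ∣ Nat.card X := by
    rcases Nat.even_or_odd (Nat.card X) with he | ho
    · exact he.two_dvd
    · exact absurd ho hodd
  haveI : Fact (Nat.Prime 2) := ⟨Nat.prime_two⟩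
  obtain ⟨t, ht⟩ := exists_prime_orderOf_dvd_card' 2 heven
  have ht1 : t ≠ 1 := by
    intro h
    rw [h, orderOf_one] at ht
    norm_num at ht
  have hex : ∃ v : V, t • v ≠ v := by
    by_contra hne
    push Not at hne
    exact ht1 (hfaith t hne)
  obtain ⟨v, hv⟩ := hex
  have htt : ∀ x : V, t • t • x = x := by
    intro x
    rw [← mul_smul, ← sq, ← ht, pow_orderOf_eq_one, one_smul]
  obtain ⟨w, hw⟩ : ∃ w : V, w = v⁻¹ * t • v := ⟨_, rfl⟩
  have hw1 : w ≠ 1 := by
    intro h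
    apply hv
    rw [hw] at h
    exact (inv_mul_eq_one.mp h).symm
  have htw : t • w = w⁻¹ := by
    rw [hw, smul_mul', smul_inv', htt, mul_inv_rev, inv_inv, mul_comm]
  haveI : Fact p.Prime := ⟨hp⟩
  obtain ⟨u, hu, k, hk, htuk⟩ := exists_mul_sylow_stab_gen horb (default : Sylow p X) w t
  have huw : u • w = w⁻¹ := by
    rw [← htw, htuk, mul_smul, MulAction.mem_stabilizer_iff.mp hk]
  have huu : (u ^ 2) • w = w := by
    rw [sq, mul_smul, huw, smul_inv', huw, inv_inv]
  have hpow : ∀ n : ℕ, ((u ^ 2) ^ n) • w = w := by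
    intro n
    induction n with
    | zero => rw [pow_zero, one_smul]
    | succ n ih => rw [pow_succ, mul_smul, huu, ih]
  -- the order of `u` is odd
  obtain ⟨j, hj⟩ := (default : Sylow p X).2 ⟨u, hu⟩
  have huj : u ^ (p ^ j) = 1 := by
    have := congrArg Subtype.val hj
    simpa using this
  have hoddp : Odd (p ^ j) := Odd.pow (hp.odd_of_ne_two hp2)
  obtain ⟨m, hm⟩ := hoddp
  have hu_eq : u = (u ^ 2) ^ (m + 1) := by
    rw [← pow_mul]
    have : 2 * (m + 1) = p ^ j + 1 := by omega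
    rw [this, pow_succ, huj, one_mul]
  have huw' : u • w = w := by
    conv_lhs => rw [hu_eq]
    exact hpow (m + 1)
  have hww : w⁻¹ = w := by rw [← huw, huw']
  have hw2 : w ^ 2 = 1 := by
    rw [sq]
    nth_rewrite 1 [← hww]
    exact inv_mul_cancel w
  haveI : Fact q.Prime := ⟨hq⟩
  obtain ⟨i, hi⟩ := IsPGroup.iff_orderOf.mp hV w
  have hdvd : orderOf w ∣ 2 := orderOf_dvd_of_pow_eq_one hw2
  rw [hi] at hdvd
  rcases Nat.eq_zero_or_pos i with h0 | hpos
  · rw [h0, pow_zero] at hi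
    exact hw1 (orderOf_eq_one_iff.mp hi)
  · have hq_dvd : q ∣ 2 := dvd_trans (dvd_pow_self q (Nat.pos_iff_ne_zero.mp hpos)) hdvd
    exact hq2 ((Nat.prime_dvd_prime_iff_eq hq Nat.prime_two).mp hq_dvd)

end Cfsg.Agent.Lib.Helper71.QBaer
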