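/-
helper71: S4125-[PQ] (sheet Lib/Helper75/QBaer/S4125_SHEET.md): if every q-element has q-power
class size then the Sylow q-subgroup is normal and has a normal complement.
Also a local copy of the Wielandt-type lemma [W].
-/
import Mathlib
import Cfsg.Agent.S4126
import Cfsg.Agent.Lib.Helper97.Cores

set_option autoImplicit false

namespace Cfsg.Agent.Lib.Helper71.QBaer

variable {G : Type*} [Group G] [Finite G]

/-- [W] a `q`-element whose class has `q`-power size lies in `O_q(G)`. -/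
theorem mem_pCore_of_index_pow_aux (q : ℕ) [Fact q.Prime] (x : G)
    (hx : ∃ k : ℕ, orderOf x = q ^ k)
    (hi : ∃ a : ℕ, (Subgroup.centralizer ({x} : Set G)).index = q ^ a) :
    x ∈ Cfsg.pCore q G := by
  obtain ⟨k, hk⟩ := hx
  obtain ⟨a, ha⟩ := hi
  -- a Sylow subgroup containing x
  have hzp : IsPGroup q (Subgroup.zpowers x) := by
    rw [IsPGroup.iff_card, Nat.card_zpowers]
    exact ⟨k, hk⟩
  obtain ⟨Q, hQ⟩ := hzp.exists_le_sylow
  have hxQ : x ∈ (Q : Subgroup G) := hQ (Subgroup.mem_zpowers x)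
  have hcop : (Q : Subgroup G).index.Coprime (Subgroup.centralizer ({x} : Set G)).index := by
    rw [ha]
    exact Nat.Coprime.pow_right _
      ((Nat.Prime.coprime_iff_not_dvd Fact.out).mpr Q.not_dvd_index).symm
  -- all conjugates of x lie in Q
  have hconj : ∀ g : G, g * x * g⁻¹ ∈ (Q : Subgroup G) := by
    intro g
    obtain ⟨u, hu, c, hc, rfl⟩ :=
      Cfsg.Agent.S4126.exists_mul_of_coprime_index (Q : Subgroup G)
        (Subgroup.centralizer ({x} : Set G)) hcop g
    have hcx : c * x = x * c := by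
      have := Subgroup.mem_centralizer_iff.mp hc x (Set.mem_singleton x)
      exact this.symm
    have : u * c * x * (u * c)⁻¹ = u * x * u⁻¹ := by
      rw [mul_inv_rev]
      calc u * c * x * (c⁻¹ * u⁻¹) = u * (c * x) * c⁻¹ * u⁻¹ := by group
        _ = u * (x * c) * c⁻¹ * u⁻¹ := by rw [hcx]
        _ = u * x * u⁻¹ := by group
    rw [this]
    exact (Q : Subgroup G).mul_mem ((Q : Subgroup G).mul_mem hu hxQ) ((Q : Subgroup G).inv_mem hu)
  have hle : Subgroup.normalClosure ({x} : Set G) ≤ (Q : Subgroup G) := by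
    rw [Subgroup.normalClosure]
    apply (Subgroup.closure_le _).mpr
    intro y hy
    obtain ⟨z, hz, hzy⟩ := Group.mem_conjugatesOfSet_iff.mp hy
    rw [Set.mem_singleton_iff] at hz
    subst hz
    obtain ⟨g, hg⟩ := isConj_iff.mp hzy
    rw [← hg]
    exact hconj g
  have hp : IsPGroup q (Subgroup.normalClosure ({x} : Set G)) := Q.2.to_le hle
  exact Cfsg.Agent.Lib.Helper97.le_pCore_of_normal Subgroup.normalClosure_normal hp
    (Subgroup.subset_normalClosure (Set.mem_singleton x))

/-- S4125-[PQ] -/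
theorem direct_factor_of_all_q (q : ℕ) [Fact q.Prime]
    (h : ∀ x : G, (∃ k : ℕ, orderOf x = q ^ k) →
      ∃ a : ℕ, (Subgroup.centralizer ({x} : Set G)).index = q ^ a) (Q : Sylow q G) :
    (Q : Subgroup G).Normal ∧ ∃ N : Subgroup G, N.Normal ∧ N.IsComplement' (Q : Subgroup G) := by
  have hle : (Q : Subgroup G) ≤ Cfsg.pCore q G := by
    intro x hx
    have hxo : ∃ k : ℕ, orderOf x = q ^ k := by
      obtain ⟨k, hk⟩ := (IsPGroup.iff_orderOf.mp Q.2) ⟨x, hx⟩
      refine ⟨k, ?_⟩
      rw [← hk]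
      exact (Subgroup.orderOf_mk x hx).symm
    exact mem_pCore_of_index_pow_aux q x hxo (h x hxo)
  have heq : (Q : Subgroup G) = Cfsg.pCore q G :=
    le_antisymm hle (Cfsg.Agent.Lib.Helper97.pCore_le_sylow' Q)
  have hn : (Q : Subgroup G).Normal := by
    rw [heq]
    exact Cfsg.Agent.Lib.Helper97.pCore_normal q
  refine ⟨hn, ?_⟩
  have hres := Cfsg.Agent.S4126.result (G := G) q (fun x hx => by
    apply h x
    rcases hx with hx | ⟨h2, hx⟩
    · exact ⟨1, by rw [hx, pow_one]⟩
    · exact ⟨2, by rw [hx, h2]; norm_num⟩)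
  obtain ⟨P, N, hN, hc⟩ := hres
  have : Subsingleton (Sylow q G) := (Sylow.unique_of_normal Q hn).instSubsingleton
  have hPQ : P = Q := Subsingleton.elim _ _
  subst hPQ
  exact ⟨N, hN, hc⟩

end Cfsg.Agent.Lib.Helper71.QBaer
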