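import Mathlib
import Cfsg.Agent.Lib.Helper74.TIFNStar
import Cfsg.Agent.Lib.Helper74.KerSum

/-!
# Characters of the normalizer of a T.I. subgroup of prime order (helper71)

`K` abelian T.I. with `C_G(k) ≤ K`; `S = tifnS K` the irreducible characters of `N = N_G(K)` not
trivial on `K`.  Counting facts: `|S| e² + e = |N|`, `Σ_{ψ∈S} ψ(k) = -1`, `Σ_{ψ∈S} |ψ(k)|² = |K| - e`.
-/

set_option autoImplicit false
set_option linter.unusedSectionVars false
set_option linter.style.haveILetI false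

namespace Cfsg.Agent.Lib.Helper71

open Cfsg Cfsg.Agent.Lib.Helper78 Cfsg.Agent.Lib.Helper75 Cfsg.Agent.Lib.Helper74
open scoped ComplexConjugate

universe u

section SCChar

variable {G : Type u} [Group G] [Fintype G] {K : Subgroup G}

local notation "NK" => Subgroup.normalizer (K : Set G)

variable [Fintype ↥(Subgroup.normalizer (K : Set G))]

/-- relevant characters have degree `e` -/
theorem scc_degree (hC : ∀ k ∈ K, k ≠ 1 → Subgroup.centralizer ({k} : Set G) ≤ K)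
    (hab : ∀ a ∈ K, ∀ b ∈ K, a * b = b * a) {ψ : ↥NK → ℂ} (hψ : ψ ∈ tifnS K) :
    ψ 1 = ((K.subgroupOf NK).index : ℂ) := by
  haveI : IsMulCommutative ↥(K.subgroupOf NK) := by
    refine ⟨⟨fun a b => ?_⟩⟩
    apply Subtype.ext
    apply Subtype.ext
    exact hab _ (Subgroup.mem_subgroupOf.mp a.2) _ (Subgroup.mem_subgroupOf.mp b.2)
  obtain ⟨φ, hφ, rfl⟩ := tifnS_exists_eq_indFun hC hψ
  rw [indFun_one, IsIrrCharacter.map_one_of_comm hφ, mul_one]

/-- an irreducible character is not relevant iff it is trivial on `K` -/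
theorem scc_not_mem_iff (θ : IrrCharacter ↥NK) :
    (θ : ↥NK → ℂ) ∉ tifnS K ↔
      ∀ n ∈ K.subgroupOf NK, (θ : ↥NK → ℂ) n = (θ : ↥NK → ℂ) 1 := by
  constructor
  · intro h n hn
    exact apply_eq_of_not_mem_tifnS θ.2 h n (Subgroup.mem_subgroupOf.mp hn)
  · intro h hmem
    obtain ⟨-, k, hk, hne⟩ := hmem
    exact hne (h k (Subgroup.mem_subgroupOf.mpr hk))

open Classical in
/-- the sum of squares of degrees of the irrelevant characters is `e` -/
theorem scc_sum_sq_not_mem :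
    ∑ θ ∈ Finset.univ.filter (fun θ : IrrCharacter ↥NK => (θ : ↥NK → ℂ) ∉ tifnS K),
      ((θ : ↥NK → ℂ) 1) ^ 2 = ((K.subgroupOf NK).index : ℂ) := by
  haveI : (K.subgroupOf NK).Normal := Subgroup.normal_in_normalizer
  haveI : Fintype ↥(K.subgroupOf NK) := Fintype.ofFinite _
  rw [← sum_sq_degree_of_kernel_ge (K.subgroupOf NK)]
  apply Finset.sum_congr
  · ext θ
    simp only [Finset.mem_filter, Finset.mem_univ, true_and]
    exact scc_not_mem_iff θ
  · intro θ _
    rfl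

open Classical in
/-- `|S| e² + e = |N|` -/
theorem scc_card_mul (hC : ∀ k ∈ K, k ≠ 1 → Subgroup.centralizer ({k} : Set G) ≤ K)
    (hab : ∀ a ∈ K, ∀ b ∈ K, a * b = b * a) :
    ((Finset.univ.filter (fun θ : IrrCharacter ↥NK => (θ : ↥NK → ℂ) ∈ tifnS K)).card : ℂ) *
      ((K.subgroupOf NK).index : ℂ) ^ 2 + ((K.subgroupOf NK).index : ℂ) = (Nat.card ↥NK : ℂ) := by
  rw [← sum_irr_apply_one_sq (G := ↥NK),
    ← Finset.sum_filter_add_sum_filter_not Finset.univ
      (fun θ : IrrCharacter ↥NK => (θ : ↥NK → ℂ) ∈ tifnS K), scc_sum_sq_not_mem]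
  congr 1
  rw [Finset.sum_congr rfl (fun θ hθ => by
    rw [scc_degree hC hab (Finset.mem_filter.mp hθ).2]), Finset.sum_const, nsmul_eq_mul]

open Classical in
/-- `|S| e + 1 = |K|` -/
theorem scc_card_mul_nat (hC : ∀ k ∈ K, k ≠ 1 → Subgroup.centralizer ({k} : Set G) ≤ K)
    (hab : ∀ a ∈ K, ∀ b ∈ K, a * b = b * a) :
    (Finset.univ.filter (fun θ : IrrCharacter ↥NK => (θ : ↥NK → ℂ) ∈ tifnS K)).card *
      (K.subgroupOf NK).index + 1 = Nat.card K := by
  have h := scc_card_mul (K := K) hC hab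
  have hcard : Nat.card ↥NK = (K.subgroupOf NK).index * Nat.card K := by
    rw [← (K.subgroupOf NK).index_mul_card]
    congr 1
    exact Nat.card_congr (Subgroup.subgroupOfEquivOfLe (Subgroup.le_normalizer)).toEquiv
  have hepos : 0 < (K.subgroupOf NK).index := Nat.pos_of_ne_zero Subgroup.index_ne_zero_of_finite
  rw [hcard] at h
  generalize (Finset.univ.filter (fun θ : IrrCharacter ↥NK => (θ : ↥NK → ℂ) ∈ tifnS K)).card = s
    at h ⊢
  generalize (K.subgroupOf NK).index = e at h hepos ⊢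
  generalize Nat.card K = c at h ⊢
  have h' : (s * e + 1) * e = c * e := by
    have : (((s * e + 1) * e : ℕ) : ℂ) = ((c * e : ℕ) : ℂ) := by
      push_cast
      push_cast at h
      linear_combination h
    exact_mod_cast this
  exact Nat.eq_of_mul_eq_mul_right hepos h'

open Classical in
/-- the relevant characters sum to `-1` on `K#` -/
theorem scc_sum_apply (hC : ∀ k ∈ K, k ≠ 1 → Subgroup.centralizer ({k} : Set G) ≤ K)
    (hab : ∀ a ∈ K, ∀ b ∈ K, a * b = b * a) (k : ↥NK) (hk : (k : G) ∈ K) (hk1 : k ≠ 1) :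
    ∑ θ ∈ Finset.univ.filter (fun θ : IrrCharacter ↥NK => (θ : ↥NK → ℂ) ∈ tifnS K),
      (θ : ↥NK → ℂ) k = -1 := by
  have hcol := sum_irr_degree_mul_apply ↥NK hk1
  rw [← Finset.sum_filter_add_sum_filter_not Finset.univ
      (fun θ : IrrCharacter ↥NK => (θ : ↥NK → ℂ) ∈ tifnS K)] at hcol
  have h1 : ∑ θ ∈ Finset.univ.filter (fun θ : IrrCharacter ↥NK => (θ : ↥NK → ℂ) ∈ tifnS K),
      (charDegree (θ : ↥NK → ℂ) : ℂ) * (θ : ↥NK → ℂ) k =
      ((K.subgroupOf NK).index : ℂ) *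
        ∑ θ ∈ Finset.univ.filter (fun θ : IrrCharacter ↥NK => (θ : ↥NK → ℂ) ∈ tifnS K),
          (θ : ↥NK → ℂ) k := by
    rw [Finset.mul_sum]
    apply Finset.sum_congr rfl
    intro θ hθ
    rw [← IsCharacter.apply_one_eq_charDegree (IsIrrCharacter.isCharacter θ.2),
      scc_degree hC hab (Finset.mem_filter.mp hθ).2]
  have h2 : ∑ θ ∈ Finset.univ.filter (fun θ : IrrCharacter ↥NK => ¬ (θ : ↥NK → ℂ) ∈ tifnS K),
      (charDegree (θ : ↥NK → ℂ) : ℂ) * (θ : ↥NK → ℂ) k = ((K.subgroupOf NK).index : ℂ) := by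
    rw [← scc_sum_sq_not_mem (K := K)]
    apply Finset.sum_congr rfl
    intro θ hθ
    rw [apply_eq_of_not_mem_tifnS θ.2 (Finset.mem_filter.mp hθ).2 k hk,
      ← IsCharacter.apply_one_eq_charDegree (IsIrrCharacter.isCharacter θ.2), sq]
  rw [h1, h2] at hcol
  have hepos : ((K.subgroupOf NK).index : ℂ) ≠ 0 := by
    exact_mod_cast (Subgroup.index_ne_zero_of_finite (H := K.subgroupOf NK))
  have : ((K.subgroupOf NK).index : ℂ) *
      (∑ θ ∈ Finset.univ.filter (fun θ : IrrCharacter ↥NK => (θ : ↥NK → ℂ) ∈ tifnS K),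
          (θ : ↥NK → ℂ) k + 1) = 0 := by
    linear_combination hcol
  rcases mul_eq_zero.mp this with h | h
  · exact absurd h hepos
  · linear_combination h

/-- the centralizer in `N` of a non-identity element of `K` is `K` -/
theorem scc_centralizer_eq (hC : ∀ k ∈ K, k ≠ 1 → Subgroup.centralizer ({k} : Set G) ≤ K)
    (hab : ∀ a ∈ K, ∀ b ∈ K, a * b = b * a) (k : ↥NK) (hk : (k : G) ∈ K) (hk1 : k ≠ 1) :
    Subgroup.centralizer ({k} : Set ↥NK) = K.subgroupOf NK := by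
  apply le_antisymm
  · exact tifn_centralizer_le hC k (Subgroup.mem_subgroupOf.mpr hk) hk1
  · intro n hn
    rw [Subgroup.mem_centralizer_singleton_iff]
    apply Subtype.ext
    simp only [Subgroup.coe_mul]
    exact hab _ (Subgroup.mem_subgroupOf.mp hn) _ hk

/-- the centralizer in `G` of a non-identity element of `K` is `K` -/
theorem scc_centralizer_eq' (hC : ∀ k ∈ K, k ≠ 1 → Subgroup.centralizer ({k} : Set G) ≤ K)
    (hab : ∀ a ∈ K, ∀ b ∈ K, a * b = b * a) (k : G) (hk : k ∈ K) (hk1 : k ≠ 1) :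
    Subgroup.centralizer ({k} : Set G) = K := by
  apply le_antisymm (hC k hk hk1)
  intro n hn
  rw [Subgroup.mem_centralizer_singleton_iff]
  exact hab _ hn _ hk

/-- column orthogonality in `G` at a non-identity element of `K` -/
theorem scc_sum_normSq (hC : ∀ k ∈ K, k ≠ 1 → Subgroup.centralizer ({k} : Set G) ≤ K)
    (hab : ∀ a ∈ K, ∀ b ∈ K, a * b = b * a) (k : G) (hk : k ∈ K) (hk1 : k ≠ 1) :
    ∑ χ : IrrCharacter G, Complex.normSq ((χ : G → ℂ) k) = (Nat.card K : ℝ) := by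
  have h := second_orthogonality_of_isConj (G := G) (IsConj.refl k)
  rw [scc_centralizer_eq' hC hab k hk hk1] at h
  have h2 : ((∑ χ : IrrCharacter G, Complex.normSq ((χ : G → ℂ) k) : ℝ) : ℂ) =
      ((Nat.card K : ℝ) : ℂ) := by
    push_cast
    rw [← h]
    apply Finset.sum_congr rfl
    intro χ _
    rw [Complex.mul_conj]
  exact_mod_cast h2

open Classical in
/-- the relevant characters have square sum `|K| - e` on `K#` -/
theorem scc_sum_normSq_mem (hC : ∀ k ∈ K, k ≠ 1 → Subgroup.centralizer ({k} : Set G) ≤ K)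
    (hab : ∀ a ∈ K, ∀ b ∈ K, a * b = b * a) (k : ↥NK) (hk : (k : G) ∈ K) (hk1 : k ≠ 1) :
    ∑ θ ∈ Finset.univ.filter (fun θ : IrrCharacter ↥NK => (θ : ↥NK → ℂ) ∈ tifnS K),
      Complex.normSq ((θ : ↥NK → ℂ) k) = (Nat.card K : ℝ) - ((K.subgroupOf NK).index : ℝ) := by
  have h := second_orthogonality_of_isConj (G := ↥NK) (IsConj.refl k)
  rw [scc_centralizer_eq hC hab k hk hk1,
    Nat.card_congr (Subgroup.subgroupOfEquivOfLe (Subgroup.le_normalizer)).toEquiv,
    ← Finset.sum_filter_add_sum_filter_not Finset.univ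
      (fun θ : IrrCharacter ↥NK => (θ : ↥NK → ℂ) ∈ tifnS K)] at h
  have h2 : ∑ θ ∈ Finset.univ.filter (fun θ : IrrCharacter ↥NK => ¬ (θ : ↥NK → ℂ) ∈ tifnS K),
      (θ : ↥NK → ℂ) k * conj ((θ : ↥NK → ℂ) k) = ((K.subgroupOf NK).index : ℂ) := by
    rw [← scc_sum_sq_not_mem (K := K)]
    apply Finset.sum_congr rfl
    intro θ hθ
    rw [apply_eq_of_not_mem_tifnS θ.2 (Finset.mem_filter.mp hθ).2 k hk,
      IsCharacter.apply_one_eq_charDegree (IsIrrCharacter.isCharacter θ.2), Complex.conj_natCast,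
      sq]
  rw [h2] at h
  have h3 : ((∑ θ ∈ Finset.univ.filter (fun θ : IrrCharacter ↥NK => (θ : ↥NK → ℂ) ∈ tifnS K),
      Complex.normSq ((θ : ↥NK → ℂ) k) : ℝ) : ℂ) =
      (((Nat.card K : ℝ) - ((K.subgroupOf NK).index : ℝ) : ℝ) : ℂ) := by
    push_cast
    rw [← h]
    rw [add_sub_cancel_right]
    apply Finset.sum_congr rfl
    intro χ _
    rw [Complex.mul_conj]
  exact_mod_cast h3

end SCChar

end Cfsg.Agent.Lib.Helper71
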