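import Mathlib

/-!
# Self-centralizing elements of prime order: group theory (helper71)

`x` of prime order `p` with `C_G(x) = ⟨x⟩`.  `K = ⟨x⟩` is a T.I. Sylow subgroup.
-/

set_option autoImplicit false

namespace Cfsg.Agent.Lib.Helper71

section SC

variable {G : Type*} [Group G]

/-- In a cyclic subgroup of prime order, every non-identity element generates. -/
theorem scp_zpowers_eq {p : ℕ} (hp : p.Prime) {x : G} (hx : orderOf x = p) {k : G}
    (hk : k ∈ Subgroup.zpowers x) (hk1 : k ≠ 1) : Subgroup.zpowers k = Subgroup.zpowers x := by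
  have hle : Subgroup.zpowers k ≤ Subgroup.zpowers x := Subgroup.zpowers_le.mpr hk
  have hfin : Finite (Subgroup.zpowers x) := by
    apply Nat.finite_of_card_ne_zero
    rw [Nat.card_zpowers, hx]
    exact hp.ne_zero
  apply Subgroup.eq_of_le_of_card_ge hle
  rw [Nat.card_zpowers, Nat.card_zpowers, hx]
  have hdvd : orderOf k ∣ p := hx ▸ orderOf_dvd_of_mem_zpowers hk
  rcases (Nat.dvd_prime hp).mp hdvd with h1 | h1
  · exact absurd (orderOf_eq_one_iff.mp h1) hk1
  · exact h1.ge

theorem scp_orderOf_eq {p : ℕ} (hp : p.Prime) {x : G} (hx : orderOf x = p) {k : G}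
    (hk : k ∈ Subgroup.zpowers x) (hk1 : k ≠ 1) : orderOf k = p := by
  have hdvd : orderOf k ∣ p := hx ▸ orderOf_dvd_of_mem_zpowers hk
  rcases (Nat.dvd_prime hp).mp hdvd with h1 | h1
  · exact absurd (orderOf_eq_one_iff.mp h1) hk1
  · exact h1

/-- centralizers of non-identity elements of `K` lie in `K` -/
theorem scp_centralizer_le {p : ℕ} (hp : p.Prime) {x : G} (hx : orderOf x = p)
    (hC : Subgroup.centralizer ({x} : Set G) = Subgroup.zpowers x) :
    ∀ k ∈ Subgroup.zpowers x, k ≠ 1 → Subgroup.centralizer ({k} : Set G) ≤ Subgroup.zpowers x := by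
  intro k hk hk1 g hg
  rw [← hC, Subgroup.mem_centralizer_singleton_iff]
  rw [Subgroup.mem_centralizer_singleton_iff] at hg
  have hx' : x ∈ Subgroup.zpowers k := by
    rw [scp_zpowers_eq hp hx hk hk1]
    exact Subgroup.mem_zpowers x
  obtain ⟨n, hn⟩ := Subgroup.mem_zpowers_iff.mp hx'
  rw [← hn]
  have hc : Commute g k := hg
  exact (hc.zpow_right n).eq

theorem scp_comm {x : G} : ∀ a ∈ Subgroup.zpowers x, ∀ b ∈ Subgroup.zpowers x, a * b = b * a := by
  intro a ha b hb
  obtain ⟨m, rfl⟩ := Subgroup.mem_zpowers_iff.mp ha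
  obtain ⟨n, rfl⟩ := Subgroup.mem_zpowers_iff.mp hb
  exact ((Commute.refl x).zpow_zpow m n).eq

/-- `K` is a T.I. subgroup -/
theorem scp_TI {p : ℕ} (hp : p.Prime) {x : G} (hx : orderOf x = p) :
    ∀ g : G, g ∉ Subgroup.normalizer ((Subgroup.zpowers x : Subgroup G) : Set G) →
      ∀ k ∈ Subgroup.zpowers x, g * k * g⁻¹ ∈ Subgroup.zpowers x → k = 1 := by
  intro g hg k hk hgk
  by_contra hk1
  apply hg
  have hgk1 : g * k * g⁻¹ ≠ 1 := by
    intro h
    apply hk1
    have : k = g⁻¹ * (g * k * g⁻¹) * g := by group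
    rw [this, h]; group
  have h1 := scp_zpowers_eq hp hx hk hk1
  have h2 := scp_zpowers_eq hp hx hgk hgk1
  rw [Subgroup.mem_set_normalizer_iff]
  intro h
  rw [SetLike.mem_coe, SetLike.mem_coe]
  constructor
  · intro hh
    rw [← h1] at hh
    obtain ⟨n, rfl⟩ := Subgroup.mem_zpowers_iff.mp hh
    have : g * k ^ n * g⁻¹ = (g * k * g⁻¹) ^ n := by
      rw [conj_zpow]
    rw [this]
    exact Subgroup.zpow_mem _ hgk n
  · intro hh
    rw [← h2] at hh
    obtain ⟨n, hn⟩ := Subgroup.mem_zpowers_iff.mp hh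
    have : h = k ^ n := by
      have e : g * h * g⁻¹ = g * k ^ n * g⁻¹ := by rw [← hn, conj_zpow]
      have e2 := mul_right_cancel e
      exact mul_left_cancel e2
    rw [this]
    exact Subgroup.zpow_mem _ hk n

/-- `K` is a Sylow `p`-subgroup: any `p`-subgroup containing `x` is `K`. -/
theorem scp_pgroup_le [Finite G] {p : ℕ} [Fact p.Prime] {x : G} (hx : orderOf x = p)
    (hC : Subgroup.centralizer ({x} : Set G) = Subgroup.zpowers x)
    (P : Subgroup G) (hP : IsPGroup p P) (hxP : x ∈ P) : P ≤ Subgroup.zpowers x := by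
  have hp : p.Prime := Fact.out
  have hx1 : x ≠ 1 := by
    intro h
    rw [h, orderOf_one] at hx
    exact hp.one_lt.ne hx
  haveI : Nontrivial P := ⟨⟨⟨x, hxP⟩, 1, fun h => hx1 (congrArg Subtype.val h)⟩⟩
  haveI := hP.center_nontrivial
  obtain ⟨z, hz1⟩ := exists_ne (1 : Subgroup.center P)
  have hzc : ∀ y : P, y * (z : P) = (z : P) * y := fun y =>
    Subgroup.mem_center_iff.mp z.2 y
  have hz1' : ((z : P) : G) ≠ 1 := by
    intro h
    apply hz1
    apply Subtype.ext
    apply Subtype.ext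
    exact h
  have hzK : ((z : P) : G) ∈ Subgroup.zpowers x := by
    rw [← hC, Subgroup.mem_centralizer_singleton_iff]
    have := congrArg Subtype.val (hzc ⟨x, hxP⟩)
    simpa using this.symm
  have hle := scp_centralizer_le hp hx hC _ hzK hz1'
  intro y hy
  apply hle
  rw [Subgroup.mem_centralizer_singleton_iff]
  have := congrArg Subtype.val (hzc ⟨y, hy⟩)
  simpa using this

/-- every element of order `p` is conjugate into `K` -/
theorem scp_exists_conj_mem [Finite G] {p : ℕ} [Fact p.Prime] {x : G} (hx : orderOf x = p)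
    (hC : Subgroup.centralizer ({x} : Set G) = Subgroup.zpowers x)
    (g : G) (hg : orderOf g = p) : ∃ c : G, c * g * c⁻¹ ∈ Subgroup.zpowers x := by
  have hp : p.Prime := Fact.out
  have hK : IsPGroup p (Subgroup.zpowers x) := by
    apply IsPGroup.of_card (n := 1)
    rw [Nat.card_zpowers, hx, pow_one]
  have hg' : IsPGroup p (Subgroup.zpowers g) := by
    apply IsPGroup.of_card (n := 1)
    rw [Nat.card_zpowers, hg, pow_one]
  obtain ⟨P, hP⟩ := hK.exists_le_sylow
  obtain ⟨Q, hQ⟩ := hg'.exists_le_sylow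
  have hPK : (P : Subgroup G) ≤ Subgroup.zpowers x :=
    scp_pgroup_le hx hC P P.2 (hP (Subgroup.mem_zpowers x))
  obtain ⟨c, hc⟩ := MulAction.exists_smul_eq G Q P
  refine ⟨c, hPK ?_⟩
  have hgQ : g ∈ (Q : Subgroup G) := hQ (Subgroup.mem_zpowers g)
  have : c * g * c⁻¹ ∈ ((c • Q : Sylow p G) : Subgroup G) := by
    rw [Sylow.coe_subgroup_smul]
    rw [Subgroup.mem_pointwise_smul_iff_inv_smul_mem]
    simp only [MulAut.smul_def, map_inv, MulAut.inv_apply, MulAut.conj_symm_apply]
    have : c⁻¹ * (c * g * c⁻¹) * c = g := by group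
    rw [this]
    exact hgQ
  rw [hc] at this
  exact this

end SC

end Cfsg.Agent.Lib.Helper71
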