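import Mathlib
import Cfsg.Agent.Lib.Helper71.SCGroup
import Cfsg.Agent.Lib.Helper71.OnePClass

/-!
# Self-centralizing elements of prime order: counting classes (helper71)

`t * e = p - 1`, where `t` is the number of classes of elements of order `p` and `e = |N_G(K) : K|`.
-/

set_option autoImplicit false

namespace Cfsg.Agent.Lib.Helper71

section SCCount

variable {G : Type*} [Group G] [Finite G]

omit [Finite G] in
/-- the centralizer in `N_G(K)` of a non-identity element of `K` is `K` -/
theorem scp_centralizer_in_normalizer {p : ℕ} (hp : p.Prime) {x : G} (hx : orderOf x = p)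
    (hC : Subgroup.centralizer ({x} : Set G) = Subgroup.zpowers x)
    (k₀ : ↥(Subgroup.normalizer ((Subgroup.zpowers x : Subgroup G) : Set G)))
    (hk₀ : (k₀ : G) ∈ Subgroup.zpowers x) (hk₀1 : (k₀ : G) ≠ 1) :
    Subgroup.centralizer ({k₀} : Set ↥(Subgroup.normalizer ((Subgroup.zpowers x : Subgroup G) : Set G)))
      = (Subgroup.zpowers x).subgroupOf (Subgroup.normalizer ((Subgroup.zpowers x : Subgroup G) : Set G)) := by
  ext n
  rw [Subgroup.mem_centralizer_singleton_iff, Subgroup.mem_subgroupOf]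
  constructor
  · intro h
    apply scp_centralizer_le hp hx hC (k₀ : G) hk₀ hk₀1
    rw [Subgroup.mem_centralizer_singleton_iff]
    have := congrArg Subtype.val h
    simpa using this
  · intro h
    apply Subtype.ext
    simp only [Subgroup.coe_mul]
    exact scp_comm _ h _ hk₀

/-- the `G`-conjugates in `K` of a non-identity element of `K` number `e = |N_G(K) : K|` -/
theorem scp_card_fiber {p : ℕ} (hp : p.Prime) {x : G} (hx : orderOf x = p)
    (hC : Subgroup.centralizer ({x} : Set G) = Subgroup.zpowers x)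
    (k₀ : G) (hk₀ : k₀ ∈ Subgroup.zpowers x) (hk₀1 : k₀ ≠ 1) :
    Nat.card {k : G // k ∈ Subgroup.zpowers x ∧ k ≠ 1 ∧ IsConj k₀ k} =
      ((Subgroup.zpowers x).subgroupOf
        (Subgroup.normalizer ((Subgroup.zpowers x : Subgroup G) : Set G))).index := by
  classical
  set N := Subgroup.normalizer ((Subgroup.zpowers x : Subgroup G) : Set G) with hN
  let k₀' : N := ⟨k₀, Subgroup.le_normalizer hk₀⟩
  have hcen := scp_centralizer_in_normalizer hp hx hC k₀' hk₀ hk₀1
  rw [← hcen, ← onep_card_carrier_eq_index k₀']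
  symm
  let f : (ConjClasses.mk k₀').carrier → {k : G // k ∈ Subgroup.zpowers x ∧ k ≠ 1 ∧ IsConj k₀ k} :=
    fun n => ⟨((n : N) : G), by
      have hn := ConjClasses.mem_carrier_iff_mk_eq.mp n.2
      have hconj : IsConj k₀' (n : N) := (ConjClasses.mk_eq_mk_iff_isConj.mp hn).symm
      obtain ⟨c, hc⟩ := isConj_iff.mp hconj
      have hc' : (c : G) * k₀ * (c : G)⁻¹ = ((n : N) : G) := by
        have := congrArg Subtype.val hc
        simpa using this
      refine ⟨?_, ?_, ?_⟩
      · rw [← hc']
        exact (Subgroup.mem_set_normalizer_iff.mp c.2 k₀).mp hk₀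
      · rw [← hc']
        intro h
        apply hk₀1
        have : k₀ = (c : G)⁻¹ * ((c : G) * k₀ * (c : G)⁻¹) * (c : G) := by group
        rw [this, h]; group
      · exact isConj_iff.mpr ⟨(c : G), hc'⟩⟩
  apply Nat.card_congr
  apply Equiv.ofBijective f
  constructor
  · intro a b hab
    apply Subtype.ext
    apply Subtype.ext
    have := congrArg Subtype.val hab
    exact this
  · rintro ⟨k, hk, hk1, hconj⟩
    obtain ⟨c, hc⟩ := isConj_iff.mp hconj
    have hcN : c ∈ N := by
      by_contra hcn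
      apply hk₀1
      apply scp_TI hp hx c hcn k₀ hk₀
      rw [hc]
      exact hk
    have hkN : k ∈ N := Subgroup.le_normalizer hk
    refine ⟨⟨⟨k, hkN⟩, ?_⟩, ?_⟩
    · apply ConjClasses.mem_carrier_iff_mk_eq.mpr
      apply ConjClasses.mk_eq_mk_iff_isConj.mpr
      apply IsConj.symm
      apply isConj_iff.mpr
      refine ⟨⟨c, hcN⟩, ?_⟩
      apply Subtype.ext
      simpa using hc
    · rfl

/-- number of classes of elements of order `p`, times `e`, is `p - 1` -/
theorem scp_count {p : ℕ} [Fact p.Prime] {x : G} (hx : orderOf x = p)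
    (hC : Subgroup.centralizer ({x} : Set G) = Subgroup.zpowers x) :
    Nat.card {C : ConjClasses G // ∃ g ∈ C.carrier, orderOf g = p} *
      ((Subgroup.zpowers x).subgroupOf
        (Subgroup.normalizer ((Subgroup.zpowers x : Subgroup G) : Set G))).index = p - 1 := by
  classical
  have hp : p.Prime := Fact.out
  set e := ((Subgroup.zpowers x).subgroupOf
        (Subgroup.normalizer ((Subgroup.zpowers x : Subgroup G) : Set G))).index with he
  -- the non-identity elements of K
  have hcardα : Nat.card {k : G // k ∈ Subgroup.zpowers x ∧ k ≠ 1} = p - 1 := by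
    have h1 : Nat.card {k : Subgroup.zpowers x // k = 1} + Nat.card {k : Subgroup.zpowers x // ¬ k = 1}
        = Nat.card (Subgroup.zpowers x) := onep_card_split _
    rw [Nat.card_zpowers, hx, Nat.card_unique] at h1
    have h2 : Nat.card {k : G // k ∈ Subgroup.zpowers x ∧ k ≠ 1} =
        Nat.card {k : Subgroup.zpowers x // ¬ k = 1} := by
      apply Nat.card_congr
      refine ⟨fun k => ⟨⟨k.1, k.2.1⟩, fun h => k.2.2 (congrArg Subtype.val h)⟩,
        fun k => ⟨k.1.1, k.1.2, fun h => k.2 (Subtype.ext h)⟩, fun k => rfl, fun k => rfl⟩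
    omega
  let f : {k : G // k ∈ Subgroup.zpowers x ∧ k ≠ 1} →
      {C : ConjClasses G // ∃ g ∈ C.carrier, orderOf g = p} :=
    fun k => ⟨ConjClasses.mk k.1, k.1, ConjClasses.mem_carrier_mk, scp_orderOf_eq hp hx k.2.1 k.2.2⟩
  haveI : Fintype {C : ConjClasses G // ∃ g ∈ C.carrier, orderOf g = p} := Fintype.ofFinite _
  have hsig : Nat.card {k : G // k ∈ Subgroup.zpowers x ∧ k ≠ 1} =
      ∑ b : {C : ConjClasses G // ∃ g ∈ C.carrier, orderOf g = p},
        Nat.card {a : {k : G // k ∈ Subgroup.zpowers x ∧ k ≠ 1} // f a = b} := by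
    rw [← Nat.card_sigma]
    exact Nat.card_congr (Equiv.sigmaFiberEquiv f).symm
  have hfib : ∀ b : {C : ConjClasses G // ∃ g ∈ C.carrier, orderOf g = p},
      Nat.card {a : {k : G // k ∈ Subgroup.zpowers x ∧ k ≠ 1} // f a = b} = e := by
    rintro ⟨C, g, hgC, hg⟩
    obtain ⟨c, hc⟩ := scp_exists_conj_mem hx hC g hg
    set k₀ := c * g * c⁻¹ with hk₀
    have hk₀1 : k₀ ≠ 1 := by
      intro h
      have : g = c⁻¹ * k₀ * c := by rw [hk₀]; group
      rw [h] at this
      have hg1 : g = 1 := by rw [this]; group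
      rw [hg1, orderOf_one] at hg
      exact hp.one_lt.ne hg
    have hmk : ConjClasses.mk k₀ = C := by
      rw [← ConjClasses.mem_carrier_iff_mk_eq.mp hgC]
      apply ConjClasses.mk_eq_mk_iff_isConj.mpr
      exact (isConj_iff.mpr ⟨c, rfl⟩).symm
    rw [he, ← scp_card_fiber hp hx hC k₀ hc hk₀1]
    apply Nat.card_congr
    refine ⟨fun a => ⟨a.1.1, a.1.2.1, a.1.2.2, ?_⟩, fun k => ⟨⟨k.1, k.2.1, k.2.2.1⟩, ?_⟩,
      fun a => rfl, fun k => rfl⟩
    · have h1 : ConjClasses.mk a.1.1 = C := congrArg Subtype.val a.2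
      have h2 : ConjClasses.mk a.1.1 = ConjClasses.mk k₀ := h1.trans hmk.symm
      exact (ConjClasses.mk_eq_mk_iff_isConj.mp h2).symm
    · apply Subtype.ext
      show ConjClasses.mk k.1 = C
      exact (ConjClasses.mk_eq_mk_iff_isConj.mpr k.2.2.2.symm).trans hmk
  rw [hcardα] at hsig
  rw [hsig, Finset.sum_congr rfl (fun b _ => hfib b), Finset.sum_const, Finset.card_univ,
    smul_eq_mul, Nat.card_eq_fintype_card]

end SCCount

end Cfsg.Agent.Lib.Helper71
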