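import Mathlib
import Cfsg.Agent.Lib.Helper15.DetChar

/-!
# Determinant of a character vanishing off the identity on a cyclic subgroup (helper71)
-/

set_option autoImplicit false

namespace Cfsg.Agent.Lib.Helper71

open Cfsg Module

/-- power sums of the multiset consisting of `t` copies of all `e`-th roots of unity -/
theorem scd_psum (e t : ℕ) (_he : 0 < e) {ζ : ℂ} (hζ : IsPrimitiveRoot ζ e) (k : ℕ) :
    ∑ ic : Fin t × Fin e, (ζ ^ (ic.2 : ℕ)) ^ k = if e ∣ k then ((t * e : ℕ) : ℂ) else 0 := by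
  rw [Fintype.sum_prod_type]
  have hinner : ∑ c : Fin e, (ζ ^ (c : ℕ)) ^ k = if e ∣ k then (e : ℂ) else 0 := by
    rw [Fin.sum_univ_eq_sum_range (fun c => (ζ ^ c) ^ k) e]
    have hsw : ∀ c : ℕ, (ζ ^ c) ^ k = (ζ ^ k) ^ c := fun c => by
      rw [← pow_mul, ← pow_mul, mul_comm]
    rw [Finset.sum_congr rfl (fun c _ => hsw c)]
    split_ifs with hd
    · have h1 : ζ ^ k = 1 := (hζ.pow_eq_one_iff_dvd k).mpr hd
      rw [h1]
      simp
    · have h1 : ζ ^ k ≠ 1 := fun h => hd ((hζ.pow_eq_one_iff_dvd k).mp h)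
      rw [geom_sum_eq h1]
      have h2 : (ζ ^ k) ^ e = 1 := by
        rw [← pow_mul, mul_comm, pow_mul, hζ.pow_eq_one, one_pow]
      rw [h2, sub_self, zero_div]
  rw [Finset.sum_congr rfl (fun i _ => hinner)]
  rw [Finset.sum_const, Finset.card_univ, Fintype.card_fin]
  split_ifs with hd
  · push_cast
    simp
  · simp

/-- the product of `t` copies of all `e`-th roots of unity, `e` even, `t` odd -/
theorem scd_prod (e t : ℕ) (he : Even e) (he0 : 0 < e) (ht : Odd t) {ζ : ℂ}
    (hζ : IsPrimitiveRoot ζ e) :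
    ∏ ic : Fin t × Fin e, ζ ^ (ic.2 : ℕ) = -1 := by
  rw [Fintype.prod_prod_type]
  have hinner : ∏ c : Fin e, ζ ^ (c : ℕ) = -1 := by
    rw [Fin.prod_univ_eq_prod_range (fun c => ζ ^ c) e, Finset.prod_pow_eq_pow_sum]
    obtain ⟨m, hm⟩ := he
    have hm0 : 0 < m := by omega
    have hsum : ∑ c ∈ Finset.range e, c = m * (2 * m - 1) := by
      have h := Finset.sum_range_id_mul_two e
      have h2 : e * (e - 1) = (m * (2 * m - 1)) * 2 := by
        rw [hm]
        have : m + m - 1 = 2 * m - 1 := by omega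
        rw [this]
        ring
      rw [h2] at h
      exact Nat.eq_of_mul_eq_mul_right (by norm_num) h
    rw [hsum, pow_mul]
    have h2 : IsPrimitiveRoot (ζ ^ m) 2 := hζ.pow he0 (by omega)
    rw [h2.eq_neg_one_of_two_right]
    apply Odd.neg_one_pow
    exact ⟨m - 1, by omega⟩
  rw [Finset.prod_congr rfl (fun i _ => hinner), Finset.prod_const, Finset.card_univ,
    Fintype.card_fin]
  exact ht.neg_one_pow

variable {G : Type*} [Group G] [Finite G]

/-- If `χ` has degree `t * e`, `y` has order `e` and `χ` vanishes at the non-identity powers of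
`y`, with `e` even and `t` odd, then `det χ (y) = -1`. -/
theorem scd_detChar_eq_neg_one {χ : G → ℂ} (hχ : IsCharacter G χ) (y : G) (e t : ℕ)
    (he : Even e) (ht : Odd t) (hord : orderOf y = e) (hdeg : χ 1 = ((t * e : ℕ) : ℂ))
    (hvan : ∀ j : ℕ, ¬ e ∣ j → χ (y ^ j) = 0) : Cfsg.detChar χ y = -1 := by
  classical
  obtain ⟨n, ρ, rfl⟩ := hχ
  have he0 : 0 < e := by
    rw [← hord]
    exact orderOf_pos y
  rw [Cfsg.Agent.Lib.Helper15.detChar_eq_det]
  obtain ⟨b, μ, hb, -⟩ := Cfsg.Agent.Lib.Helper3.exists_eigenbasis ρ y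
  rw [Cfsg.Agent.Lib.Helper15.det_eq_prod_of_eigenbasis (ρ y) b μ hb]
  have hpow : ∀ (k : ℕ) (i), ρ (y ^ k) (b i) = μ i ^ k • b i := by
    intro k i
    induction k with
    | zero => simp
    | succ k ih =>
      rw [pow_succ', map_mul, Module.End.mul_apply, ih, map_smul, hb i, smul_smul, pow_succ]
  have hps : ∀ k : ℕ, ∑ i, μ i ^ k = if e ∣ k then ((t * e : ℕ) : ℂ) else 0 := by
    intro k
    rw [← Cfsg.Agent.Lib.Helper3.character_eq_sum_of_eigenbasis ρ (y ^ k) b (fun i => μ i ^ k)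
      (hpow k)]
    split_ifs with hd
    · have : y ^ k = 1 := by
        rw [← hord] at hd
        exact orderOf_dvd_iff_pow_eq_one.mp hd
      rw [this, hdeg]
    · exact hvan k hd
  have hdim : finrank ℂ (Fin n → ℂ) = t * e := by
    have h1 : ρ.character 1 = (finrank ℂ (Fin n → ℂ) : ℂ) := Representation.char_one ρ
    rw [hdeg] at h1
    exact_mod_cast h1.symm
  have hcard : Fintype.card (Fin (finrank ℂ (Fin n → ℂ))) = Fintype.card (Fin t × Fin e) := by
    rw [Fintype.card_fin, Fintype.card_prod, Fintype.card_fin, Fintype.card_fin, hdim]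
  let eqv : Fin (finrank ℂ (Fin n → ℂ)) ≃ Fin t × Fin e := Fintype.equivOfCardEq hcard
  obtain ⟨ζ, hζ⟩ : ∃ ζ : ℂ, IsPrimitiveRoot ζ e :=
    ⟨_, Complex.isPrimitiveRoot_exp e he0.ne'⟩
  have hre : ∏ i, μ i = ∏ ic : Fin t × Fin e, μ (eqv.symm ic) :=
    (Equiv.prod_comp eqv.symm μ).symm
  rw [hre, ← scd_prod e t he he0 ht hζ]
  apply Cfsg.Agent.Lib.Helper15.prod_eq_of_psum_eq
  intro k _
  rw [Equiv.sum_comp eqv.symm (fun i => μ i ^ k), hps k, scd_psum e t he0 hζ k]

/-- a determinantal character taking the value `-1` forces the commutator subgroup to have even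
index -/
theorem scd_even_index {χ : G → ℂ} (hχ : IsCharacter G χ) (y : G)
    (h : Cfsg.detChar χ y = -1) : Even (commutator G).index := by
  obtain ⟨δ, hδ⟩ := Cfsg.Agent.Lib.Helper15.exists_detHom hχ
  have h1 : δ y = -1 := by
    apply Units.ext
    rw [← hδ y, h]
    simp
  have hle : commutator G ≤ δ.ker := Abelianization.commutator_subset_ker δ
  have hdvd : δ.ker.index ∣ (commutator G).index := Subgroup.index_dvd_of_le hle
  rw [Subgroup.index_ker] at hdvd
  have hord : orderOf (δ y) = 2 := by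
    rw [h1, ← orderOf_units, Units.coe_neg_one, orderOf_neg_one, ringChar.eq_zero]
    norm_num
  have hmem : δ y ∈ δ.range := ⟨y, rfl⟩
  have h2 : orderOf (⟨δ y, hmem⟩ : δ.range) = 2 := by
    rw [← hord]
    exact Subgroup.orderOf_mk (δ y) hmem
  have h3 : 2 ∣ Nat.card δ.range := by
    rw [← h2]
    exact orderOf_dvd_natCard _
  exact even_iff_two_dvd.mpr (dvd_trans h3 hdvd)

end Cfsg.Agent.Lib.Helper71
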