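import Mathlib
import Cfsg.Agent.Lib.Helper71.SCGroup

/-!
# Self-centralizing elements of prime order: `N_G(K)/K` is cyclic (helper71)
-/

set_option autoImplicit false

namespace Cfsg.Agent.Lib.Helper71

section SCGen

variable {G : Type*} [Group G]

/-- there is `y ∈ N_G(K)` whose powers meet `K` exactly in the multiples of `e = |N_G(K):K|` -/
theorem scp_exists_generator {p : ℕ} [Fact p.Prime] {x : G} (hx : orderOf x = p)
    (hC : Subgroup.centralizer ({x} : Set G) = Subgroup.zpowers x) :
    ∃ y ∈ Subgroup.normalizer ((Subgroup.zpowers x : Subgroup G) : Set G),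
      ∀ j : ℕ, y ^ j ∈ Subgroup.zpowers x ↔
        ((Subgroup.zpowers x).subgroupOf
          (Subgroup.normalizer ((Subgroup.zpowers x : Subgroup G) : Set G))).index ∣ j := by
  classical
  have hp : p.Prime := Fact.out
  set N := Subgroup.normalizer ((Subgroup.zpowers x : Subgroup G) : Set G) with hN
  set Kn := (Subgroup.zpowers x).subgroupOf N with hKn
  haveI : Kn.Normal := Subgroup.normal_in_normalizer
  let φ : N →* MulAut Kn := MulAut.conjNormal
  have hxN : x ∈ N := Subgroup.le_normalizer (Subgroup.mem_zpowers x)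
  have hker : φ.ker = Kn := by
    ext n
    rw [MonoidHom.mem_ker]
    show φ n = 1 ↔ (n : G) ∈ Subgroup.zpowers x
    constructor
    · intro h
      rw [← hC, Subgroup.mem_centralizer_singleton_iff]
      have h1 := congrArg (fun a : MulAut Kn => ((a ⟨⟨x, hxN⟩, Subgroup.mem_subgroupOf.mpr (Subgroup.mem_zpowers x)⟩ : Kn) : N)) h
      simp only [MulAut.one_apply] at h1
      have h2 : (n : G) * x * (n : G)⁻¹ = x := by
        have := congrArg Subtype.val h1
        simpa [φ] using this
      calc (n : G) * x = ((n : G) * x * (n : G)⁻¹) * (n : G) := by group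
        _ = x * (n : G) := by rw [h2]
    · intro h
      apply MulEquiv.ext
      intro k
      apply Subtype.ext
      apply Subtype.ext
      simp only [MulAut.one_apply]
      show (n : G) * ((k : N) : G) * (n : G)⁻¹ = ((k : N) : G)
      have hk : ((k : N) : G) ∈ Subgroup.zpowers x := Subgroup.mem_subgroupOf.mp k.2
      rw [scp_comm _ h _ hk]
      group
  have hcardKn : Nat.card Kn = p := by
    rw [Nat.card_congr (Subgroup.subgroupOfEquivOfLe
      (Subgroup.le_normalizer (H := Subgroup.zpowers x))).toEquiv, Nat.card_zpowers, hx]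
  haveI : IsCyclic Kn := by
    apply isCyclic_of_injective (Subgroup.subgroupOfEquivOfLe
      (Subgroup.le_normalizer (H := Subgroup.zpowers x))).toMonoidHom
    exact (Subgroup.subgroupOfEquivOfLe _).injective
  haveI : Fact (Nat.card Kn).Prime := ⟨by rw [hcardKn]; exact hp⟩
  haveI : IsCyclic (MulAut Kn) :=
    isCyclic_of_injective (IsCyclic.mulAutMulEquiv Kn).toMonoidHom
      (IsCyclic.mulAutMulEquiv Kn).injective
  haveI : IsCyclic (N ⧸ φ.ker) :=
    isCyclic_of_injective (QuotientGroup.kerLift φ) (QuotientGroup.kerLift_injective φ)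
  obtain ⟨q, hq⟩ := IsCyclic.exists_generator (α := N ⧸ φ.ker)
  have hordq : orderOf q = Nat.card (N ⧸ φ.ker) := orderOf_eq_card_of_forall_mem_zpowers hq
  obtain ⟨y, rfl⟩ := QuotientGroup.mk_surjective q
  refine ⟨(y : G), y.2, ?_⟩
  intro j
  have h1 : (y : G) ^ j ∈ Subgroup.zpowers x ↔ y ^ j ∈ φ.ker := by
    rw [hker]
    show _ ↔ ((y ^ j : N) : G) ∈ Subgroup.zpowers x
    simp
  rw [h1, ← QuotientGroup.eq_one_iff, QuotientGroup.mk_pow, ← orderOf_dvd_iff_pow_eq_one, hordq,
    ← Subgroup.index_eq_card, hker]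

/-- such a `y` has order exactly `e` when `e ≥ 2` -/
theorem scp_orderOf_generator {p : ℕ} (hp : p.Prime) {x : G} (hx : orderOf x = p)
    (hC : Subgroup.centralizer ({x} : Set G) = Subgroup.zpowers x) {e : ℕ} (he : 2 ≤ e) {y : G}
    (hy : ∀ j : ℕ, y ^ j ∈ Subgroup.zpowers x ↔ e ∣ j) : orderOf y = e := by
  have hyK : y ∉ Subgroup.zpowers x := by
    intro h
    have := (hy 1).mp (by simpa using h)
    have := Nat.le_of_dvd Nat.one_pos this
    omega
  have hye : y ^ e ∈ Subgroup.zpowers x := (hy e).mpr dvd_rfl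
  have hye1 : y ^ e = 1 := by
    by_contra h
    apply hyK
    apply scp_centralizer_le hp hx hC _ hye h
    rw [Subgroup.mem_centralizer_singleton_iff]
    exact ((Commute.refl y).pow_right e).eq
  apply Nat.dvd_antisymm (orderOf_dvd_of_pow_eq_one hye1)
  apply (hy (orderOf y)).mp
  rw [pow_orderOf_eq_one]
  exact Subgroup.one_mem _

end SCGen

end Cfsg.Agent.Lib.Helper71
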