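import Mathlib
import Cfsg.Agent.Lib.Helper71.SCChar

/-!
# A character of degree `p - 1` vanishes on `N_G(K) \ K` (helper71)
-/

set_option autoImplicit false
set_option linter.unusedSectionVars false
set_option linter.style.haveILetI false

namespace Cfsg.Agent.Lib.Helper71

open Cfsg Cfsg.Agent.Lib.Helper78 Cfsg.Agent.Lib.Helper75 Cfsg.Agent.Lib.Helper74
open scoped ComplexConjugate

universe u


theorem scm_arith (s e c a εz m : ℤ) (hs : 2 ≤ s) (he : 2 ≤ e) (hc : 0 ≤ c) (ha : 0 ≤ a)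
    (hε : εz = 1 ∨ εz = -1) (hcε : 0 ≤ c + εz) (hdeg : s * e = c * s * e + εz * e + a)
    (hm : m = a - c) (hineq : s * m ^ 2 - 2 * εz * m + 1 ≤ e) : False := by
  rcases hε with h | h
  · subst h
    -- a = e (s - c s - 1)
    have hc0 : c = 0 := by
      by_contra hne
      have hc1 : 1 ≤ c := by omega
      have h1 : s * e ≤ c * s * e := by
        have : 0 ≤ (c - 1) * (s * e) := mul_nonneg (by omega) (mul_nonneg (by omega) (by omega))
        nlinarith
      nlinarith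
    subst hc0
    have ha' : a = e * (s - 1) := by linarith
    have hm' : m = e * (s - 1) := by rw [hm, ha']; ring
    have hme : e ≤ m := by
      rw [hm']
      nlinarith
    have hm2 : 2 ≤ m := by omega
    nlinarith [mul_nonneg (by omega : (0:ℤ) ≤ s - 2) (sq_nonneg m)]
  · subst h
    have hc1 : 1 ≤ c := by omega
    have hc1' : c = 1 := by
      by_contra hne
      have hc2 : 2 ≤ c := by omega
      have h1 : 0 ≤ (c - 2) * (s * e) := mul_nonneg (by omega) (mul_nonneg (by omega) (by omega))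
      nlinarith
    subst hc1'
    have ha' : a = e := by linarith
    have hm' : m = e - 1 := by rw [hm, ha']
    have hm1 : 1 ≤ m := by omega
    nlinarith [mul_nonneg (by omega : (0:ℤ) ≤ s - 2) (sq_nonneg m)]

theorem scm_normSq_add (M : ℝ) (z : ℂ) :
    Complex.normSq ((M : ℂ) + z) = M ^ 2 + 2 * M * z.re + Complex.normSq z := by
  simp only [Complex.normSq_apply, Complex.add_re, Complex.ofReal_re, Complex.add_im,
    Complex.ofReal_im]
  ring

theorem scm_normSq_sub (M : ℝ) (z : ℂ) :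
    Complex.normSq ((M : ℂ) - z) = M ^ 2 - 2 * M * z.re + Complex.normSq z := by
  simp only [Complex.normSq_apply, Complex.sub_re, Complex.ofReal_re, Complex.sub_im,
    Complex.ofReal_im]
  ring

section SCMain

variable {G : Type u} [Group G] [Fintype G] {K : Subgroup G}

local notation "NK" => Subgroup.normalizer (K : Set G)

variable [Fintype ↥(Subgroup.normalizer (K : Set G))]

open Classical in
/-- expansion of a character of `N`, split into relevant and irrelevant constituents -/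
theorem scm_expand {γ : ↥NK → ℂ} (hγ : IsCharacter ↥NK γ) (n : ↥NK) :
    γ n = ∑ θ ∈ Finset.univ.filter (fun θ : IrrCharacter ↥NK => (θ : ↥NK → ℂ) ∈ tifnS K),
        classInner γ (θ : ↥NK → ℂ) * (θ : ↥NK → ℂ) n +
      ∑ θ ∈ Finset.univ.filter (fun θ : IrrCharacter ↥NK => ¬ (θ : ↥NK → ℂ) ∈ tifnS K),
        classInner γ (θ : ↥NK → ℂ) * (θ : ↥NK → ℂ) n := by
  have h := congrFun (IsCharacter.eq_sum_irr hγ) n
  simp only [Finset.sum_apply, Pi.smul_apply, smul_eq_mul] at h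
  rw [Finset.sum_filter_add_sum_filter_not]
  exact h

/-- Frobenius reciprocity against a difference of relevant characters whose induction is known -/
theorem scm_diff {χ : G → ℂ} (hχ : IsIrrCharacter G χ) {ψ ξ : ↥NK → ℂ} {ε : ℂ}
    (hε : ε = 1 ∨ ε = -1) {μ ν : G → ℂ} (hμ : IsIrrCharacter G μ) (hν : IsIrrCharacter G ν)
    (hind : indFun NK (ψ - ξ) = ε • (μ - ν)) :
    classInner (fun n : ↥NK => χ n) ψ - classInner (fun n : ↥NK => χ n) ξ =
      ε * ((if χ = μ then 1 else 0) - (if χ = ν then 1 else 0)) := by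
  rw [← Cfsg.Agent.Lib.Helper26.classInner_sub_right,
    ← frobenius_reciprocity' NK (ψ - ξ) (IsCharacter.isClassFunction (IsIrrCharacter.isCharacter hχ)),
    hind, classInner_smul_right, Cfsg.Agent.Lib.Helper26.classInner_sub_right,
    classInner_irr hχ hμ, classInner_irr hχ hν]
  rcases hε with h | h <;> rw [h] <;> simp

/-- values on `K#` and at `1` of a character linked to `χ` by induction of a difference -/
theorem scm_apply_of_ind
    (hTI : ∀ g : G, g ∉ NK → ∀ k ∈ K, g * k * g⁻¹ ∈ K → k = 1)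
    (hC : ∀ k ∈ K, k ≠ 1 → Subgroup.centralizer ({k} : Set G) ≤ K)
    {ψ ξ : ↥NK → ℂ} (hψ : ψ ∈ tifnS K) (hξ : ξ ∈ tifnS K) (hdeg : ψ 1 = ξ 1) {ε : ℂ}
    (hε : ε = 1 ∨ ε = -1) {μ ν : G → ℂ}
    (hind : indFun NK (ψ - ξ) = ε • (μ - ν)) (k : ↥NK) (hk : (k : G) ∈ K) (hk1 : k ≠ 1) :
    μ k = ν k + ε * (ψ k - ξ k) ∧ μ 1 = ν 1 := by
  have hε2 : ε * ε = 1 := by rcases hε with h | h <;> rw [h] <;> norm_num
  have hε0 : ε ≠ 0 := by rcases hε with h | h <;> rw [h] <;> norm_num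
  have hcf : IsClassFunction ↥NK (ψ - ξ) :=
    isClassFunction_sub (tifnS_isClassFunction hψ) (tifnS_isClassFunction hξ)
  have hvan : ∀ x : ↥NK, (x : G) ∉ (K : Set G) → (ψ - ξ) x = 0 := by
    intro x hx
    rw [Pi.sub_apply, tifnS_vanish hC hψ x hx, tifnS_vanish hC hξ x hx, sub_self]
  have h1 := Cfsg.Agent.Lib.Helper3.indFun_TI (K : Set G) hTI (ψ - ξ) hcf hvan k hk hk1
  rw [hind] at h1
  simp only [Pi.smul_apply, Pi.sub_apply, smul_eq_mul] at h1
  have h2 : indFun NK (ψ - ξ) 1 = 0 := by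
    rw [indFun_one, Pi.sub_apply, hdeg, sub_self, mul_zero]
  rw [hind] at h2
  simp only [Pi.smul_apply, Pi.sub_apply, smul_eq_mul] at h2
  constructor
  · have : ε * (ε * (μ k - ν k)) = ε * (ψ k - ξ k) := by rw [h1]
    rw [← mul_assoc, hε2, one_mul] at this
    linear_combination this
  · rcases mul_eq_zero.mp h2 with h | h
    · exact absurd h hε0
    · linear_combination h

open Classical in
/-- If all relevant characters have the same multiplicity in `χ|_N`, where `χ(1) = p - 1`, then `χ`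
vanishes on `N \ K`. -/
theorem scm_vanish_of_const
    (hC : ∀ k ∈ K, k ≠ 1 → Subgroup.centralizer ({k} : Set G) ≤ K)
    (hab : ∀ a ∈ K, ∀ b ∈ K, a * b = b * a) {p : ℕ} (hp3 : 3 ≤ p) (hcard : Nat.card K = p)
    {χ : G → ℂ} (hχ : IsIrrCharacter G χ) (hdeg : charDegree χ + 1 = p)
    (hconst : ∀ ψ ∈ Finset.univ.filter (fun θ : IrrCharacter ↥NK => (θ : ↥NK → ℂ) ∈ tifnS K),
      ∀ ξ ∈ Finset.univ.filter (fun θ : IrrCharacter ↥NK => (θ : ↥NK → ℂ) ∈ tifnS K),
        classInner (fun n : ↥NK => χ n) (ψ : ↥NK → ℂ) =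
          classInner (fun n : ↥NK => χ n) (ξ : ↥NK → ℂ))
    (y : ↥NK) (hy : (y : G) ∉ K) : χ y = 0 := by
  have hγ : IsCharacter ↥NK (fun n : ↥NK => χ n) :=
    isCharacter_res NK (IsIrrCharacter.isCharacter hχ)
  choose mN hmN using fun θ : IrrCharacter ↥NK => IsCharacter.exists_nat_classInner hγ θ
  have hse : (Finset.univ.filter (fun θ : IrrCharacter ↥NK => (θ : ↥NK → ℂ) ∈ tifnS K)).card *
      (K.subgroupOf NK).index + 1 = p := by
    rw [← hcard]; exact scc_card_mul_nat hC hab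
  have hSne : (Finset.univ.filter
      (fun θ : IrrCharacter ↥NK => (θ : ↥NK → ℂ) ∈ tifnS K)).Nonempty := by
    rw [← Finset.card_pos]
    by_contra h
    have h0 : (Finset.univ.filter
      (fun θ : IrrCharacter ↥NK => (θ : ↥NK → ℂ) ∈ tifnS K)).card = 0 := by omega
    rw [h0] at hse
    omega
  obtain ⟨ψ₁, hψ₁⟩ := hSne
  have hc : ∀ ψ ∈ Finset.univ.filter (fun θ : IrrCharacter ↥NK => (θ : ↥NK → ℂ) ∈ tifnS K),
      mN ψ = mN ψ₁ := by
    intro ψ hψ
    have := hconst ψ hψ ψ₁ hψ₁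
    rw [hmN, hmN] at this
    exact_mod_cast this
  -- the degree equation
  have hdegeq : mN ψ₁ * ((Finset.univ.filter
        (fun θ : IrrCharacter ↥NK => (θ : ↥NK → ℂ) ∈ tifnS K)).card * (K.subgroupOf NK).index) +
      ∑ θ ∈ Finset.univ.filter (fun θ : IrrCharacter ↥NK => ¬ (θ : ↥NK → ℂ) ∈ tifnS K),
        mN θ * charDegree (θ : ↥NK → ℂ) = p - 1 := by
    have h1 := scm_expand hγ 1
    have hγ1 : χ ((1 : ↥NK) : G) = ((p - 1 : ℕ) : ℂ) := by
      rw [Subgroup.coe_one, IsCharacter.apply_one_eq_charDegree (IsIrrCharacter.isCharacter hχ)]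
      congr 1
      omega
    rw [hγ1] at h1
    have h2 : ∑ θ ∈ Finset.univ.filter (fun θ : IrrCharacter ↥NK => (θ : ↥NK → ℂ) ∈ tifnS K),
        classInner (fun n : ↥NK => χ n) (θ : ↥NK → ℂ) * (θ : ↥NK → ℂ) 1 =
        ((mN ψ₁ * ((Finset.univ.filter
        (fun θ : IrrCharacter ↥NK => (θ : ↥NK → ℂ) ∈ tifnS K)).card *
          (K.subgroupOf NK).index) : ℕ) : ℂ) := by
      rw [Finset.sum_congr rfl (fun θ hθ => by
        rw [hmN, hc θ hθ, scc_degree hC hab (Finset.mem_filter.mp hθ).2])]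
      rw [Finset.sum_const, nsmul_eq_mul]
      push_cast
      ring
    have h3 : ∑ θ ∈ Finset.univ.filter (fun θ : IrrCharacter ↥NK => ¬ (θ : ↥NK → ℂ) ∈ tifnS K),
        classInner (fun n : ↥NK => χ n) (θ : ↥NK → ℂ) * (θ : ↥NK → ℂ) 1 =
        ((∑ θ ∈ Finset.univ.filter (fun θ : IrrCharacter ↥NK => ¬ (θ : ↥NK → ℂ) ∈ tifnS K),
        mN θ * charDegree (θ : ↥NK → ℂ) : ℕ) : ℂ) := by
      rw [Nat.cast_sum]
      apply Finset.sum_congr rfl
      intro θ _
      rw [hmN, IsCharacter.apply_one_eq_charDegree (IsIrrCharacter.isCharacter θ.2)]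
      push_cast
      rfl
    rw [h2, h3] at h1
    exact_mod_cast h1.symm
  have hse' : (Finset.univ.filter (fun θ : IrrCharacter ↥NK => (θ : ↥NK → ℂ) ∈ tifnS K)).card *
      (K.subgroupOf NK).index = p - 1 := by omega
  rw [hse'] at hdegeq
  have hc01 : mN ψ₁ = 0 ∨ mN ψ₁ = 1 := by
    by_contra h
    push Not at h
    have h2 : 2 ≤ mN ψ₁ := by omega
    have : 2 * (p - 1) ≤ mN ψ₁ * (p - 1) := Nat.mul_le_mul_right _ h2
    omega
  rcases hc01 with h0 | h1
  · -- multiplicity zero: `χ` is constant `p - 1` on `K`, contradiction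
    exfalso
    rw [h0, zero_mul, zero_add] at hdegeq
    haveI : Nontrivial K := by
      rw [← Finite.one_lt_card_iff_nontrivial, hcard]
      omega
    obtain ⟨k, hk1⟩ := exists_ne (1 : K)
    have hk1' : (k : G) ≠ 1 := fun h => hk1 (Subtype.ext h)
    let k' : ↥NK := ⟨k, Subgroup.le_normalizer k.2⟩
    have hk'1 : k' ≠ 1 := fun h => hk1' (congrArg Subtype.val h)
    have hval : χ (k : G) = ((p - 1 : ℕ) : ℂ) := by
      have h1 := scm_expand hγ k'
      have h2 : ∑ θ ∈ Finset.univ.filter (fun θ : IrrCharacter ↥NK => (θ : ↥NK → ℂ) ∈ tifnS K),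
          classInner (fun n : ↥NK => χ n) (θ : ↥NK → ℂ) * (θ : ↥NK → ℂ) k' = 0 := by
        apply Finset.sum_eq_zero
        intro θ hθ
        rw [hmN, hc θ hθ, h0]
        simp
      have h3 : ∑ θ ∈ Finset.univ.filter (fun θ : IrrCharacter ↥NK => ¬ (θ : ↥NK → ℂ) ∈ tifnS K),
          classInner (fun n : ↥NK => χ n) (θ : ↥NK → ℂ) * (θ : ↥NK → ℂ) k' =
          ((∑ θ ∈ Finset.univ.filter (fun θ : IrrCharacter ↥NK => ¬ (θ : ↥NK → ℂ) ∈ tifnS K),
          mN θ * charDegree (θ : ↥NK → ℂ) : ℕ) : ℂ) := by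
        rw [Nat.cast_sum]
        apply Finset.sum_congr rfl
        intro θ hθ
        rw [hmN, apply_eq_of_not_mem_tifnS θ.2 (Finset.mem_filter.mp hθ).2 k' k.2,
          IsCharacter.apply_one_eq_charDegree (IsIrrCharacter.isCharacter θ.2)]
        push_cast
        rfl
      rw [h2, h3, zero_add, hdegeq] at h1
      exact h1
    have horth := scc_sum_normSq hC hab (k : G) k.2 hk1'
    let χI : IrrCharacter G := ⟨χ, hχ⟩
    let oneI : IrrCharacter G := ⟨fun _ => 1, isIrrCharacter_one⟩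
    have hne : oneI ≠ χI := by
      intro h
      have h1 : (1 : ℂ) = χ 1 := congrFun (congrArg Subtype.val h) 1
      rw [IsCharacter.apply_one_eq_charDegree (IsIrrCharacter.isCharacter hχ)] at h1
      have : charDegree χ = 1 := by exact_mod_cast h1.symm
      omega
    rw [← Finset.add_sum_erase Finset.univ _ (Finset.mem_univ χI)] at horth
    have hmem : oneI ∈ Finset.univ.erase χI := Finset.mem_erase.mpr ⟨hne, Finset.mem_univ _⟩
    have hle : Complex.normSq ((oneI : G → ℂ) (k : G)) ≤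
        ∑ x ∈ Finset.univ.erase χI, Complex.normSq ((x : G → ℂ) (k : G)) :=
      Finset.single_le_sum (f := fun x : IrrCharacter G => Complex.normSq ((x : G → ℂ) (k : G)))
        (fun x _ => Complex.normSq_nonneg _) hmem
    have h1 : Complex.normSq ((oneI : G → ℂ) (k : G)) = 1 := by
      show Complex.normSq (1 : ℂ) = 1
      simp
    have h2 : Complex.normSq ((χI : G → ℂ) (k : G)) = ((p - 1 : ℕ) : ℝ) ^ 2 := by
      show Complex.normSq (χ (k : G)) = _
      rw [hval, Complex.normSq_natCast, sq]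
    rw [h1] at hle
    rw [h2] at horth
    have hp1 : ((p - 1 : ℕ) : ℝ) = (p : ℝ) - 1 := by
      rw [Nat.cast_sub (by omega)]
      simp
    rw [hp1, hcard] at horth
    have hp3' : (3 : ℝ) ≤ p := by exact_mod_cast hp3
    nlinarith
  · -- multiplicity one: no irrelevant constituents
    rw [h1, one_mul] at hdegeq
    have hzero : ∑ θ ∈ Finset.univ.filter (fun θ : IrrCharacter ↥NK => ¬ (θ : ↥NK → ℂ) ∈ tifnS K),
        mN θ * charDegree (θ : ↥NK → ℂ) = 0 := by omega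
    rw [Finset.sum_eq_zero_iff] at hzero
    have hexp := scm_expand hγ y
    rw [hexp]
    have h2 : ∑ θ ∈ Finset.univ.filter (fun θ : IrrCharacter ↥NK => (θ : ↥NK → ℂ) ∈ tifnS K),
        classInner (fun n : ↥NK => χ n) (θ : ↥NK → ℂ) * (θ : ↥NK → ℂ) y = 0 := by
      apply Finset.sum_eq_zero
      intro θ hθ
      rw [tifnS_vanish hC (Finset.mem_filter.mp hθ).2 y hy, mul_zero]
    have h3 : ∑ θ ∈ Finset.univ.filter (fun θ : IrrCharacter ↥NK => ¬ (θ : ↥NK → ℂ) ∈ tifnS K),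
        classInner (fun n : ↥NK => χ n) (θ : ↥NK → ℂ) * (θ : ↥NK → ℂ) y = 0 := by
      apply Finset.sum_eq_zero
      intro θ hθ
      have h := hzero θ hθ
      have hd := IsIrrCharacter.charDegree_pos θ.2
      have hm : mN θ = 0 := by
        rcases Nat.mul_eq_zero.mp h with h | h
        · exact h
        · omega
      rw [hmN, hm]
      simp
    rw [h2, h3, add_zero]

open Classical in
/-- `χ` of degree `p - 1` cannot be one of (at least two) exceptional characters -/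
theorem scm_exceptional_false
    (hTI : ∀ g : G, g ∉ NK → ∀ k ∈ K, g * k * g⁻¹ ∈ K → k = 1)
    (hC : ∀ k ∈ K, k ≠ 1 → Subgroup.centralizer ({k} : Set G) ≤ K)
    (hab : ∀ a ∈ K, ∀ b ∈ K, a * b = b * a) {p : ℕ} (hp3 : 3 ≤ p) (hcard : Nat.card K = p)
    (he2 : 2 ≤ (K.subgroupOf NK).index)
    {χ : G → ℂ} (hχ : IsIrrCharacter G χ) (hdeg : charDegree χ + 1 = p)
    {ε : ℂ} (hε : ε = 1 ∨ ε = -1) (F : IrrCharacter ↥NK → IrrCharacter G)
    (hFinj : ∀ ψ ∈ Finset.univ.filter (fun θ : IrrCharacter ↥NK => (θ : ↥NK → ℂ) ∈ tifnS K),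
      ∀ ξ ∈ Finset.univ.filter (fun θ : IrrCharacter ↥NK => (θ : ↥NK → ℂ) ∈ tifnS K),
        F ψ = F ξ → ψ = ξ)
    (hF : ∀ ψ ∈ Finset.univ.filter (fun θ : IrrCharacter ↥NK => (θ : ↥NK → ℂ) ∈ tifnS K),
      ∀ ξ ∈ Finset.univ.filter (fun θ : IrrCharacter ↥NK => (θ : ↥NK → ℂ) ∈ tifnS K),
        indFun NK ((ψ : ↥NK → ℂ) - (ξ : ↥NK → ℂ)) = ε • ((F ψ : G → ℂ) - (F ξ : G → ℂ)))
    (ψ₀ : IrrCharacter ↥NK)
    (hψ₀ : ψ₀ ∈ Finset.univ.filter (fun θ : IrrCharacter ↥NK => (θ : ↥NK → ℂ) ∈ tifnS K))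
    (hFψ₀ : (F ψ₀ : G → ℂ) = χ) (ψ₁ : IrrCharacter ↥NK)
    (hψ₁ : ψ₁ ∈ Finset.univ.filter (fun θ : IrrCharacter ↥NK => (θ : ↥NK → ℂ) ∈ tifnS K))
    (hne : ψ₁ ≠ ψ₀) : False := by
  have hγ : IsCharacter ↥NK (fun n : ↥NK => χ n) :=
    isCharacter_res NK (IsIrrCharacter.isCharacter hχ)
  choose mN hmN using fun θ : IrrCharacter ↥NK => IsCharacter.exists_nat_classInner hγ θ
  have hse : (Finset.univ.filter (fun θ : IrrCharacter ↥NK => (θ : ↥NK → ℂ) ∈ tifnS K)).card *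
      (K.subgroupOf NK).index + 1 = p := by
    rw [← hcard]; exact scc_card_mul_nat hC hab
  have hs2 : 2 ≤ (Finset.univ.filter
      (fun θ : IrrCharacter ↥NK => (θ : ↥NK → ℂ) ∈ tifnS K)).card :=
    Finset.one_lt_card.mpr ⟨ψ₀, hψ₀, ψ₁, hψ₁, hne.symm⟩
  -- integer and real versions of the sign
  obtain ⟨εz, hεz, hεzc⟩ : ∃ εz : ℤ, (εz = 1 ∨ εz = -1) ∧ ((εz : ℤ) : ℂ) = ε := by
    rcases hε with h | h
    · exact ⟨1, Or.inl rfl, by rw [h]; simp⟩
    · exact ⟨-1, Or.inr rfl, by rw [h]; simp⟩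
  -- multiplicities
  have hR : ∀ ψ ∈ Finset.univ.filter (fun θ : IrrCharacter ↥NK => (θ : ↥NK → ℂ) ∈ tifnS K),
      ψ ≠ ψ₀ → (mN ψ₀ : ℂ) - (mN ψ : ℂ) = ε := by
    intro ψ hψ hψne
    have h := scm_diff (K := K) hχ hε (F ψ₀).2 (F ψ).2 (hF ψ₀ hψ₀ ψ hψ)
    rw [hmN, hmN, if_pos hFψ₀.symm, if_neg] at h
    · rw [h]; ring
    · intro hc
      apply hψne
      apply hFinj ψ hψ ψ₀ hψ₀
      apply Subtype.ext
      rw [← hc, hFψ₀]
  have hψ₀c : (mN ψ₀ : ℂ) = (mN ψ₁ : ℂ) + ε := by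
    have := hR ψ₁ hψ₁ hne
    linear_combination this
  have hc : ∀ ψ ∈ Finset.univ.filter (fun θ : IrrCharacter ↥NK => (θ : ↥NK → ℂ) ∈ tifnS K),
      ψ ≠ ψ₀ → (mN ψ : ℂ) = (mN ψ₁ : ℂ) := by
    intro ψ hψ hψne
    have := hR ψ hψ hψne
    linear_combination hψ₀c - this
  have hψ₀z : (mN ψ₀ : ℤ) = (mN ψ₁ : ℤ) + εz := by
    have : ((mN ψ₀ : ℤ) : ℂ) = (((mN ψ₁ : ℤ) + εz : ℤ) : ℂ) := by
      push_cast
      rw [hεzc]
      exact hψ₀c
    exact_mod_cast this
  -- splitting sums over the relevant characters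
  have hsplit : ∀ g : IrrCharacter ↥NK → ℂ,
      ∑ θ ∈ Finset.univ.filter (fun θ : IrrCharacter ↥NK => (θ : ↥NK → ℂ) ∈ tifnS K),
        (mN θ : ℂ) * g θ =
      (mN ψ₁ : ℂ) * ∑ θ ∈ Finset.univ.filter
        (fun θ : IrrCharacter ↥NK => (θ : ↥NK → ℂ) ∈ tifnS K), g θ + ε * g ψ₀ := by
    intro g
    have h1 : ∑ θ ∈ Finset.univ.filter (fun θ : IrrCharacter ↥NK => (θ : ↥NK → ℂ) ∈ tifnS K),
        ((mN θ : ℂ) - (mN ψ₁ : ℂ)) * g θ = ε * g ψ₀ := by
      rw [Finset.sum_eq_single_of_mem ψ₀ hψ₀]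
      · rw [hψ₀c]; ring
      · intro θ hθ hθne
        rw [hc θ hθ hθne, sub_self, zero_mul]
    rw [← h1, Finset.mul_sum, ← Finset.sum_add_distrib]
    apply Finset.sum_congr rfl
    intro θ _
    ring
  -- the degree equation
  have hdegeq : ((Finset.univ.filter
        (fun θ : IrrCharacter ↥NK => (θ : ↥NK → ℂ) ∈ tifnS K)).card : ℤ) *
          ((K.subgroupOf NK).index : ℤ) =
      (mN ψ₁ : ℤ) * ((Finset.univ.filter
        (fun θ : IrrCharacter ↥NK => (θ : ↥NK → ℂ) ∈ tifnS K)).card : ℤ) *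
          ((K.subgroupOf NK).index : ℤ) + εz * ((K.subgroupOf NK).index : ℤ) +
      ((∑ θ ∈ Finset.univ.filter (fun θ : IrrCharacter ↥NK => ¬ (θ : ↥NK → ℂ) ∈ tifnS K),
        mN θ * charDegree (θ : ↥NK → ℂ) : ℕ) : ℤ) := by
    have h1 := scm_expand hγ 1
    have hγ1 : χ ((1 : ↥NK) : G) = ((p - 1 : ℕ) : ℂ) := by
      rw [Subgroup.coe_one, IsCharacter.apply_one_eq_charDegree (IsIrrCharacter.isCharacter hχ)]
      congr 1
      omega
    rw [hγ1] at h1
    have h2 : ∑ θ ∈ Finset.univ.filter (fun θ : IrrCharacter ↥NK => (θ : ↥NK → ℂ) ∈ tifnS K),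
        classInner (fun n : ↥NK => χ n) (θ : ↥NK → ℂ) * (θ : ↥NK → ℂ) 1 =
        (mN ψ₁ : ℂ) * (((Finset.univ.filter
        (fun θ : IrrCharacter ↥NK => (θ : ↥NK → ℂ) ∈ tifnS K)).card : ℂ) *
          ((K.subgroupOf NK).index : ℂ)) + ε * ((K.subgroupOf NK).index : ℂ) := by
      rw [Finset.sum_congr rfl (fun θ hθ => by rw [hmN]), hsplit (fun θ => (θ : ↥NK → ℂ) 1),
        scc_degree hC hab (Finset.mem_filter.mp hψ₀).2,
        Finset.sum_congr rfl (fun θ hθ => scc_degree hC hab (Finset.mem_filter.mp hθ).2),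
        Finset.sum_const, nsmul_eq_mul]
    have h3 : ∑ θ ∈ Finset.univ.filter (fun θ : IrrCharacter ↥NK => ¬ (θ : ↥NK → ℂ) ∈ tifnS K),
        classInner (fun n : ↥NK => χ n) (θ : ↥NK → ℂ) * (θ : ↥NK → ℂ) 1 =
        ((∑ θ ∈ Finset.univ.filter (fun θ : IrrCharacter ↥NK => ¬ (θ : ↥NK → ℂ) ∈ tifnS K),
        mN θ * charDegree (θ : ↥NK → ℂ) : ℕ) : ℂ) := by
      rw [Nat.cast_sum]
      apply Finset.sum_congr rfl
      intro θ _
      rw [hmN, IsCharacter.apply_one_eq_charDegree (IsIrrCharacter.isCharacter θ.2)]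
      push_cast
      rfl
    rw [h2, h3] at h1
    have hp1 : ((p - 1 : ℕ) : ℂ) = ((Finset.univ.filter
        (fun θ : IrrCharacter ↥NK => (θ : ↥NK → ℂ) ∈ tifnS K)).card : ℂ) *
          ((K.subgroupOf NK).index : ℂ) := by
      have : p - 1 = (Finset.univ.filter
        (fun θ : IrrCharacter ↥NK => (θ : ↥NK → ℂ) ∈ tifnS K)).card *
          (K.subgroupOf NK).index := by omega
      rw [this]
      push_cast
      rfl
    rw [hp1, ← hεzc] at h1
    have h4 : ((((Finset.univ.filter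
        (fun θ : IrrCharacter ↥NK => (θ : ↥NK → ℂ) ∈ tifnS K)).card : ℤ) *
          ((K.subgroupOf NK).index : ℤ) : ℤ) : ℂ) =
      (((mN ψ₁ : ℤ) * ((Finset.univ.filter
        (fun θ : IrrCharacter ↥NK => (θ : ↥NK → ℂ) ∈ tifnS K)).card : ℤ) *
          ((K.subgroupOf NK).index : ℤ) + εz * ((K.subgroupOf NK).index : ℤ) +
      ((∑ θ ∈ Finset.univ.filter (fun θ : IrrCharacter ↥NK => ¬ (θ : ↥NK → ℂ) ∈ tifnS K),
        mN θ * charDegree (θ : ↥NK → ℂ) : ℕ) : ℤ) : ℤ) : ℂ) := by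
      push_cast
      push_cast at h1
      linear_combination h1
    exact_mod_cast h4
  -- a non-identity element of `K`
  haveI : Nontrivial K := by
    rw [← Finite.one_lt_card_iff_nontrivial, hcard]
    omega
  obtain ⟨k, hk1⟩ := exists_ne (1 : K)
  have hk1' : (k : G) ≠ 1 := fun h => hk1 (Subtype.ext h)
  let k' : ↥NK := ⟨k, Subgroup.le_normalizer k.2⟩
  have hk'1 : k' ≠ 1 := fun h => hk1' (congrArg Subtype.val h)
  -- the value of `χ` at `k`
  have hval : χ (k : G) = -(mN ψ₁ : ℂ) + ε * (ψ₀ : ↥NK → ℂ) k' +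
      ((∑ θ ∈ Finset.univ.filter (fun θ : IrrCharacter ↥NK => ¬ (θ : ↥NK → ℂ) ∈ tifnS K),
        mN θ * charDegree (θ : ↥NK → ℂ) : ℕ) : ℂ) := by
    have h1 := scm_expand hγ k'
    have h2 : ∑ θ ∈ Finset.univ.filter (fun θ : IrrCharacter ↥NK => (θ : ↥NK → ℂ) ∈ tifnS K),
        classInner (fun n : ↥NK => χ n) (θ : ↥NK → ℂ) * (θ : ↥NK → ℂ) k' =
        -(mN ψ₁ : ℂ) + ε * (ψ₀ : ↥NK → ℂ) k' := by
      rw [Finset.sum_congr rfl (fun θ hθ => by rw [hmN]), hsplit (fun θ => (θ : ↥NK → ℂ) k'),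
        scc_sum_apply hC hab k' k.2 hk'1]
      ring
    have h3 : ∑ θ ∈ Finset.univ.filter (fun θ : IrrCharacter ↥NK => ¬ (θ : ↥NK → ℂ) ∈ tifnS K),
        classInner (fun n : ↥NK => χ n) (θ : ↥NK → ℂ) * (θ : ↥NK → ℂ) k' =
        ((∑ θ ∈ Finset.univ.filter (fun θ : IrrCharacter ↥NK => ¬ (θ : ↥NK → ℂ) ∈ tifnS K),
        mN θ * charDegree (θ : ↥NK → ℂ) : ℕ) : ℂ) := by
      rw [Nat.cast_sum]
      apply Finset.sum_congr rfl
      intro θ hθ
      rw [hmN, apply_eq_of_not_mem_tifnS θ.2 (Finset.mem_filter.mp hθ).2 k' k.2,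
        IsCharacter.apply_one_eq_charDegree (IsIrrCharacter.isCharacter θ.2)]
      push_cast
      rfl
    rw [h2, h3] at h1
    exact h1
  -- abbreviations
  set a : ℕ := ∑ θ ∈ Finset.univ.filter (fun θ : IrrCharacter ↥NK => ¬ (θ : ↥NK → ℂ) ∈ tifnS K),
        mN θ * charDegree (θ : ↥NK → ℂ) with ha
  set M : ℝ := (a : ℝ) - (mN ψ₁ : ℝ) with hM
  -- values of the exceptional characters at `k`
  have hFval : ∀ ψ ∈ Finset.univ.filter (fun θ : IrrCharacter ↥NK => (θ : ↥NK → ℂ) ∈ tifnS K),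
      (F ψ : G → ℂ) (k : G) = (M : ℂ) + ε * (ψ : ↥NK → ℂ) k' ∧ (F ψ : G → ℂ) 1 = χ 1 := by
    intro ψ hψ
    have h := scm_apply_of_ind hTI hC (Finset.mem_filter.mp hψ).2 (Finset.mem_filter.mp hψ₀).2
      (by rw [scc_degree hC hab (Finset.mem_filter.mp hψ).2,
        scc_degree hC hab (Finset.mem_filter.mp hψ₀).2]) hε (hF ψ hψ ψ₀ hψ₀) k' k.2 hk'1
    rw [hFψ₀] at h
    refine ⟨?_, h.2⟩
    have h1 : (F ψ : G → ℂ) (k : G) = χ (k : G) + ε * ((ψ : ↥NK → ℂ) k' - (ψ₀ : ↥NK → ℂ) k') := h.1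
    rw [h1, hval, hM]
    push_cast
    ring
  -- the trivial character is not exceptional
  let oneI : IrrCharacter G := ⟨fun _ => 1, isIrrCharacter_one⟩
  have hone : oneI ∉ (Finset.univ.filter
      (fun θ : IrrCharacter ↥NK => (θ : ↥NK → ℂ) ∈ tifnS K)).image F := by
    intro hmem
    obtain ⟨ψ, hψ, hFψ⟩ := Finset.mem_image.mp hmem
    have h1 := (hFval ψ hψ).2
    rw [hFψ, IsCharacter.apply_one_eq_charDegree (IsIrrCharacter.isCharacter hχ)] at h1
    have h2 : (1 : ℂ) = (charDegree χ : ℂ) := h1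
    have : charDegree χ = 1 := by exact_mod_cast h2.symm
    omega
  -- column orthogonality
  have horth := scc_sum_normSq hC hab (k : G) k.2 hk1'
  have hsub : insert oneI ((Finset.univ.filter
      (fun θ : IrrCharacter ↥NK => (θ : ↥NK → ℂ) ∈ tifnS K)).image F) ⊆ Finset.univ :=
    Finset.subset_univ _
  have hle := Finset.sum_le_sum_of_subset_of_nonneg hsub
    (f := fun x : IrrCharacter G => Complex.normSq ((x : G → ℂ) (k : G)))
    (fun x _ _ => Complex.normSq_nonneg _)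
  rw [horth, Finset.sum_insert hone, Finset.sum_image hFinj] at hle
  have hone1 : Complex.normSq ((oneI : G → ℂ) (k : G)) = 1 := by
    show Complex.normSq (1 : ℂ) = 1
    simp
  rw [hone1] at hle
  -- the real sign
  obtain ⟨εr, hεr, hεrc, hεrz⟩ : ∃ εr : ℝ, (εr = 1 ∨ εr = -1) ∧ ((εr : ℝ) : ℂ) = ε ∧
      εr = (εz : ℝ) := by
    rcases hεz with h | h
    · refine ⟨1, Or.inl rfl, ?_, by rw [h]; simp⟩
      rw [← hεzc, h]; simp
    · refine ⟨-1, Or.inr rfl, ?_, by rw [h]; simp⟩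
      rw [← hεzc, h]; simp
  have hterm : ∀ ψ ∈ Finset.univ.filter (fun θ : IrrCharacter ↥NK => (θ : ↥NK → ℂ) ∈ tifnS K),
      Complex.normSq ((F ψ : G → ℂ) (k : G)) =
        M ^ 2 + 2 * M * εr * ((ψ : ↥NK → ℂ) k').re + Complex.normSq ((ψ : ↥NK → ℂ) k') := by
    intro ψ hψ
    rw [(hFval ψ hψ).1]
    rcases hεr with h | h
    · rw [← hεrc, h]
      simp only [Complex.ofReal_one, one_mul, mul_one]
      exact scm_normSq_add M _
    · rw [← hεrc, h]
      simp only [Complex.ofReal_neg, Complex.ofReal_one, neg_mul, one_mul, mul_neg, mul_one]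
      rw [← sub_eq_add_neg, scm_normSq_sub M]
      ring
  rw [Finset.sum_congr rfl hterm, Finset.sum_add_distrib, Finset.sum_add_distrib,
    Finset.sum_const, nsmul_eq_mul, ← Finset.mul_sum, scc_sum_normSq_mem hC hab k' k.2 hk'1,
    ← Complex.re_sum, scc_sum_apply hC hab k' k.2 hk'1, hcard] at hle
  simp only [Complex.neg_re, Complex.one_re] at hle
  -- conclude by integer arithmetic
  have hineq : ((Finset.univ.filter
        (fun θ : IrrCharacter ↥NK => (θ : ↥NK → ℂ) ∈ tifnS K)).card : ℤ) *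
      ((a : ℤ) - (mN ψ₁ : ℤ)) ^ 2 - 2 * εz * ((a : ℤ) - (mN ψ₁ : ℤ)) + 1 ≤
      ((K.subgroupOf NK).index : ℤ) := by
    have : ((((Finset.univ.filter
        (fun θ : IrrCharacter ↥NK => (θ : ↥NK → ℂ) ∈ tifnS K)).card : ℤ) *
      ((a : ℤ) - (mN ψ₁ : ℤ)) ^ 2 - 2 * εz * ((a : ℤ) - (mN ψ₁ : ℤ)) + 1 : ℤ) : ℝ) ≤
      ((((K.subgroupOf NK).index : ℤ) : ℤ) : ℝ) := by
      push_cast
      rw [← hεrz]
      rw [hM] at hle
      linarith
    exact_mod_cast this
  exact scm_arith _ _ (mN ψ₁ : ℤ) (a : ℤ) εz _ (by exact_mod_cast hs2) (by exact_mod_cast he2)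
    (by positivity) (by positivity) hεz (by rw [← hψ₀z]; positivity) hdegeq rfl hineq

end SCMain

end Cfsg.Agent.Lib.Helper71
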