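import Mathlib
import Cfsg.Agent.Lib.Helper71.SCGroup
import Cfsg.Agent.Lib.Helper71.SCDet
import Cfsg.Agent.Lib.Helper76.PRegInd

/-!
# A self-centralizing involution forces a subgroup of index two (helper71)
-/

set_option autoImplicit false

namespace Cfsg.Agent.Lib.Helper71

open Cfsg

/-- If `x` is an involution with `C_G(x) = ⟨x⟩` then `|G : G'|` is even (Cayley's argument, via the
determinant of the regular character). -/
theorem scp_two_even_index {G : Type*} [Group G] [Finite G] {x : G} (hx : orderOf x = 2)
    (hC : Subgroup.centralizer ({x} : Set G) = Subgroup.zpowers x) :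
    Even (commutator G).index := by
  classical
  haveI : Fact (Nat.Prime 2) := ⟨Nat.prime_two⟩
  have hK : IsPGroup 2 (Subgroup.zpowers x) := by
    apply IsPGroup.of_card (n := 1)
    rw [Nat.card_zpowers, hx, pow_one]
  obtain ⟨P, hP⟩ := hK.exists_le_sylow
  have hPK : (P : Subgroup G) ≤ Subgroup.zpowers x :=
    scp_pgroup_le hx hC P P.2 (hP (Subgroup.mem_zpowers x))
  have hPeq : (P : Subgroup G) = Subgroup.zpowers x := le_antisymm hPK hP
  have hcardP : Nat.card (P : Subgroup G) = 2 := by
    rw [hPeq, Nat.card_zpowers, hx]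
  have hv : (Nat.card G).factorization 2 = 1 := by
    have h := P.card_eq_multiplicity
    rw [hcardP] at h
    have h2 : (2 : ℕ) ^ 1 = 2 ^ (Nat.card G).factorization 2 := by rw [pow_one]; exact h
    exact (Nat.pow_right_injective (le_refl 2) h2).symm
  have hGpos : Nat.card G ≠ 0 := Nat.card_pos.ne'
  have hdecomp := Nat.ordProj_mul_ordCompl_eq_self (Nat.card G) 2
  rw [hv, pow_one] at hdecomp
  have hodd : ¬ 2 ∣ Nat.card G / 2 := by
    have := Nat.not_dvd_ordCompl Nat.prime_two hGpos
    rw [hv, pow_one] at this
    exact this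
  have ht' : Odd (Nat.card G / 2) := by
    rw [← Nat.not_even_iff_odd, even_iff_two_dvd]
    exact hodd
  have hchar := Cfsg.Agent.Lib.Helper76.isCharacter_regular G
  have hdet := scd_detChar_eq_neg_one hchar x 2 (Nat.card G / 2) even_two ht' hx
    (by
      rw [if_pos rfl]
      congr 1
      rw [mul_comm]
      exact hdecomp.symm)
    (by
      intro j hj
      rw [if_neg]
      intro h
      apply hj
      rw [← hx]
      exact orderOf_dvd_of_pow_eq_one h)
  exact scd_even_index hchar x hdet

end Cfsg.Agent.Lib.Helper71
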