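import Mathlib
import Cfsg.Agent.Lib.Helper71.SCMain
import Cfsg.Agent.S0851

/-!
# A character of degree `p - 1` vanishes on `N_G(K) \ K`: assembly (helper71)
-/

set_option autoImplicit false
set_option linter.unusedSectionVars false
set_option linter.style.haveILetI false

namespace Cfsg.Agent.Lib.Helper71

open Cfsg Cfsg.Agent.Lib.Helper78 Cfsg.Agent.Lib.Helper75 Cfsg.Agent.Lib.Helper74
open scoped ComplexConjugate

universe u

section SCVanish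

variable {G : Type u} [Group G] [Fintype G] {K : Subgroup G}

local notation "NK" => Subgroup.normalizer (K : Set G)

variable [Fintype ↥(Subgroup.normalizer (K : Set G))]

open Classical in
/-- Let `K` be an abelian T.I. subgroup of prime order `p ≥ 3`, properly contained in its
normalizer `N`, containing the centralizers of its non-identity elements.  An irreducible
character of `G` of degree `p - 1` vanishes on `N \ K`. -/
theorem scm_vanish
    (hTI : ∀ g : G, g ∉ NK → ∀ k ∈ K, g * k * g⁻¹ ∈ K → k = 1) (hlt : K < NK)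
    (hC : ∀ k ∈ K, k ≠ 1 → Subgroup.centralizer ({k} : Set G) ≤ K)
    (hab : ∀ a ∈ K, ∀ b ∈ K, a * b = b * a) {p : ℕ} (hp3 : 3 ≤ p) (hcard : Nat.card K = p)
    {χ : G → ℂ} (hχ : IsIrrCharacter G χ) (hdeg : charDegree χ + 1 = p)
    (y : ↥NK) (hy : (y : G) ∉ K) : χ y = 0 := by
  have he2 : 2 ≤ (K.subgroupOf NK).index := by
    have h0 : (K.subgroupOf NK).index ≠ 0 := Subgroup.index_ne_zero_of_finite
    have h1 : (K.subgroupOf NK).index ≠ 1 := by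
      intro h
      rw [Subgroup.index_eq_one, Subgroup.subgroupOf_eq_top] at h
      exact (not_le_of_gt hlt) h
    omega
  have hmemS : ∀ θ : IrrCharacter ↥NK,
      θ ∈ Finset.univ.filter (fun θ : IrrCharacter ↥NK => (θ : ↥NK → ℂ) ∈ tifnS K) →
      ∃ k : ↥NK, (k : G) ∈ K ∧ (θ : ↥NK → ℂ) k ≠ (θ : ↥NK → ℂ) 1 :=
    fun θ hθ => (Finset.mem_filter.mp hθ).2.2
  rcases Cfsg.Agent.S0851.result K hTI hlt hC hab with ⟨hone, -⟩ | ⟨ε, f, hε, hfinj, hf⟩
  · -- a single relevant character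
    apply scm_vanish_of_const hC hab hp3 hcard hχ hdeg _ y hy
    intro ψ hψ ξ hξ
    obtain ⟨hsub, -⟩ := (Nat.card_eq_one_iff_unique).mp hone
    have : (⟨ψ, hmemS ψ hψ⟩ : {χ : Cfsg.IrrCharacter ↥NK //
        ∃ k : ↥NK, (k : G) ∈ K ∧ (χ : ↥NK → ℂ) k ≠ (χ : ↥NK → ℂ) 1}) = ⟨ξ, hmemS ξ hξ⟩ :=
      Subsingleton.elim _ _
    have h2 : ψ = ξ := congrArg Subtype.val this
    rw [h2]
  · let oneI : IrrCharacter G := ⟨fun _ => 1, isIrrCharacter_one⟩
    let F : IrrCharacter ↥NK → IrrCharacter G := fun θ =>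
      if h : (θ : ↥NK → ℂ) ∈ tifnS K then f ⟨θ, h.2⟩ else oneI
    have hFdef : ∀ θ (hθ : θ ∈ Finset.univ.filter
        (fun θ : IrrCharacter ↥NK => (θ : ↥NK → ℂ) ∈ tifnS K)), F θ = f ⟨θ, hmemS θ hθ⟩ := by
      intro θ hθ
      show (if h : (θ : ↥NK → ℂ) ∈ tifnS K then f ⟨θ, h.2⟩ else oneI) = _
      rw [dif_pos (Finset.mem_filter.mp hθ).2]
    have hFinj : ∀ ψ ∈ Finset.univ.filter
        (fun θ : IrrCharacter ↥NK => (θ : ↥NK → ℂ) ∈ tifnS K),
        ∀ ξ ∈ Finset.univ.filter (fun θ : IrrCharacter ↥NK => (θ : ↥NK → ℂ) ∈ tifnS K),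
          F ψ = F ξ → ψ = ξ := by
      intro ψ hψ ξ hξ h
      rw [hFdef ψ hψ, hFdef ξ hξ] at h
      exact congrArg Subtype.val (hfinj h)
    have hF : ∀ ψ ∈ Finset.univ.filter (fun θ : IrrCharacter ↥NK => (θ : ↥NK → ℂ) ∈ tifnS K),
        ∀ ξ ∈ Finset.univ.filter (fun θ : IrrCharacter ↥NK => (θ : ↥NK → ℂ) ∈ tifnS K),
          indFun NK ((ψ : ↥NK → ℂ) - (ξ : ↥NK → ℂ)) =
            ε • ((F ψ : G → ℂ) - (F ξ : G → ℂ)) := by
      intro ψ hψ ξ hξ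
      rw [hFdef ψ hψ, hFdef ξ hξ]
      exact hf ⟨ψ, hmemS ψ hψ⟩ ⟨ξ, hmemS ξ hξ⟩
    by_cases hex : ∃ ψ₀ ∈ Finset.univ.filter
        (fun θ : IrrCharacter ↥NK => (θ : ↥NK → ℂ) ∈ tifnS K), (F ψ₀ : G → ℂ) = χ
    · obtain ⟨ψ₀, hψ₀, hFψ₀⟩ := hex
      by_cases h2 : ∃ ψ₁ ∈ Finset.univ.filter
          (fun θ : IrrCharacter ↥NK => (θ : ↥NK → ℂ) ∈ tifnS K), ψ₁ ≠ ψ₀
      · obtain ⟨ψ₁, hψ₁, hne⟩ := h2
        exact (scm_exceptional_false hTI hC hab hp3 hcard he2 hχ hdeg hε F hFinj hF ψ₀ hψ₀ hFψ₀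
          ψ₁ hψ₁ hne).elim
      · push Not at h2
        apply scm_vanish_of_const hC hab hp3 hcard hχ hdeg _ y hy
        intro ψ hψ ξ hξ
        rw [h2 ψ hψ, h2 ξ hξ]
    · push Not at hex
      apply scm_vanish_of_const hC hab hp3 hcard hχ hdeg _ y hy
      intro ψ hψ ξ hξ
      have h := scm_diff (K := K) hχ hε (F ψ).2 (F ξ).2 (hF ψ hψ ξ hξ)
      rw [if_neg (fun h => hex ψ hψ h.symm), if_neg (fun h => hex ξ hξ h.symm)] at h
      have h0 : classInner (fun n : ↥NK => χ n) (ψ : ↥NK → ℂ) -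
          classInner (fun n : ↥NK => χ n) (ξ : ↥NK → ℂ) = 0 := by
        rw [h]; ring
      exact sub_eq_zero.mp h0

end SCVanish

end Cfsg.Agent.Lib.Helper71
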