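import Mathlib
import Cfsg.Agent.Lib.Helper43.SPMD.Defs

/-!
# SPMD-[R-DECOMP] (helper43's project SPMD, S2347) (helper71)

`finrank_eq_sum_wtτ`: a representation `τ` of the additive group of a finite field `F` is the direct sum of
its weight spaces `wtτ τ ψ s`, `s ∈ F` (projections `e_s = q⁻¹ Σ_c ψ(-s c) τ c`).
-/

set_option autoImplicit false

namespace Cfsg.Agent.Lib.Helper43.SPMD

open Matrix Module Cfsg.Agent.Lib.Helper13 Cfsg.Agent.Lib.Helper43.SUMD

namespace RDecomp

section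
variable {F : Type*} [Field F] [Fintype F]
variable {X : Type*} [AddCommGroup X] [Module ℂ X]

/-- the projection onto the weight space `wtτ τ ψ s` -/
noncomputable def ep (ψ : AddChar F ℂ) (τ : F → Module.End ℂ X) (s : F) : Module.End ℂ X :=
  ((Fintype.card F : ℂ)⁻¹) • ∑ c : F, ψ (-(s * c)) • τ c

theorem card_ne_zero : (Fintype.card F : ℂ) ≠ 0 := by
  exact_mod_cast (Fintype.card_ne_zero (α := F))

theorem ep_apply (ψ : AddChar F ℂ) (τ : F → Module.End ℂ X) (s : F) (x : X) :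
    ep ψ τ s x = ((Fintype.card F : ℂ)⁻¹) • ∑ c : F, ψ (-(s * c)) • τ c x := by
  simp only [ep, LinearMap.smul_apply, LinearMap.sum_apply]

theorem sum_mul_eq_zero (ψ : AddChar F ℂ) (hψ : ψ ≠ 1) (a : F) (ha : a ≠ 0) :
    ∑ c : F, ψ (a * c) = 0 := by
  have hprim : ψ.IsPrimitive := AddChar.IsPrimitive.of_ne_one hψ
  have h1 : ψ.mulShift a ≠ 1 := hprim ha
  have := AddChar.sum_eq_zero_of_ne_one h1
  simpa [AddChar.mulShift_apply] using this

theorem isProj_ep (ψ : AddChar F ℂ) (τ : F → Module.End ℂ X)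
    (hadd : ∀ c d, τ (c + d) = τ c * τ d) (s : F) :
    LinearMap.IsProj (wtτ τ ψ s) (ep ψ τ s) := by
  have hn : (Fintype.card F : ℂ) ≠ 0 := card_ne_zero
  constructor
  · intro x d
    rw [ep_apply, map_smul, map_sum, smul_comm (ψ (s * d))]
    congr 1
    rw [Finset.smul_sum,
      ← Equiv.sum_comp (Equiv.addLeft d) (fun c => ψ (s * d) • ψ (-(s * c)) • τ c x)]
    refine Finset.sum_congr rfl fun c _ => ?_
    rw [Equiv.coe_addLeft, map_smul, hadd, Module.End.mul_apply, smul_smul]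
    congr 1
    rw [← AddChar.map_add_eq_mul]
    congr 1
    ring
  · intro x hx
    rw [ep_apply]
    have : ∀ c : F, ψ (-(s * c)) • τ c x = x := by
      intro c
      rw [hx c, smul_smul, ← AddChar.map_add_eq_mul, neg_add_cancel, AddChar.map_zero_eq_one, one_smul]
    rw [Finset.sum_congr rfl (fun c _ => this c), Finset.sum_const, Finset.card_univ,
      ← Nat.cast_smul_eq_nsmul ℂ, smul_smul, inv_mul_cancel₀ hn, one_smul]

theorem sum_ep (ψ : AddChar F ℂ) (hψ : ψ ≠ 1) (τ : F → Module.End ℂ X) (h0 : τ 0 = 1) :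
    ∑ s : F, ep ψ τ s = 1 := by
  classical
  have hn : (Fintype.card F : ℂ) ≠ 0 := card_ne_zero
  unfold ep
  rw [← Finset.smul_sum, Finset.sum_comm]
  have h1 : ∀ c : F, ∑ s : F, ψ (-(s * c)) • τ c =
      (if c = 0 then (Fintype.card F : ℂ) else 0) • τ c := by
    intro c
    rw [← Finset.sum_smul]
    congr 1
    split_ifs with hc
    · subst hc
      simp
    · have := sum_mul_eq_zero ψ hψ (-c) (neg_ne_zero.mpr hc)
      rw [← this]
      refine Finset.sum_congr rfl fun s _ => ?_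
      congr 1
      ring
  rw [Finset.sum_congr rfl (fun c _ => h1 c)]
  simp only [ite_smul, zero_smul, Finset.sum_ite_eq', Finset.mem_univ, if_true]
  rw [h0, smul_smul, inv_mul_cancel₀ hn, one_smul]

end

end RDecomp

section R
variable {F : Type*} [Field F] [Fintype F]
variable {X : Type*} [AddCommGroup X] [Module ℂ X] [FiniteDimensional ℂ X]

/-- **[R-DECOMP]** a representation of the additive group of `F` is the direct sum of its weight spaces -/
theorem finrank_eq_sum_wtτ (ψ : AddChar F ℂ) (hψ : ψ ≠ 1) (τ : F → Module.End ℂ X) (h0 : τ 0 = 1)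
    (hadd : ∀ c d, τ (c + d) = τ c * τ d) :
    finrank ℂ X = ∑ s : F, finrank ℂ (wtτ τ ψ s) := by
  have h1 : LinearMap.trace ℂ X (∑ s : F, RDecomp.ep ψ τ s) = (finrank ℂ X : ℂ) := by
    rw [RDecomp.sum_ep ψ hψ τ h0, LinearMap.trace_one]
  rw [map_sum] at h1
  have h2 : ∀ s : F, LinearMap.trace ℂ X (RDecomp.ep ψ τ s) = (finrank ℂ (wtτ τ ψ s) : ℂ) :=
    fun s => (RDecomp.isProj_ep ψ τ hadd s).trace
  rw [Finset.sum_congr rfl (fun s _ => h2 s)] at h1
  have h3 : ((finrank ℂ X : ℕ) : ℂ) = ((∑ s : F, finrank ℂ (wtτ τ ψ s) : ℕ) : ℂ) := by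
    rw [← h1]
    push_cast
    rfl
  exact_mod_cast h3

end R

end Cfsg.Agent.Lib.Helper43.SPMD
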