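import Mathlib
import Cfsg.Agent.Lib.Helper43.SPMD.Defs
import Cfsg.Agent.Lib.Helper95.SumdRIso

/-!
# SPMD-[R-EIG] (helper43's project SPMD, S2347) (helper71)

`exists_wt_not_fixed`: a finite abelian subgroup acting non-trivially has a common eigenvector outside its
fixed space (refactor of helper95's `SumdRIso.lean`).
-/

set_option autoImplicit false
set_option linter.style.haveILetI false

namespace Cfsg.Agent.Lib.Helper43.SPMD

open Matrix Module Cfsg.Agent.Lib.Helper13 Cfsg.Agent.Lib.Helper43.SUMD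

section R
variable {X : Type*} [AddCommGroup X] [Module ℂ X] [FiniteDimensional ℂ X]

/-- **[R-EIG]** an abelian group acting non-trivially has a non-fixed common eigenvector -/
theorem exists_wt_not_fixed {G : Type*} [Group G] (ρ : Representation ℂ G X) (A : Subgroup G) [Finite A]
    (hA : ∀ a ∈ A, ∀ b ∈ A, a * b = b * a) (hnt : fixedSp ρ A ≠ ⊤) :
    ∃ (χ : ↥A →* ℂˣ) (x : X), x ≠ 0 ∧ x ∈ wtSp ρ A χ ∧ x ∉ fixedSp ρ A := by
  classical
  haveI : Fintype ↥A := Fintype.ofFinite _
  set τ : Representation ℂ ↥A X := ρ.comp A.subtype with hτ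
  have hτa : ∀ (a : ↥A) (x : X), τ a x = ρ (a : G) x := fun a x => rfl
  set e : Module.End ℂ X := RWt.eproj τ 1 with he
  have hproj : LinearMap.IsProj (RWt.wsp τ 1) e := RWt.isProj_eproj τ 1
  have hw1 : RWt.wsp τ 1 = fixedSp ρ A := by
    ext v
    rw [RWt.mem_wsp, mem_fixedSp]
    constructor
    · intro hv z hz
      have := hv ⟨z, hz⟩
      simpa [hτ] using this
    · intro hv z
      have := hv z z.2
      simpa [hτ] using this
  rw [hw1] at hproj
  have hK : LinearMap.ker e ≠ ⊥ := by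
    intro hK
    apply hnt
    have hinj : Function.Injective e := LinearMap.ker_eq_bot.mp hK
    have hsurj : Function.Surjective e := LinearMap.surjective_of_injective hinj
    rw [eq_top_iff]
    intro v _
    obtain ⟨x, rfl⟩ := hsurj v
    exact hproj.map_mem x
  set K : Submodule ℂ X := LinearMap.ker e with hKdef
  have hinv : ∀ (a : ↥A), ∀ x ∈ K, τ a x ∈ K := by
    intro a x hx
    rw [hKdef, LinearMap.mem_ker] at hx ⊢
    rw [he, RIso.eproj_one_comp τ a x]
    exact hx
  let τK : Representation ℂ ↥A ↥K :=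
    { toFun := fun a => (τ a).restrict (hinv a)
      map_one' := by
        ext u
        simp
      map_mul' := fun a b => by
        ext u
        simp }
  have hτK : ∀ (a : ↥A) (u : ↥K), ((τK a u : ↥K) : X) = ρ (a : G) (u : X) := fun a u => rfl
  haveI : Nontrivial ↥K := Submodule.nontrivial_iff_ne_bot.mpr hK
  have hcomm : ∀ a b : ↥A, τK a * τK b = τK b * τK a := by
    intro a b
    rw [← map_mul, ← map_mul]
    congr 1
    exact Subtype.ext (hA a a.2 b b.2)
  obtain ⟨χ₀, hχ₀⟩ := Cfsg.Agent.Lib.Helper63.HHIndLA.exists_common_eigenvector τK hcomm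
  obtain ⟨x, hx, hx0⟩ := Submodule.exists_mem_ne_zero_of_ne_bot hχ₀
  have hxe : ∀ a : ↥A, τK a x = χ₀ a • x := by
    intro a
    have := (Submodule.mem_iInf _).mp hx a
    exact Module.End.mem_eigenspace_iff.mp this
  have hxV : ∀ a : ↥A, ρ (a : G) (x : X) = χ₀ a • (x : X) := by
    intro a
    have := congrArg (fun w : ↥K => (w : X)) (hxe a)
    simpa [hτK] using this
  have hxV0 : (x : X) ≠ 0 := fun h => hx0 (Subtype.ext h)
  have h1 : χ₀ 1 = 1 := by
    have := hxV 1
    rw [OneMemClass.coe_one, map_one, Module.End.one_apply] at this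
    have h' : (χ₀ 1 - 1) • (x : X) = 0 := by rw [sub_smul, one_smul, ← this, sub_self]
    rcases smul_eq_zero.mp h' with h | h
    · exact sub_eq_zero.mp h
    · exact absurd h hxV0
  have hmul : ∀ a b : ↥A, χ₀ (a * b) = χ₀ a * χ₀ b := by
    intro a b
    have := hxV (a * b)
    rw [Subgroup.coe_mul, map_mul, Module.End.mul_apply, hxV b, map_smul, hxV a, smul_smul] at this
    have h' : (χ₀ (a * b) - χ₀ b * χ₀ a) • (x : X) = 0 := by rw [sub_smul, ← this, sub_self]
    rcases smul_eq_zero.mp h' with h | h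
    · rw [sub_eq_zero.mp h, mul_comm]
    · exact absurd h hxV0
  let f : ↥A →* ℂ := ⟨⟨χ₀, h1⟩, hmul⟩
  set χ : ↥A →* ℂˣ := f.toHomUnits with hχ
  have hχv : ∀ a : ↥A, ((χ a : ℂˣ) : ℂ) = χ₀ a := fun a => rfl
  refine ⟨χ, (x : X), hxV0, ?_, ?_⟩
  · rw [mem_wtSp]
    intro a
    rw [hχv]
    exact hxV a
  · intro hxfix
    have h4 : e (x : X) = (x : X) := hproj.map_id _ hxfix
    have h5 : e (x : X) = 0 := LinearMap.mem_ker.mp x.2
    exact hxV0 (h4.symm.trans h5)

end R

end Cfsg.Agent.Lib.Helper43.SPMD
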