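import Mathlib
import Cfsg.Agent.Lib.Helper71.SylAltDefs
import Cfsg.Agent.Lib.Helper50.SylAltSupp
import Cfsg.Agent.Lib.Helper3.SylAltWRB

set_option autoImplicit false

/-!
# S2221 module [NICE-CENTER]: the centre of an iterated wreath product `C₂ ≀ ⋯ ≀ C₂` has order 2
-/

namespace Cfsg.Agent.Lib.Helper71.SylAltCenter

open Equiv Cfsg.Agent.Lib.Helper71.SylAlt
open Cfsg.Agent.Lib.Helper50.SylAlt (commute_of_disjoint suppOn_map_conj)
open Cfsg.Agent.Lib.Helper3.SylAlt (swap_inv swap_disjoint swap_card suppOn_wr le_wr conj_le_wr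
  swap_mem_wr mem_wr_iff wr_normal_form_unique)

variable {α : Type*} [DecidableEq α] [Fintype α]

private theorem nice_card_set : ∀ (a : ℕ) (W : Subgroup (Perm α)) (Y : Finset α), Nice a W Y →
    Y.card = 2 ^ a := by
  intro a
  induction a with
  | zero =>
    intro W Y h
    obtain ⟨-, y, rfl⟩ := nice_zero_iff.mp h
    simp
  | succ a ih =>
    intro W Y h
    obtain ⟨W₁, Y₁, σ, h1, hσ, rfl, rfl⟩ := nice_succ_iff.mp h
    rw [swap_card hσ, ih W₁ Y₁ h1, pow_succ, mul_comm]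

private theorem nice_suppOn : ∀ (a : ℕ) (W : Subgroup (Perm α)) (Y : Finset α), Nice a W Y →
    SuppOn W Y := by
  intro a
  induction a with
  | zero =>
    intro W Y h
    obtain ⟨rfl, -⟩ := nice_zero_iff.mp h
    intro g hg x _
    rw [Subgroup.mem_bot] at hg
    rw [hg]; rfl
  | succ a ih =>
    intro W Y h
    obtain ⟨W₁, Y₁, σ, h1, hσ, rfl, rfl⟩ := nice_succ_iff.mp h
    exact suppOn_wr hσ (ih W₁ Y₁ h1)

private theorem conj_mem {σ : Perm α} {W : Subgroup (Perm α)} {v : Perm α} (hv : v ∈ W) :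
    σ * v * σ⁻¹ ∈ W.map (MulAut.conj σ).toMonoidHom :=
  ⟨v, hv, by simp [MulAut.conj_apply]⟩

/-- elements of `W` commute with elements of `σ W σ⁻¹` -/
private theorem comm_conj {σ : Perm α} {Y : Finset α} (h : IsSwapOf σ Y) {W : Subgroup (Perm α)}
    (hW : SuppOn W Y) {u v : Perm α} (hu : u ∈ W) (hv : v ∈ W) :
    u * (σ * v * σ⁻¹) = (σ * v * σ⁻¹) * u :=
  commute_of_disjoint hW (suppOn_map_conj σ hW) (swap_disjoint h) u hu _ (conj_mem hv)

private theorem sq_one {σ : Perm α} {Y : Finset α} (h : IsSwapOf σ Y) : σ * σ = 1 := h.1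

/-- the base case: `Nice 1 W Y` -/
private theorem center_one {W : Subgroup (Perm α)} {Y : Finset α} (h : Nice 1 W Y) :
    ∃ z ∈ W, z ≠ 1 ∧ (∀ g ∈ W, g * z = z * g) ∧
      (∀ c ∈ W, (∀ g ∈ W, g * c = c * g) → c = 1 ∨ c = z) := by
  obtain ⟨W₁, Y₁, σ, h1, hσ, rfl, rfl⟩ := nice_succ_iff.mp h
  obtain ⟨rfl, y, rfl⟩ := nice_zero_iff.mp h1
  have hS : SuppOn (⊥ : Subgroup (Perm α)) {y} := by
    intro g hg x _
    rw [Subgroup.mem_bot] at hg
    rw [hg]; rfl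
  have hmem : ∀ g, g ∈ wr (⊥ : Subgroup (Perm α)) σ ↔ g = 1 ∨ g = σ := by
    intro g
    rw [mem_wr_iff hσ hS]
    constructor
    · rintro ⟨u, hu, v, hv, hg | hg⟩
      · rw [Subgroup.mem_bot] at hu hv
        left; rw [hg, hu, hv]; simp
      · rw [Subgroup.mem_bot] at hu hv
        right; rw [hg, hu, hv]; simp
    · rintro (rfl | rfl)
      · exact ⟨1, Subgroup.one_mem _, 1, Subgroup.one_mem _, Or.inl (by simp)⟩
      · exact ⟨1, Subgroup.one_mem _, 1, Subgroup.one_mem _, Or.inr (by simp)⟩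
  have hne : σ ≠ 1 := by
    intro h1
    have := hσ.2.1 y (Finset.mem_singleton_self y)
    rw [h1] at this
    exact this (by simp)
  refine ⟨σ, (hmem σ).mpr (Or.inr rfl), hne, ?_, ?_⟩
  · intro g hg
    rcases (hmem g).mp hg with rfl | rfl
    · simp
    · rfl
  · intro c hc _
    exact (hmem c).mp hc

/-- the inductive step -/
private theorem center_step {W₁ : Subgroup (Perm α)} {Y₁ : Finset α} {σ : Perm α}
    (hσ : IsSwapOf σ Y₁) (hne : Y₁.Nonempty) (hS : SuppOn W₁ Y₁)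
    (z₁ : Perm α) (hz₁ : z₁ ∈ W₁) (hz₁ne : z₁ ≠ 1) (hz₁c : ∀ g ∈ W₁, g * z₁ = z₁ * g)
    (hz₁u : ∀ c ∈ W₁, (∀ g ∈ W₁, g * c = c * g) → c = 1 ∨ c = z₁) :
    ∃ z ∈ wr W₁ σ, z ≠ 1 ∧ (∀ g ∈ wr W₁ σ, g * z = z * g) ∧
      (∀ c ∈ wr W₁ σ, (∀ g ∈ wr W₁ σ, g * c = c * g) → c = 1 ∨ c = z) ∧ Perm.sign z = 1 := by
  have hinv : σ⁻¹ = σ := swap_inv hσ
  have hsq : σ * σ = 1 := hσ.1
  have h1W : (1 : Perm α) ∈ W₁ := Subgroup.one_mem _
  have hcc : ∀ {u v : Perm α}, u ∈ W₁ → v ∈ W₁ → u * (σ * v * σ⁻¹) = (σ * v * σ⁻¹) * u :=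
    fun hu hv => comm_conj hσ hS hu hv
  -- commuting facts for z
  obtain ⟨z, hz⟩ : ∃ z : Perm α, z = z₁ * (σ * z₁ * σ⁻¹) := ⟨_, rfl⟩
  have hzW : z ∈ wr W₁ σ := (mem_wr_iff hσ hS z).mpr ⟨z₁, hz₁, z₁, hz₁, Or.inl hz⟩
  have hzne : z ≠ 1 := by
    intro h1
    have h2 : z₁ * (σ * z₁ * σ⁻¹) = 1 * (σ * 1 * σ⁻¹) := by rw [← hz, h1]; simp
    exact hz₁ne ((wr_normal_form_unique hσ hne hS hz₁ hz₁ h1W h1W).1 h2).1
  -- z commutes with W₁
  have hzu : ∀ u ∈ W₁, u * z = z * u := by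
    intro u hu
    calc u * z = (u * z₁) * (σ * z₁ * σ⁻¹) := by rw [hz]; simp only [mul_assoc]
      _ = (z₁ * u) * (σ * z₁ * σ⁻¹) := by rw [hz₁c u hu]
      _ = z₁ * (u * (σ * z₁ * σ⁻¹)) := by simp only [mul_assoc]
      _ = z₁ * ((σ * z₁ * σ⁻¹) * u) := by rw [hcc hu hz₁]
      _ = z * u := by rw [hz]; simp only [mul_assoc]
  -- z commutes with σ
  have hzσ : σ * z = z * σ := by
    have e1 : σ * z = (σ * z₁ * σ⁻¹) * z₁ * σ := by
      rw [hz, hinv]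
      simp only [mul_assoc]
    rw [e1, ← hcc hz₁ hz₁, ← hz]
  -- z commutes with σ W₁ σ⁻¹
  have hzv : ∀ v ∈ W₁, (σ * v * σ⁻¹) * z = z * (σ * v * σ⁻¹) := by
    intro v hv
    have e1 : σ * v * σ⁻¹ * z = σ * (v * z) * σ⁻¹ := by
      have : z = σ * z * σ⁻¹ := by rw [hzσ]; simp
      conv_lhs => rw [this]
      simp only [mul_assoc, inv_mul_cancel_left]
    have e2 : z * (σ * v * σ⁻¹) = σ * (z * v) * σ⁻¹ := by
      have : z = σ * z * σ⁻¹ := by rw [hzσ]; simp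
      conv_lhs => rw [this]
      simp only [mul_assoc, inv_mul_cancel_left]
    rw [e1, e2, hzu v hv]
  have hzc : ∀ g ∈ wr W₁ σ, g * z = z * g := by
    intro g hg
    obtain ⟨u, hu, v, hv, rfl | rfl⟩ := (mem_wr_iff hσ hS g).mp hg
    · calc u * (σ * v * σ⁻¹) * z = u * ((σ * v * σ⁻¹) * z) := by simp only [mul_assoc]
        _ = u * (z * (σ * v * σ⁻¹)) := by rw [hzv v hv]
        _ = (u * z) * (σ * v * σ⁻¹) := by simp only [mul_assoc]
        _ = z * (u * (σ * v * σ⁻¹)) := by rw [hzu u hu]; simp only [mul_assoc]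
    · calc u * (σ * v * σ⁻¹) * σ * z = u * (σ * v * σ⁻¹) * (σ * z) := by simp only [mul_assoc]
        _ = u * (σ * v * σ⁻¹) * (z * σ) := by rw [hzσ]
        _ = u * ((σ * v * σ⁻¹) * z) * σ := by simp only [mul_assoc]
        _ = u * (z * (σ * v * σ⁻¹)) * σ := by rw [hzv v hv]
        _ = (u * z) * (σ * v * σ⁻¹) * σ := by simp only [mul_assoc]
        _ = z * (u * (σ * v * σ⁻¹) * σ) := by rw [hzu u hu]; simp only [mul_assoc]
  have hsign : Perm.sign z = 1 := by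
    rw [hz, map_mul, map_mul, map_mul, map_inv]
    have : Perm.sign σ * Perm.sign z₁ * (Perm.sign σ)⁻¹ = Perm.sign z₁ := by
      rw [mul_comm, ← mul_assoc, inv_mul_cancel, one_mul]
    rw [this]
    exact Int.units_mul_self _
  refine ⟨z, hzW, hzne, hzc, ?_, hsign⟩
  -- uniqueness
  intro c hc hcc'
  obtain ⟨u, hu, v, hv, rfl | rfl⟩ := (mem_wr_iff hσ hS c).mp hc
  · -- c = u * (σ v σ⁻¹)
    -- u is central in W₁
    have hucent : ∀ g ∈ W₁, g * u = u * g := by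
      intro g hg
      have h1 := hcc' g (le_wr W₁ σ hg)
      -- g * (u * (σ v σ⁻¹)) = (u * (σ v σ⁻¹)) * g = (u * g) * (σ v σ⁻¹)
      have h2 : (g * u) * (σ * v * σ⁻¹) = (u * g) * (σ * v * σ⁻¹) := by
        calc (g * u) * (σ * v * σ⁻¹) = g * (u * (σ * v * σ⁻¹)) := by simp only [mul_assoc]
          _ = u * (σ * v * σ⁻¹) * g := h1
          _ = u * ((σ * v * σ⁻¹) * g) := by simp only [mul_assoc]
          _ = u * (g * (σ * v * σ⁻¹)) := by rw [hcc hg hv]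
          _ = (u * g) * (σ * v * σ⁻¹) := by simp only [mul_assoc]
      exact ((wr_normal_form_unique hσ hne hS (W₁.mul_mem hg hu) hv (W₁.mul_mem hu hg) hv).1 h2).1
    have hvcent : ∀ g ∈ W₁, g * v = v * g := by
      intro g hg
      have h1 := hcc' (σ * g * σ⁻¹) (conj_le_wr W₁ σ (conj_mem hg))
      have h2 : u * (σ * (g * v) * σ⁻¹) = u * (σ * (v * g) * σ⁻¹) := by
        calc u * (σ * (g * v) * σ⁻¹) = u * ((σ * g * σ⁻¹) * (σ * v * σ⁻¹)) := by
              simp only [mul_assoc, inv_mul_cancel_left]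
          _ = (u * (σ * g * σ⁻¹)) * (σ * v * σ⁻¹) := by simp only [mul_assoc]
          _ = ((σ * g * σ⁻¹) * u) * (σ * v * σ⁻¹) := by rw [hcc hu hg]
          _ = (σ * g * σ⁻¹) * (u * (σ * v * σ⁻¹)) := by simp only [mul_assoc]
          _ = u * (σ * v * σ⁻¹) * (σ * g * σ⁻¹) := h1
          _ = u * (σ * (v * g) * σ⁻¹) := by simp only [mul_assoc, inv_mul_cancel_left]
      exact ((wr_normal_form_unique hσ hne hS hu (W₁.mul_mem hg hv) hu (W₁.mul_mem hv hg)).1 h2).2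
    -- σ commutes with c, hence u = v
    have huv : v = u := by
      have h1 := hcc' σ (swap_mem_wr W₁ σ)
      -- σ * c * σ⁻¹ = c, and σ c σ⁻¹ = (σ u σ⁻¹) * v = v * (σ u σ⁻¹)
      have h2 : v * (σ * u * σ⁻¹) = u * (σ * v * σ⁻¹) := by
        calc v * (σ * u * σ⁻¹) = (σ * u * σ⁻¹) * v := hcc hv hu
          _ = (σ * (u * (σ * v * σ⁻¹))) * σ⁻¹ := by
              rw [hinv]
              calc σ * u * σ * v = σ * u * σ * v * (σ * σ) := by rw [hsq, mul_one]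
                _ = σ * (u * (σ * v * σ)) * σ := by simp only [mul_assoc]
          _ = (u * (σ * v * σ⁻¹) * σ) * σ⁻¹ := by rw [h1]
          _ = u * (σ * v * σ⁻¹) := by rw [mul_inv_cancel_right]
      exact ((wr_normal_form_unique hσ hne hS hv hu hu hv).1 h2).1
    subst huv
    rcases hz₁u v hv hvcent with rfl | rfl
    · left; simp
    · right; exact hz.symm
  · -- c = u * (σ v σ⁻¹) * σ : impossible
    exfalso
    have h1 := hcc' z₁ (le_wr W₁ σ hz₁)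
    -- z₁ * c = (z₁ u) (σ v σ⁻¹) σ ; c * z₁ = u (σ (v z₁) σ⁻¹) σ
    have h2 : (z₁ * u) * (σ * v * σ⁻¹) * σ = u * (σ * (v * z₁) * σ⁻¹) * σ := by
      calc (z₁ * u) * (σ * v * σ⁻¹) * σ = z₁ * (u * (σ * v * σ⁻¹) * σ) := by
            simp only [mul_assoc]
        _ = u * (σ * v * σ⁻¹) * σ * z₁ := h1
        _ = u * (σ * (v * z₁) * σ⁻¹) * σ := by
            rw [hinv]
            calc u * (σ * v * σ) * σ * z₁ = u * (σ * v * (σ * σ) * z₁) := by
                  simp only [mul_assoc]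
              _ = u * (σ * v * z₁ * (σ * σ)) := by rw [hsq, mul_one, mul_one]
              _ = u * (σ * (v * z₁) * σ) * σ := by simp only [mul_assoc]
    have h3 := ((wr_normal_form_unique hσ hne hS (W₁.mul_mem hz₁ hu) hv hu
      (W₁.mul_mem hv hz₁)).2.1 h2).2
    -- v = v * z₁
    have : z₁ = 1 := by
      have h4 : v * 1 = v * z₁ := by rw [mul_one]; exact h3
      exact (mul_left_cancel h4).symm
    exact hz₁ne this

theorem nice_center_aux : ∀ (a : ℕ) (W : Subgroup (Perm α)) (Y : Finset α), Nice (a + 1) W Y →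
    ∃ z ∈ W, z ≠ 1 ∧ (∀ g ∈ W, g * z = z * g) ∧
      (∀ c ∈ W, (∀ g ∈ W, g * c = c * g) → c = 1 ∨ c = z) ∧ (1 ≤ a → Perm.sign z = 1) := by
  intro a
  induction a with
  | zero =>
    intro W Y h
    obtain ⟨z, hz, h1, h2, h3⟩ := center_one h
    exact ⟨z, hz, h1, h2, h3, fun h => absurd h (by norm_num)⟩
  | succ a ih =>
    intro W Y h
    obtain ⟨W₁, Y₁, σ, hN, hσ, rfl, rfl⟩ := nice_succ_iff.mp h
    obtain ⟨z₁, hz₁, hz₁ne, hz₁c, hz₁u, -⟩ := ih W₁ Y₁ hN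
    have hne : Y₁.Nonempty := by
      rw [← Finset.card_pos, nice_card_set _ _ _ hN]; positivity
    obtain ⟨z, hz, h1, h2, h3, h4⟩ :=
      center_step hσ hne (nice_suppOn _ _ _ hN) z₁ hz₁ hz₁ne hz₁c hz₁u
    exact ⟨z, hz, h1, h2, h3, fun _ => h4⟩

theorem nice_center {a : ℕ} {W : Subgroup (Perm α)} {Y : Finset α} (h : Nice a W Y) (ha : 1 ≤ a) :
    ∃ z ∈ W, z ≠ 1 ∧ (∀ g ∈ W, g * z = z * g) ∧
      (∀ c ∈ W, (∀ g ∈ W, g * c = c * g) → c = 1 ∨ c = z) ∧ (2 ≤ a → Perm.sign z = 1) := by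
  obtain ⟨b, rfl⟩ : ∃ b, a = b + 1 := ⟨a - 1, by omega⟩
  obtain ⟨z, hz, h1, h2, h3, h4⟩ := nice_center_aux b W Y h
  exact ⟨z, hz, h1, h2, h3, fun h => h4 (by omega)⟩

theorem nice_center_sub {a : ℕ} {W : Subgroup (Perm α)} {Y : Finset α} (h : Nice a W Y)
    (ha : 1 ≤ a) : ∃ z : ↥W, ∀ c : ↥W, (∀ g : ↥W, g * c = c * g) → c = 1 ∨ c = z := by
  obtain ⟨z, hz, -, -, h3, -⟩ := nice_center h ha
  refine ⟨⟨z, hz⟩, fun c hc => ?_⟩
  rcases h3 c.1 c.2 (fun g hg => by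
    have := hc ⟨g, hg⟩
    exact congrArg Subtype.val this) with h1 | h1
  · left; exact Subtype.ext h1
  · right; exact Subtype.ext h1

end Cfsg.Agent.Lib.Helper71.SylAltCenter
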