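import Mathlib
import Cfsg.Agent.Lib.Helper71.SylAltDefs
import Cfsg.Agent.Lib.Helper3.SylAltWRA

set_option autoImplicit false

/-!
# S2221 module [NICE-ODD]: an iterated wreath product `C₂ ≀ ⋯ ≀ C₂` contains an odd permutation
-/

namespace Cfsg.Agent.Lib.Helper71.SylAltOdd

open Equiv Cfsg.Agent.Lib.Helper71.SylAlt
open Cfsg.Agent.Lib.Helper3.SylAlt (swap_mem_wr swap_sign le_wr)

variable {α : Type*} [DecidableEq α] [Fintype α]

theorem nice_odd_aux : ∀ (a : ℕ) (W : Subgroup (Perm α)) (Y : Finset α), Nice (a + 1) W Y →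
    ∃ t ∈ W, Perm.sign t = -1 := by
  intro a
  induction a with
  | zero =>
    intro W Y h
    obtain ⟨W₁, Y₁, σ, h1, hσ, rfl, rfl⟩ := nice_succ_iff.mp h
    obtain ⟨rfl, y, rfl⟩ := nice_zero_iff.mp h1
    refine ⟨σ, swap_mem_wr _ σ, ?_⟩
    rw [swap_sign hσ, Finset.card_singleton, pow_one]
  | succ a ih =>
    intro W Y h
    obtain ⟨W₁, Y₁, σ, h1, hσ, rfl, rfl⟩ := nice_succ_iff.mp h
    obtain ⟨t, ht, hts⟩ := ih W₁ Y₁ h1
    exact ⟨t, le_wr W₁ σ ht, hts⟩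

theorem nice_odd {a : ℕ} {W : Subgroup (Perm α)} {Y : Finset α} (h : Nice a W Y) (ha : 1 ≤ a) :
    ∃ t ∈ W, Perm.sign t = -1 := by
  obtain ⟨b, rfl⟩ : ∃ b, a = b + 1 := ⟨a - 1, by omega⟩
  exact nice_odd_aux b W Y h

end Cfsg.Agent.Lib.Helper71.SylAltOdd
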