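import Mathlib
import Cfsg.Agent.Lib.Helper71.SylAltDefs
import Cfsg.Agent.Lib.Helper71.SylAltOdd
import Cfsg.Agent.Lib.Helper71.SylAltCenter
import Cfsg.Agent.Lib.Helper49.SylAltNiceBasic
import Cfsg.Agent.Lib.Helper49.SylAltNiceEvCenter
import Cfsg.Agent.Lib.Helper68.SylAltAGBasic

set_option autoImplicit false

/-!
# S2221 module [NICE-GOOD]: packaging of the properties of the components
-/

namespace Cfsg.Agent.Lib.Helper71.SylAltGood

open Equiv Cfsg.Agent.Lib.Helper71.SylAlt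
open Cfsg.Agent.Lib.Helper71.SylAltOdd (nice_odd)
open Cfsg.Agent.Lib.Helper71.SylAltCenter (nice_center)
open Cfsg.Agent.Lib.Helper49.SylAlt (nice_card nice_evcenter)
open Cfsg.Agent.Lib.Helper68.SylAlt (not_decompGroup_of_center)

variable {α : Type*} [DecidableEq α] [Fintype α]

theorem nice_isPGroup {a : ℕ} {W : Subgroup (Perm α)} {Y : Finset α} (h : Nice a W Y) :
    IsPGroup 2 ↥W :=
  IsPGroup.of_card (nice_card h)

theorem nice_goodComp {a : ℕ} {W : Subgroup (Perm α)} {Y : Finset α} (h : Nice a W Y) (ha : 2 ≤ a) :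
    GoodComp ↥W ((Perm.sign).comp W.subtype) := by
  refine ⟨nice_isPGroup h, ?_, ?_, ?_⟩
  · obtain ⟨t, ht, hts⟩ := nice_odd h (by omega)
    exact ⟨⟨t, ht⟩, hts⟩
  · obtain ⟨z, hz, hz1, hzc, hzu, hzs⟩ := nice_center h (by omega)
    refine ⟨⟨z, hz⟩, ?_, hzs ha, ?_, ?_⟩
    · intro h1
      exact hz1 (congrArg Subtype.val h1)
    · intro g
      exact Subtype.ext (hzc g.1 g.2)
    · intro c hc
      rcases hzu c.1 c.2 (fun g hg => congrArg Subtype.val (hc ⟨g, hg⟩)) with h1 | h1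
      · left; exact Subtype.ext h1
      · right; exact Subtype.ext h1
  · rw [nice_card h]
    have h1 : 2 ^ 2 ≤ 2 ^ a := Nat.pow_le_pow_right (by norm_num) ha
    have h2 : 3 ≤ 2 ^ a - 1 := by omega
    calc 8 = 2 ^ 3 := by norm_num
      _ ≤ 2 ^ (2 ^ a - 1) := Nat.pow_le_pow_right (by norm_num) h2

theorem nice_ev_not_decomp {a : ℕ} {W : Subgroup (Perm α)} {Y : Finset α} (h : Nice a W Y)
    (ha : 3 ≤ a) : ¬ DecompGroup ↥(W ⊓ alternatingGroup α) := by
  obtain ⟨z, hz, hz1, hzc, hzu, hzs⟩ := nice_center h (by omega)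
  have hzs' : Perm.sign z = 1 := hzs (by omega)
  have hzK : z ∈ W ⊓ alternatingGroup α :=
    Subgroup.mem_inf.mpr ⟨hz, Perm.mem_alternatingGroup.mpr hzs'⟩
  have hp : IsPGroup 2 ↥(W ⊓ alternatingGroup α) :=
    (nice_isPGroup h).to_le inf_le_left
  refine not_decompGroup_of_center hp ⟨z, hzK⟩ ?_
  intro c hc
  have hcW : c.1 ∈ W := (Subgroup.mem_inf.mp c.2).1
  have hcs : Perm.sign c.1 = 1 := Perm.mem_alternatingGroup.mp (Subgroup.mem_inf.mp c.2).2
  have hcev : ∀ g ∈ W, Perm.sign g = 1 → g * c.1 = c.1 * g := by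
    intro g hg hgs
    have := hc ⟨g, Subgroup.mem_inf.mpr ⟨hg, Perm.mem_alternatingGroup.mpr hgs⟩⟩
    exact congrArg Subtype.val this
  have hcall := nice_evcenter h ha c.1 hcW hcs hcev
  rcases hzu c.1 hcW hcall with h1 | h1
  · left; exact Subtype.ext h1
  · right; exact Subtype.ext h1

end Cfsg.Agent.Lib.Helper71.SylAltGood
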