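import Mathlib
import Cfsg.Prelude.Def_GeometricClasses
import Cfsg.Agent.Lib.Helper41.TW3.Group

/-!
# Project BHRSP, module [E-SP8-TW3], sub-sheet leaf TW3-[R8-FORM] (helper71, hedge of helper33's row)

`Mᵀ (G ⊗ G ⊗ G) M = G ⊗ G ⊗ G` for `M ∈ R8set`, `G` an alternating `2 × 2` matrix.
-/

set_option autoImplicit false

namespace Cfsg.Agent.Lib.Helper71.TW3R8Form

open Cfsg Cfsg.Geo Cfsg.Agent.Lib.Helper41.TW3 Cfsg.Agent.Lib.Helper15.AschSlotNorm Cfsg.Agent.Lib.Helper15.AschUPure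
open scoped MatrixGroups Matrix

variable {F : Type*} [Field F]

/-- **TW3-[R8-FORM]** (exact sheet statement). -/
theorem R8set_form (h3 : (3 : F) = 0) (G : Matrix (Fin 2) (Fin 2) F) (hG0 : G 0 0 = 0) (hG1 : G 1 1 = 0) (hG : G 1 0 = -G 0 1)
    {M : Matrix I8 I8 F} (hM : M ∈ R8set) : Mᵀ * PT (fun _ : Fin 3 => G) * M = PT (fun _ : Fin 3 => G) := by
  obtain ⟨q, hq, rfl⟩ := hM
  rw [PT_transpose, PT_mul, PT_mul]
  congr 1
  funext i
  rw [transpose_mul_alt G (q i) hG0 hG1 hG, det_of_mem_Q8set h3 (hq i), one_smul]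

end Cfsg.Agent.Lib.Helper71.TW3R8Form
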