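import Mathlib
import Cfsg.Prelude.Def_GeometricClasses
import Cfsg.Agent.Lib.Helper41.TW3.Group
import Cfsg.Agent.Lib.Helper71.BhrSp4R0Str

/-!
# Project BHRSP, module [E-SP8-TW3], sub-sheet leaf TW3-[R8-SYMP] (helper71, hedge of helper33's row)

`R0 = Q_8 ⊗ Q_8 ⊗ Q_8 ≤ GL_8(3)` is a `2`-group of symplectic type and exponent `4`.

Route: the abstract lemma `Cfsg.Agent.Lib.Helper71.BhrSp4R0Str.subset_pair_of_characteristic` (transvection automorphisms
`x ↦ x` or `x * u`, `u * u = c`): an element `s • PE v` commuting with every `u = PE (update 0 i b)` (`b ≠ 0`, of square `-1`)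
has `v = 0` by `PE_mul_comm`.
-/

set_option autoImplicit false

namespace Cfsg.Agent.Lib.Helper71.TW3R8Symp

open Cfsg Cfsg.Geo Cfsg.Agent.Lib.Helper41.TW3 Cfsg.Agent.Lib.Helper15.AschSlotNorm Cfsg.Agent.Lib.Helper15.AschUPure
open Cfsg.Agent.Lib.Helper71.BhrSp4R0Str (ne_neg_of_sq subset_pair_of_characteristic isCyclic_of_subset_pair)
open scoped MatrixGroups Matrix

variable {F : Type*} [Field F]

/-- the matrix of an element of `R0`. -/
def mat (x : (R0 : Subgroup (GL I8 F))) : Matrix I8 I8 F := ((x : GL I8 F) : Matrix I8 I8 F)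

theorem mat_mul (x y : (R0 : Subgroup (GL I8 F))) : mat (x * y) = mat x * mat y := by
  unfold mat
  rw [Subgroup.coe_mul, Units.val_mul]

theorem mat_one : mat (1 : (R0 : Subgroup (GL I8 F))) = 1 := by
  unfold mat
  rw [Subgroup.coe_one, Units.val_one]

theorem mat_injective (x y : (R0 : Subgroup (GL I8 F))) (h : mat x = mat y) : x = y :=
  Subtype.ext (Units.ext h)

theorem mat_mem (h3 : (3 : F) = 0) (x : (R0 : Subgroup (GL I8 F))) : mat x ∈ R8set :=
  (mem_R0_iff h3 _).mp x.2

theorem exists_of_mem (h3 : (3 : F) = 0) {M : Matrix I8 I8 F} (hM : M ∈ R8set) :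
    ∃ x : (R0 : Subgroup (GL I8 F)), mat x = M := by
  obtain ⟨g, hg⟩ := exists_unit_of_mem_R8set h3 hM
  exact ⟨⟨g, (mem_R0_iff h3 g).mpr (by rw [hg]; exact hM)⟩, hg⟩

theorem prod_pm (f : Fin 3 → F) (hf : ∀ i, f i = 1 ∨ f i = -1) : ∏ i, f i = 1 ∨ ∏ i, f i = -1 := by
  rw [Fin.prod_univ_three]
  rcases hf 0 with h0 | h0 <;> rcases hf 1 with h1 | h1 <;> rcases hf 2 with h2 | h2 <;> rw [h0, h1, h2] <;> simp

/-- two elements of `R8set` commute up to sign. -/
theorem R8set_comm_or (h3 : (3 : F) = 0) {M N : Matrix I8 I8 F} (hM : M ∈ R8set) (hN : N ∈ R8set) :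
    M * N = N * M ∨ M * N = -(N * M) := by
  rw [mem_R8set_iff] at hM hN
  obtain ⟨s, v, -, rfl⟩ := hM
  obtain ⟨t, w, -, rfl⟩ := hN
  rw [Matrix.smul_mul, Matrix.mul_smul, Matrix.smul_mul, Matrix.mul_smul, PE_mul_comm h3 v w]
  rcases prod_pm (fun i => csgn (F := F) (v i) (w i)) (fun i => csgn_eq _ _) with h | h
  · left
    rw [h, one_smul, smul_comm]
  · right
    rw [h, neg_smul, one_smul, smul_neg, smul_neg, smul_comm]

/-- the element `PE (update 0 i b)`, `b ≠ 0`, has square `-1`. -/
theorem PE_single_sq (h3 : (3 : F) = 0) (i : Fin 3) (b : Fin 4) (hb : b ≠ 0) :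
    (PE (Function.update (fun _ => 0) i b) : Matrix I8 I8 F) * PE (Function.update (fun _ => 0) i b) = -1 := by
  rw [PE_mul_PE h3]
  have hk : (fun j => kadd (Function.update (fun _ => (0 : Fin 4)) i b j) (Function.update (fun _ => (0 : Fin 4)) i b j)) =
      fun _ => 0 := by
    funext j; exact kadd_self _
  rw [hk, PE_zero]
  have hp : ∏ j, esgn (F := F) (Function.update (fun _ => (0 : Fin 4)) i b j) (Function.update (fun _ => (0 : Fin 4)) i b j) =
      -1 := by
    rw [Finset.prod_eq_single i]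
    · rw [Function.update_self]
      revert hb
      fin_cases b <;> simp [esgn]
    · intro j _ hj
      rw [Function.update_of_ne hj]
      simp [esgn]
    · intro h; exact absurd (Finset.mem_univ i) h
  rw [hp, neg_smul, one_smul]

/-- `PE v` anticommutes with `PE (update 0 i b)` when `v i ≠ 0`, `b ≠ 0`, `b ≠ v i`. -/
theorem PE_anticomm (h3 : (3 : F) = 0) (v : Fin 3 → Fin 4) (i : Fin 3) (b : Fin 4) (hv : v i ≠ 0) (hb : b ≠ 0)
    (hbv : v i ≠ b) :
    (PE v : Matrix I8 I8 F) * PE (Function.update (fun _ => 0) i b) =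
      -(PE (Function.update (fun _ => 0) i b) * PE v) := by
  rw [PE_mul_comm h3]
  have hp : ∏ j, csgn (F := F) (v j) (Function.update (fun _ => (0 : Fin 4)) i b j) = -1 := by
    rw [Finset.prod_eq_single i]
    · rw [Function.update_self]
      unfold csgn
      rw [if_neg]
      push Not
      exact ⟨hv, hb, hbv⟩
    · intro j _ hj
      rw [Function.update_of_ne hj]
      simp [csgn]
    · intro h; exact absurd (Finset.mem_univ i) h
  rw [hp, neg_smul, one_smul]

theorem PE_mem_R8set (v : Fin 3 → Fin 4) : (PE v : Matrix I8 I8 F) ∈ R8set := by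
  rw [mem_R8set_iff]
  exact ⟨1, v, Or.inl rfl, by rw [one_smul]⟩

theorem exists_other (a : Fin 4) : ∃ b : Fin 4, b ≠ 0 ∧ a ≠ b := by
  revert a; decide

/-- **TW3-[R8-SYMP]** (exact sheet statement). -/
theorem isSymplecticTypeGroup_R0 [Fintype F] (hq : Fintype.card F = 3) :
    IsSymplecticTypeGroup 2 (R0 : Subgroup (GL I8 F)) := by
  have h3 : (3 : F) = 0 := three_eq_zero hq
  have h2 : (2 : F) ≠ 0 := two_ne_zero' h3
  obtain ⟨c, hcm⟩ := exists_of_mem h3 (neg_one_mem_R8set (F := F))
  have hc1 : c ≠ 1 := by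
    intro h
    have h1 : (-1 : Matrix I8 I8 F) = 1 := by rw [← hcm, h, mat_one]
    exact ne_neg_of_sq h2 (1 : Matrix I8 I8 F) (Or.inl (Matrix.mul_one 1)) h1.symm
  have hc : ∀ x, c * x = x * c := by
    intro x
    apply mat_injective
    rw [mat_mul, mat_mul, hcm, neg_mul, mul_neg, Matrix.one_mul, Matrix.mul_one]
  have hcc : c * c = 1 := by
    apply mat_injective
    rw [mat_mul, hcm, mat_one, neg_mul, mul_neg, Matrix.one_mul, neg_neg]
  have hcomm : ∀ x y : (R0 : Subgroup (GL I8 F)), x * y = y * x ∨ x * y = c * (y * x) := by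
    intro x y
    rcases R8set_comm_or h3 (mat_mem h3 x) (mat_mem h3 y) with h | h
    · left
      apply mat_injective
      rw [mat_mul, mat_mul, h]
    · right
      apply mat_injective
      rw [mat_mul, mat_mul, mat_mul, hcm, h, neg_mul, Matrix.one_mul]
  have hsq : ∀ x : (R0 : Subgroup (GL I8 F)), x * x = 1 ∨ x * x = c := by
    intro x
    rcases sq_of_mem_R8set h3 (mat_mem h3 x) with h | h
    · left
      apply mat_injective
      rw [mat_mul, mat_one, h]
    · right
      apply mat_injective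
      rw [mat_mul, hcm, h]
  have hpow4 : ∀ x : (R0 : Subgroup (GL I8 F)), x ^ 4 = 1 := by
    intro x
    have h4 : x ^ 4 = (x * x) * (x * x) := by
      rw [pow_succ, pow_succ, pow_succ, pow_one, mul_assoc]
    rw [h4]
    rcases hsq x with h | h <;> rw [h]
    · exact mul_one 1
    · exact hcc
  have hgen : ∀ a : (R0 : Subgroup (GL I8 F)), (∀ u, u * u = c → a * u = u * a) → a = 1 ∨ a = c := by
    intro a ha
    have hma := mat_mem h3 a
    rw [mem_R8set_iff] at hma
    obtain ⟨s, v, hs, hav⟩ := hma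
    have hv : v = fun _ => 0 := by
      by_contra hne
      have : ∃ i, v i ≠ 0 := by
        by_contra hcon
        push Not at hcon
        exact hne (funext hcon)
      obtain ⟨i, hi⟩ := this
      obtain ⟨b, hb, hbv⟩ := exists_other (v i)
      obtain ⟨u, hu⟩ := exists_of_mem h3 (PE_mem_R8set (F := F) (Function.update (fun _ => 0) i b))
      have hu2 : u * u = c := by
        apply mat_injective
        rw [mat_mul, hu, hcm, PE_single_sq h3 i b hb]
      have h1 := congrArg mat (ha u hu2)
      rw [mat_mul, mat_mul, hav, hu, Matrix.smul_mul, Matrix.mul_smul, PE_anticomm h3 v i b hi hb hbv, smul_neg] at h1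
      -- `-X = X` with `X = s • (PE w * PE v)` in `R8set`
      have hX : s • ((PE (Function.update (fun _ => 0) i b) : Matrix I8 I8 F) * PE v) ∈ R8set := by
        have := mul_mem_R8set h3 (mat_mem h3 u) (mat_mem h3 a)
        rw [hu, hav, Matrix.mul_smul] at this
        exact this
      exact ne_neg_of_sq h2 _ (sq_of_mem_R8set h3 hX) h1.symm
    rw [hv, PE_zero] at hav
    rcases hs with h | h
    · left
      apply mat_injective
      rw [hav, h, one_smul, mat_one]
    · right
      apply mat_injective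
      rw [hav, h, neg_smul, one_smul, hcm]
  have hfin : Finite (R0 : Subgroup (GL I8 F)) := inferInstance
  refine ⟨Nat.prime_two, ?_, ?_, ?_⟩
  · intro g
    exact ⟨2, hpow4 g⟩
  · intro A hA hAc
    apply isCyclic_of_subset_pair c A
    refine subset_pair_of_characteristic c hc hcc hcomm hgen A hA ?_
    intro x hx y hy
    have := hAc.is_comm.comm ⟨x, hx⟩ ⟨y, hy⟩
    exact congrArg Subtype.val this
  · have h4 : (2 * Nat.gcd 2 2 : ℕ) = 4 := by norm_num
    rw [h4]
    apply Nat.dvd_antisymm
    · exact Monoid.exponent_dvd_of_forall_pow_eq_one hpow4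
    · obtain ⟨u, hu⟩ := exists_of_mem h3 (PE_mem_R8set (F := F) (Function.update (fun _ => 0) 0 1))
      have hu2 : u * u = c := by
        apply mat_injective
        rw [mat_mul, hu, hcm, PE_single_sq h3 0 1 (by decide)]
      have h1 : orderOf u = 2 ^ (1 + 1) := by
        apply orderOf_eq_prime_pow
        · rw [pow_one, pow_two, hu2]
          exact hc1
        · exact hpow4 u
      have h5 : orderOf u = 4 := by rw [h1]; norm_num
      have h6 := Monoid.order_dvd_exponent u
      rwa [h5] at h6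

end Cfsg.Agent.Lib.Helper71.TW3R8Symp
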